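import Groth.Agent.DCohPerf.Summand
import Groth.Agent.QCohLib.Coherent
import Groth.Agent.QCohLib.CohLocal

/-!
Perfect objects on locally Noetherian schemes have coherent cohomology; boundedness.
-/

set_option autoImplicit false

universe u

open CategoryTheory CategoryTheory.Limits CategoryTheory.Pretriangulated AlgebraicGeometry TopologicalSpace
  HomologicalComplex

attribute [local instance] HasDerivedCategory.standard

namespace Groth.Agent.DCohPerf

variable {X Y : Scheme.{u}}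

lemma isFP_free (n : ℕ) : CohB1.IsFP (FlatMod.freeMod X n) := by
  refine isFP_of_locally _ fun x => ⟨X, 𝟙 X, inferInstance, x, rfl, 0, n, 0,
    (LocFree.restrictFreeIso (𝟙 X) n).inv, zero_comp, ?_, inferInstance⟩
  have : Mono (ShortComplex.mk (0 : FlatMod.freeMod X 0 ⟶ FlatMod.freeMod X n)
      (LocFree.restrictFreeIso (𝟙 X) n).inv zero_comp).g :=
    inferInstanceAs (Mono (LocFree.restrictFreeIso (𝟙 X) n).inv)
  exact (ShortComplex.exact_iff_mono _ rfl).2 this

lemma isCoh_finLocFree {E : X.Modules} (h : FlatMod.IsFinLocFree E) : Coh.IsCoh E :=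
  QCohLib.isCoh_of_isFP (isFP_local fun x => by
    obtain ⟨W, j, hj, w, hw, n, ⟨e⟩⟩ := exists_free h x
    exact ⟨W, j, hj, w, hw, isFP_of_iso e.symm (isFP_free n)⟩)

lemma isCoh_homology [IsLocallyNoetherian X] {E : CochainComplex X.Modules ℤ} (h : ∀ i, Coh.IsCoh (E.X i)) (i : ℤ) :
    Coh.IsCoh (E.homology i) := by
  have hz : Coh.IsCoh (E.cycles i) :=
    QCohLib.isCoh_of_iso ((kernelIsKernel _).conePointUniqueUpToIso (E.cyclesIsKernel i (i + 1) (by simp)))
      (QCohLib.isCoh_kernel (E.d i (i + 1)) (h i) (h (i + 1)).1)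
  exact QCohLib.isCoh_of_iso
    ((cokernelIsCokernel _).coconePointUniqueUpToIso (E.homologyIsCokernel (i - 1) i (by simp)))
    (QCohLib.isCoh_cokernel (E.toCycles (i - 1) i) (h (i - 1)).1 hz)

theorem isCohD_of_isPerfect [IsLocallyNoetherian X] {K : DCoh.D X} (h : DCoh.IsPerfect K) : DCoh.IsCohD K := by
  intro i
  choose W j hj w hw hs using (isPerfect_iff K).1 h
  refine QCohLib.isCoh_of_cover j (fun x => ⟨x, w x, hw x⟩) fun x => ?_
  obtain ⟨E, hE, ⟨e⟩⟩ := hs x
  have : IsLocallyNoetherian (W x) := isLocallyNoetherian_of_isOpenImmersion (j x)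
  exact QCohLib.isCoh_of_iso ((DerivedCategory.homologyFunctorFactors (W x).Modules i).symm.app E ≪≫
    (DerivedCategory.homologyFunctor (W x).Modules i).mapIso e ≪≫ (homology_restrict (j x) K i).some)
    (isCoh_homology (fun k => isCoh_finLocFree (hE.2 k)) i)

lemma isZero_of_cover {ι : Type*} {W : ι → Scheme.{u}} (j : ∀ i, W i ⟶ X) [∀ i, IsOpenImmersion (j i)]
    (hj : ∀ x : X, ∃ i, x ∈ (j i).opensRange) {M : X.Modules} (h : ∀ i, IsZero ((rF (j i)).obj M)) : IsZero M := by
  rw [IsZero.iff_id_eq_zero]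
  refine Scheme.Modules.hom_ext _ _ fun U => ?_
  ext s
  refine TopCat.Sheaf.eq_of_locally_eq' ⟨M.presheaf, M.isSheaf⟩
    (fun p : ι × (Opens X) => ((j p.1).opensRange ⊓ U : X.Opens)) U (fun p => homOfLE inf_le_right) ?_ _ _
    fun p => ?_
  · intro x hx
    obtain ⟨i, hi⟩ := hj x
    exact Opens.mem_iSup.2 ⟨⟨i, ⊤⟩, hi, hx⟩
  · have hle : ((j p.1).opensRange ⊓ U : X.Opens) ≤ (j p.1).opensRange := inf_le_left
    have := QCohLib.subsingleton_sections_of_isZero (h p.1) ((j p.1) ⁻¹ᵁ ((j p.1).opensRange ⊓ U))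
    have hV : (j p.1) ''ᵁ ((j p.1) ⁻¹ᵁ ((j p.1).opensRange ⊓ U)) = ((j p.1).opensRange ⊓ U) := by
      rw [Scheme.Hom.image_preimage_eq_opensRange_inf, inf_eq_right.2 hle]
    have : Subsingleton Γ(M, ((j p.1).opensRange ⊓ U)) := hV ▸ this
    exact Subsingleton.elim _ _

theorem exists_bounds_of_isPerfect [CompactSpace X] {K : DCoh.D X} (h : DCoh.IsPerfect K) :
    ∃ a b : ℤ, K.IsGE a ∧ K.IsLE b := by
  choose W j hj w hw hs using (isPerfect_iff K).1 h
  choose E hE he using hs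
  choose a b hz using fun x => (hE x).1
  obtain ⟨s, hs⟩ := isCompact_univ.elim_finite_subcover (fun x => ((j x).opensRange : Set X))
    (fun x => (j x).opensRange.isOpen) (fun x _ => Set.mem_iUnion.2 ⟨x, w x, hw x⟩)
  have key : ∀ i, (∀ x ∈ s, i < a x ∨ b x < i) → IsZero (DCoh.HD K i) := fun i hi => by
    refine isZero_of_cover (fun x : s => j x.1) (fun x => ?_) fun x => ?_
    · obtain ⟨y, hy, hxy⟩ := Set.mem_iUnion₂.1 (hs (Set.mem_univ x))
      exact ⟨⟨y, hy⟩, hxy⟩
    · refine IsZero.of_iso ?_ (((DerivedCategory.homologyFunctor (W x.1).Modules i).mapIso (he x.1).some ≪≫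
        (homology_restrict (j x.1) K i).some).symm ≪≫ (DerivedCategory.homologyFunctorFactors (W x.1).Modules i).app _)
      exact ((E x.1).exactAt_iff_isZero_homology i).1 (ShortComplex.exact_of_isZero_X₂ _ (hz x.1 i (hi x.1 x.2)))
  obtain ⟨A, hA⟩ := (s.image a).bddBelow
  obtain ⟨B, hB⟩ := (s.image b).bddAbove
  exact ⟨A, B, (DerivedCategory.isGE_iff K A).2 fun i hi => key i fun x hx =>
      Or.inl (lt_of_lt_of_le hi (hA (Finset.mem_image_of_mem a hx))),
    (DerivedCategory.isLE_iff K B).2 fun i hi => key i fun x hx =>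
      Or.inr (lt_of_le_of_lt (hB (Finset.mem_image_of_mem b hx)) hi)⟩

end Groth.Agent.DCohPerf
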