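import Groth.Agent.QCohLib.TildeFlat
import Groth.Agent.QCohLib.FiniteType
import Groth.Agent.LocFree.Retract
import Groth.Agent.DCohPerf.Coherent
import Groth.Agent.ModGroth.PullStalk
import Groth.Agent.ModGroth.FinLocFree

/-!
Finitely presented modules with flat stalks are finite locally free.
-/

set_option autoImplicit false

universe u

open CategoryTheory CategoryTheory.Limits AlgebraicGeometry TopologicalSpace Opposite

attribute [local instance] HasDerivedCategory.standard

namespace Groth.Agent.DCohPerf

variable {X Y : Scheme.{u}}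

lemma flatMod_iso {F G : X.Modules} (e : F ≅ G) (h : FlatMod.IsFlat F) : FlatMod.IsFlat G := fun x =>
  @Module.Flat.of_linearEquiv _ _ _ _ _ _ _ _ (h x) ((DerSch.stalkFunctor X x).mapIso e).toLinearEquiv.symm

lemma isFlat_restrict (j : Y ⟶ X) [IsOpenImmersion j] {M : X.Modules} (h : FlatMod.IsFlat M) :
    FlatMod.IsFlat ((rF j).obj M) :=
  flatMod_iso ((Scheme.Modules.restrictFunctorIsoPullback j).app M).symm (ModGroth.Stalk.isFlat_pullback j h)

/-- Flat stalks of a tilde. -/
lemma flat_of_isFlat_tilde {A : CommRingCat.{u}} (N : ModuleCat.{u} A) (h : FlatMod.IsFlat (tilde N)) :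
    Module.Flat A N := by
  let B : Type u := A
  refine Module.flat_of_isLocalized_maximal (R := A) A N (fun P _ => LocalizedModule P.primeCompl N)
    (fun P _ => LocalizedModule.mkLinearMap _ N) fun P hP => ?_
  let x : PrimeSpectrum A := ⟨P, hP.isPrime⟩
  let : Module A ((tilde N).presheaf.stalk x) := QCohLib.stalkModuleSelf N x
  let : Algebra A ((Spec A).presheaf.stalk x) := (StructureSheaf.toStalk A x).hom.toAlgebra
  have : IsLocalization x.asIdeal.primeCompl ((Spec A).presheaf.stalk x) := StructureSheaf.IsLocalization.to_stalk A x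
  have : IsScalarTower A ((Spec A).presheaf.stalk x) ((tilde N).presheaf.stalk x) :=
    IsScalarTower.of_algebraMap_smul fun _ _ => rfl
  have : Module.Flat A ((Spec A).presheaf.stalk x) := IsLocalization.flat _ x.asIdeal.primeCompl
  have : Module.Flat ((Spec A).presheaf.stalk x) ((tilde N).presheaf.stalk x) := h x
  have : Module.Flat A ((tilde N).presheaf.stalk x) :=
    Module.Flat.trans A ((Spec A).presheaf.stalk x) ((tilde N).presheaf.stalk x)
  exact Module.Flat.of_linearEquiv (@IsLocalizedModule.iso _ _ x.asIdeal.primeCompl _ _ _ _ _ _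
    (QCohLib.toStalkLinear N x) (QCohLib.isLocalizedModule_toStalkLinear N x))

/-- Finitely presented and flat implies finite locally free. -/
theorem isFinLocFree_of_isFP_flat {M : X.Modules} (h : CohB1.IsFP M) (hf : FlatMod.IsFlat M) :
    FlatMod.IsFinLocFree M := by
  refine LocFree.isFinLocFree_of_openImmersion fun x => ?_
  obtain ⟨U, hU, hx, -⟩ := TopologicalSpace.Opens.isBasis_iff_nbhd.mp X.isBasis_affineOpens (Opens.mem_top x)
  have := (QCohLib.isCoh_of_isFP h).1
  have hfp := (QCohLib.isFinitePresentation_iff_affine M).1 h ⟨U, hU⟩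
  have : (QCohLib.onSpec M hU).IsQuasicoherent := inferInstance
  let N := QCohLib.ΓR (QCohLib.onSpec M hU)
  let e : tilde N ≅ (rF hU.fromSpec).obj M := QCohLib.counitIso (QCohLib.onSpec M hU)
  have : Module.Flat Γ(X, U) N := flat_of_isFlat_tilde N (flatMod_iso e.symm (isFlat_restrict hU.fromSpec hf))
  have : Module.FinitePresentation Γ(X, U) N := Module.FinitePresentation.of_equiv (QCohLib.onSpecΓ M hU).symm
  have : Module.Projective Γ(X, U) N := Module.Flat.projective_of_finitePresentation
  obtain ⟨w, hw⟩ : x ∈ Set.range hU.fromSpec := by rw [hU.range_fromSpec]; exact hx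
  obtain ⟨W, j, hj, v, hv, n, ⟨d⟩⟩ := exists_free (LocFree.isFinLocFree_tilde N) w
  refine ⟨W, j ≫ hU.fromSpec, inferInstance, v, by rw [Scheme.Hom.comp_apply, hv, hw], n, ⟨?_⟩⟩
  exact (Scheme.Modules.restrictFunctorComp j hU.fromSpec).app M ≪≫ (rF j).mapIso e.symm ≪≫ d

end Groth.Agent.DCohPerf
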