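import Groth.Agent.KGrp.Euler

/-!
A property of objects of `D(C)` stable under shifts and extensions holds for all bounded objects with
cohomology in `P` as soon as it holds for the objects of `P` in degree `0`.
-/

set_option autoImplicit false

universe w v u

open CategoryTheory CategoryTheory.Limits CategoryTheory.Pretriangulated DerivedCategory

open scoped ZeroObject

namespace Groth.Agent.DCohPerf

variable {C : Type u} [Category.{v} C] [Abelian C] [HasDerivedCategory.{w} C]
  (P : ObjectProperty C) [P.IsClosedUnderIsomorphisms] [P.ContainsZero]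

theorem prop_of_dbP (R : DerivedCategory C → Prop) (hiso : ∀ {K L}, (K ≅ L) → R K → R L)
    (hext : ∀ T : Triangle (DerivedCategory C), T ∈ distTriang _ → R T.obj₁ → R T.obj₃ → R T.obj₂)
    (hshift : ∀ K (n : ℤ), R K → R (K⟦n⟧))
    (hsingle : ∀ X : C, P X → R ((singleFunctor C 0).obj X)) {K : DerivedCategory C} (hK : KGrp.DbP P K) : R K := by
  have hn : ∀ (X : C) (n : ℤ), P X → R ((singleFunctor C n).obj X) := fun X n hX =>
    hiso (((singleFunctors C).shiftIso (-n) n 0 (by omega)).app X) (hshift _ (-n) (hsingle X hX))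
  suffices ∀ (m : ℕ) (a : ℤ) (K : DerivedCategory C), K.IsGE a → K.IsLE (a + m - 1) →
      (∀ i, P ((homologyFunctor C i).obj K)) → R K by
    obtain ⟨h, a, b, ha, hb⟩ := hK
    exact this (b + 1 - a).toNat a K ha (TStructure.t.isLE_of_le K b _ (by omega)) h
  intro m
  induction m with
  | zero =>
    intro a K ha hb h
    have hz : IsZero K := TStructure.t.isZero K (a + (0 : ℕ) - 1) a (by omega)
    exact hiso (((singleFunctor C 0).map_isZero (isZero_zero C)).iso hz)
      (hn 0 0 (KGrp.prop_of_isZero P (isZero_zero C)))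
  | succ m ih =>
    intro a K ha hb h
    let T := (TStructure.t.triangleLTGE (a + 1)).obj K
    have hT : T ∈ distTriang _ := TStructure.t.triangleLTGE_distinguished _ _
    have hA : T.obj₁.IsLE a := by
      have : T.obj₁.IsLE (a + 1 - 1) := inferInstanceAs (TStructure.t.IsLE _ _)
      rwa [add_sub_cancel_right] at this
    have hC : T.obj₃.IsGE (a + 1) := inferInstanceAs (TStructure.t.IsGE _ _)
    have hK2 : T.obj₂ = K := rfl
    have isoA : ∀ i ≤ a, IsIso ((homologyFunctor C i).map T.mor₁) := fun i hi => by
      have h1 : Mono ((homologyFunctor C i).map T.mor₁) :=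
        (HomologySequence.mono_homologyMap_mor₁_iff T hT (i - 1) i (by omega)).2
          ((isZero_of_isGE T.obj₃ (a + 1) (i - 1) (by omega)).eq_of_src _ _)
      have h2 : Epi ((homologyFunctor C i).map T.mor₁) :=
        (HomologySequence.epi_homologyMap_mor₁_iff T hT i).2
          ((isZero_of_isGE T.obj₃ (a + 1) i (by omega)).eq_of_tgt _ _)
      exact isIso_of_mono_of_epi _
    have isoC : ∀ i, a + 1 ≤ i → IsIso ((homologyFunctor C i).map T.mor₂) := fun i hi => by
      have h1 : Mono ((homologyFunctor C i).map T.mor₂) :=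
        (HomologySequence.mono_homologyMap_mor₂_iff T hT i).2
          ((isZero_of_isLE T.obj₁ a i (by omega)).eq_of_src _ _)
      have h2 : Epi ((homologyFunctor C i).map T.mor₂) :=
        (HomologySequence.epi_homologyMap_mor₂_iff T hT i (i + 1) rfl).2
          ((isZero_of_isLE T.obj₁ a (i + 1) (by omega)).eq_of_tgt _ _)
      exact isIso_of_mono_of_epi _
    have hAge : T.obj₁.IsGE a := by
      rw [isGE_iff]
      intro i hi
      have := isoA i hi.le
      exact (isZero_of_isGE K a i hi).of_iso (@asIso _ _ _ _ ((homologyFunctor C i).map T.mor₁) this)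
    have hCP : ∀ i, P ((homologyFunctor C i).obj T.obj₃) := fun i => by
      by_cases hi : a + 1 ≤ i
      · have := isoC i hi
        exact P.prop_of_iso (asIso ((homologyFunctor C i).map T.mor₂)) (h i)
      · exact KGrp.prop_of_isZero P (isZero_of_isGE _ (a + 1) i (by omega))
    have hCle : T.obj₃.IsLE (a + 1 + m - 1) := by
      rw [isLE_iff]
      intro i hi
      by_cases hi' : a + 1 ≤ i
      · have := isoC i hi'
        exact (isZero_of_isLE K (a + (m + 1 : ℕ) - 1) i (by push_cast; omega)).of_iso
          (asIso ((homologyFunctor C i).map T.mor₂)).symm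
      · exact isZero_of_isGE _ (a + 1) i (by omega)
    rw [← hK2]
    refine hext T hT ?_ (ih (a + 1) T.obj₃ hC hCle hCP)
    obtain ⟨Y, ⟨e⟩⟩ := T.obj₁.exists_iso_singleFunctor_obj_of_isGE_of_isLE a
    have := isoA a le_rfl
    exact hiso e.symm (hn Y a (P.prop_of_iso (((homologyFunctor C a).mapIso e) ≪≫
      (singleFunctorCompHomologyFunctorIso C a).app Y)
      (P.prop_of_iso (asIso ((homologyFunctor C a).map T.mor₁)).symm (h a))))

end Groth.Agent.DCohPerf
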