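import Groth.Agent.DCohPerf.FlatFP
import Groth.Agent.DCohPerf.Devissage
import Groth.Agent.QCohLib.StalkLoc

/-!
The locus where all cohomology of a perfect object is locally free.
-/

set_option autoImplicit false

universe u

open CategoryTheory CategoryTheory.Limits CategoryTheory.Pretriangulated AlgebraicGeometry TopologicalSpace Opposite
  TensorProduct

attribute [local instance] HasDerivedCategory.standard

namespace Groth.Agent.DCohPerf

variable {X : Scheme.{u}}

lemma isFP_finLocFree {M : X.Modules} (h : FlatMod.IsFinLocFree M) : CohB1.IsFP M :=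
  isFP_local fun x => by
    obtain ⟨W, j, hj, w, hw, n, ⟨e⟩⟩ := exists_free h x
    exact ⟨W, j, hj, w, hw, isFP_of_iso e.symm (isFP_free n)⟩

lemma isQCoh_HD_of_isPerfect {K : DCoh.D X} (h : DCoh.IsPerfect K) (i : ℤ) : (DCoh.HD K i).IsQuasicoherent := by
  choose W j hj w hw hs using (isPerfect_iff K).1 h
  refine QCohLib.isQuasicoherent_of_cover j (fun x => ⟨x, w x, hw x⟩) fun x => ?_
  obtain ⟨P, hP, ⟨e⟩⟩ := hs x
  have hq : ∀ k, (P.X k).IsQuasicoherent := fun k => (QCohLib.isCoh_of_isFP (isFP_finLocFree (hP.2 k))).1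
  have := hq i
  have := hq (i + 1)
  have := hq (i - 1)
  have : (P.cycles i).IsQuasicoherent :=
    @QCohLib.isQuasicoherent_of_iso _ _ _ ((kernelIsKernel _).conePointUniqueUpToIso (P.cyclesIsKernel i (i + 1) (by simp)))
      (QCohLib.isQuasicoherent_kernel (P.d i (i + 1)))
  have : (P.homology i).IsQuasicoherent := @QCohLib.isQuasicoherent_of_iso _ _ _
    ((cokernelIsCokernel _).coconePointUniqueUpToIso (P.homologyIsCokernel (i - 1) i (by simp)))
    (QCohLib.isQuasicoherent_cokernel (P.toCycles (i - 1) i))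
  exact @QCohLib.isQuasicoherent_of_iso _ _ _ ((DerivedCategory.homologyFunctorFactors (W x).Modules i).symm.app P ≪≫
    (DerivedCategory.homologyFunctor (W x).Modules i).mapIso e ≪≫ (homology_restrict (j x) K i).some) this

lemma isFP_top_perfect {K : DCoh.D X} (h : DCoh.IsPerfect K) (n : ℤ) [K.IsLE n] : CohB1.IsFP (DCoh.HD K n) :=
  isFP_local fun x => by
    obtain ⟨W, j, hj, w, hw, P, hP, ⟨e⟩⟩ := (isPerfect_iff K).1 h x
    let d : ∀ i, P.homology i ≅ (rF j).obj (DCoh.HD K i) := fun i =>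
      (DerivedCategory.homologyFunctorFactors W.Modules i).symm.app P ≪≫
        (DerivedCategory.homologyFunctor W.Modules i).mapIso e ≪≫ (homology_restrict j K i).some
    refine ⟨W, j, hj, w, hw, isFP_of_iso (d n) (isFP_top hP n fun i hi => ?_)⟩
    rw [HomologicalComplex.exactAt_iff_isZero_homology]
    exact ((rF j).map_isZero (DerivedCategory.isZero_of_isLE K n i hi)).of_iso (d i)

/-- A finitely presented tilde is free near a point with free localisation. -/
lemma exists_free_near_tilde {R : CommRingCat.{u}} (P : ModuleCat.{u} R) [Module.FinitePresentation R P] (x : Spec R)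
    (hfree : Module.Free (Localization.AtPrime x.asIdeal) (LocalizedModule x.asIdeal.primeCompl P)) :
    ∃ (W : Scheme.{u}) (j : W ⟶ Spec R) (_ : IsOpenImmersion j) (w : W), j w = x ∧
      FlatMod.IsFinLocFree ((rF j).obj (tilde P)) := by
  obtain ⟨g, hgx, hgfree, -⟩ := Module.FinitePresentation.exists_free_localizedModule_powers
    x.asIdeal.primeCompl (LocalizedModule.mkLinearMap x.asIdeal.primeCompl P) (Localization.AtPrime x.asIdeal)
  let S := CommRingCat.of (Localization.Away g)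
  let φ : R ⟶ S := CommRingCat.ofHom (algebraMap R (Localization.Away g))
  have hx : x ∈ Set.range (Spec.map φ).base := by
    rw [← Scheme.Hom.coe_opensRange, Scheme.Hom.opensRange_localizationAway]
    exact hgx
  obtain ⟨w, hw⟩ := hx
  have hf : Module.Free (Localization.Away g) (Localization.Away g ⊗[R] P) :=
    Module.Free.of_equiv (LocalizedModule.isBaseChange (Submonoid.powers g) P).equiv.symm
  have : Nontrivial S := PrimeSpectrum.nontrivial w
  obtain ⟨n, ⟨e⟩⟩ := LocFree.exists_extendScalars_free φ P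
    (inferInstanceAs (Algebra R (Localization.Away g))) rfl hf
  refine ⟨Spec S, Spec.map φ, inferInstance, w, hw, ?_⟩
  exact LocFree.IsFinLocFree.of_iso ((Scheme.Modules.restrictFunctorIsoPullback (Spec.map φ)).app (tilde P) ≪≫
    ((QCohLib.pullbackTildeIso φ).app P).symm ≪≫ (tilde.functor S).mapIso e ≪≫ LocFree.tildeFreeFinIso S n).symm
    (isFinLocFree_free n)

instance containsZero_finLocFree : ObjectProperty.ContainsZero (fun M : X.Modules => FlatMod.IsFinLocFree M) :=
  ⟨⟨_, isZero_zero _, isFinLocFree_isZero (isZero_zero _)⟩⟩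

instance isClosedUnderIso_finLocFree :
    ObjectProperty.IsClosedUnderIsomorphisms (fun M : X.Modules => FlatMod.IsFinLocFree M) :=
  ⟨fun e h => LocFree.IsFinLocFree.of_iso e h⟩

/-- The top non-free cohomology is finitely presented. -/
lemma isFP_of_free_above {K : DCoh.D X} (h : DCoh.IsPerfect K) (n b : ℤ) [K.IsLE b]
    (hn : ∀ i : ℤ, n < i → FlatMod.IsFinLocFree (DCoh.HD K i)) : CohB1.IsFP (DCoh.HD K n) := by
  let T := (DerivedCategory.TStructure.t.triangleLTGE (n + 1)).obj K
  have hT : T ∈ distTriang _ := DerivedCategory.TStructure.t.triangleLTGE_distinguished _ _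
  have hA : T.obj₁.IsLE n := by
    have : T.obj₁.IsLE (n + 1 - 1) := inferInstanceAs (DerivedCategory.TStructure.t.IsLE _ _)
    rwa [add_sub_cancel_right] at this
  have hC : T.obj₃.IsGE (n + 1) := inferInstanceAs (DerivedCategory.TStructure.t.IsGE _ _)
  have isoA : ∀ i ≤ n, IsIso ((DerivedCategory.homologyFunctor X.Modules i).map T.mor₁) := fun i hi => by
    have h1 : Mono ((DerivedCategory.homologyFunctor X.Modules i).map T.mor₁) :=
      (DerivedCategory.HomologySequence.mono_homologyMap_mor₁_iff T hT (i - 1) i (by omega)).2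
        ((DerivedCategory.isZero_of_isGE T.obj₃ (n + 1) (i - 1) (by omega)).eq_of_src _ _)
    have h2 : Epi ((DerivedCategory.homologyFunctor X.Modules i).map T.mor₁) :=
      (DerivedCategory.HomologySequence.epi_homologyMap_mor₁_iff T hT i).2
        ((DerivedCategory.isZero_of_isGE T.obj₃ (n + 1) i (by omega)).eq_of_tgt _ _)
    exact isIso_of_mono_of_epi _
  have isoC : ∀ i, n + 1 ≤ i → IsIso ((DerivedCategory.homologyFunctor X.Modules i).map T.mor₂) := fun i hi => by
    have h1 : Mono ((DerivedCategory.homologyFunctor X.Modules i).map T.mor₂) :=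
      (DerivedCategory.HomologySequence.mono_homologyMap_mor₂_iff T hT i).2
        ((DerivedCategory.isZero_of_isLE T.obj₁ n i (by omega)).eq_of_src _ _)
    have h2 : Epi ((DerivedCategory.homologyFunctor X.Modules i).map T.mor₂) :=
      (DerivedCategory.HomologySequence.epi_homologyMap_mor₂_iff T hT i (i + 1) rfl).2
        ((DerivedCategory.isZero_of_isLE T.obj₁ n (i + 1) (by omega)).eq_of_tgt _ _)
    exact isIso_of_mono_of_epi _
  have hGE : DCoh.IsPerfect T.obj₃ := by
    refine prop_of_dbP (P := fun M : X.Modules => FlatMod.IsFinLocFree M) DCoh.IsPerfect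
      (fun e h => isPerfect_of_iso h e) (fun T hT h₁ h₃ => isPerfect_triangle₂ hT h₁ h₃)
      (fun K n h => isPerfect_shift h n) (fun M hM => isPerfect_inD_of_finLocFree hM) ⟨fun i => ?_, n + 1, max b (n + 1), hC, ?_⟩
    · by_cases hi : n + 1 ≤ i
      · have := isoC i hi
        exact LocFree.IsFinLocFree.of_iso (asIso ((DerivedCategory.homologyFunctor X.Modules i).map T.mor₂)) (hn i hi)
      · exact isFinLocFree_isZero (DerivedCategory.isZero_of_isGE _ (n + 1) i (by omega))
    · rw [DerivedCategory.isLE_iff]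
      intro i hi
      have := isoC i (by omega)
      exact (DerivedCategory.isZero_of_isLE K b i (by omega)).of_iso
        (@asIso _ _ _ _ ((DerivedCategory.homologyFunctor X.Modules i).map T.mor₂) this).symm
  have := isoA n le_rfl
  exact isFP_of_iso (@asIso _ _ _ _ ((DerivedCategory.homologyFunctor X.Modules n).map T.mor₁) this)
    (isFP_top_perfect (isPerfect_triangle₁ hT h hGE) n)

/-- Free stalks are free localisations. -/
lemma free_stalk_iff {M : X.Modules} [M.IsQuasicoherent] {U : X.Opens} (hU : IsAffineOpen U) {x : X} (hx : x ∈ U) :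
    (Module.Free (X.presheaf.stalk x) (M.presheaf.stalk x) ∧ Module.Finite (X.presheaf.stalk x) (M.presheaf.stalk x)) ↔
    (Module.Free (Localization.AtPrime (hU.primeIdealOf ⟨x, hx⟩).asIdeal)
        (LocalizedModule (hU.primeIdealOf ⟨x, hx⟩).asIdeal.primeCompl Γ(M, U)) ∧
      Module.Finite (Localization.AtPrime (hU.primeIdealOf ⟨x, hx⟩).asIdeal)
        (LocalizedModule (hU.primeIdealOf ⟨x, hx⟩).asIdeal.primeCompl Γ(M, U))) := by
  let p := (hU.primeIdealOf ⟨x, hx⟩).asIdeal
  let : Algebra Γ(X, U) (X.presheaf.stalk x) := TopCat.Presheaf.algebra_section_stalk X.presheaf ⟨x, hx⟩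
  have : IsLocalization.AtPrime (X.presheaf.stalk x) p := hU.isLocalization_stalk ⟨x, hx⟩
  let : Module Γ(X, U) (M.presheaf.stalk x) := QCohLib.germModule M x hx
  have : IsScalarTower Γ(X, U) (X.presheaf.stalk x) (M.presheaf.stalk x) :=
    IsScalarTower.of_algebraMap_smul fun _ _ => rfl
  have := QCohLib.isLocalizedModule_germ (M := M) hU x hx
  let σ : Localization.AtPrime p ≃+* X.presheaf.stalk x :=
    (IsLocalization.algEquiv p.primeCompl (Localization.AtPrime p) (X.presheaf.stalk x)).toRingEquiv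
  let τ : LocalizedModule p.primeCompl Γ(M, U) ≃ₗ[Γ(X, U)] M.presheaf.stalk x :=
    IsLocalizedModule.iso p.primeCompl (QCohLib.germLinearMap M x hx)
  have hσ : ∀ (a : Γ(X, U)), σ (algebraMap _ _ a) = algebraMap Γ(X, U) (X.presheaf.stalk x) a :=
    (IsLocalization.algEquiv p.primeCompl (Localization.AtPrime p) (X.presheaf.stalk x)).commutes
  have hlin : ∀ (c : Localization.AtPrime p) (v : LocalizedModule p.primeCompl Γ(M, U)), τ (c • v) = σ c • τ v := by
    intro c v
    obtain ⟨⟨a, s⟩, hc⟩ := IsLocalization.surj p.primeCompl c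
    have hu : IsUnit (σ (algebraMap _ _ (s : Γ(X, U)))) :=
      (IsLocalization.map_units (Localization.AtPrime p) s).map σ
    refine hu.smul_left_cancel.1 ?_
    rw [smul_smul, ← map_mul, mul_comm _ c, hc, hσ, hσ, algebraMap_smul, algebraMap_smul, ← τ.map_smul, ← τ.map_smul]
    congr 1
    rw [← algebraMap_smul (Localization.AtPrime p) (s : Γ(X, U)) (c • v), smul_smul, mul_comm, hc, algebraMap_smul]
  have hτ : ∀ (c : X.presheaf.stalk x) (v : M.presheaf.stalk x), τ.symm (c • v) = σ.symm c • τ.symm v := fun c v => by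
    apply τ.injective
    rw [τ.apply_symm_apply, hlin, σ.apply_symm_apply, τ.apply_symm_apply]
  have := RingHomInvPair.of_ringEquiv σ
  have := RingHomInvPair.of_ringEquiv_symm σ
  let τ₁ : LocalizedModule p.primeCompl Γ(M, U) ≃ₛₗ[(σ : Localization.AtPrime p →+* X.presheaf.stalk x)]
      M.presheaf.stalk x := { τ.toAddEquiv with map_smul' := hlin }
  refine ⟨fun ⟨hf, hg⟩ => ?_, fun ⟨hf, hg⟩ => ?_⟩
  · have := hf
    have := hg
    exact ⟨Module.Free.of_equiv τ₁.symm, Module.Finite.of_surjective τ₁.symm.toLinearMap τ₁.symm.surjective⟩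
  · have := hf
    have := hg
    exact ⟨Module.Free.of_equiv τ₁, Module.Finite.of_surjective τ₁.toLinearMap τ₁.surjective⟩

lemma exists_affine_factor {x : X} {W : X.Opens} (hx : x ∈ W) :
    ∃ (U : X.Opens) (hU : IsAffineOpen U) (i : Spec Γ(X, U) ⟶ (W : Scheme.{u})) (_ : IsOpenImmersion i),
      x ∈ U ∧ i ≫ W.ι = hU.fromSpec := by
  obtain ⟨U, hU, hxU, hle⟩ := TopologicalSpace.Opens.isBasis_iff_nbhd.mp X.isBasis_affineOpens hx
  refine ⟨U, hU, hU.isoSpec.inv ≫ X.homOfLE hle, inferInstance, hxU, ?_⟩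
  rw [Category.assoc, Scheme.homOfLE_ι]
  rfl

lemma projective_sections_of_finLocFree {M : X.Modules} [M.IsQuasicoherent] {W : X.Opens}
    (h : FlatMod.IsFinLocFree ((rF W.ι).obj M)) {U : X.Opens} (hU : IsAffineOpen U) (i : Spec Γ(X, U) ⟶ (W : Scheme.{u}))
    [IsOpenImmersion i] (hi : i ≫ W.ι = hU.fromSpec) :
    Module.Finite Γ(X, U) Γ(M, U) ∧ Module.Projective Γ(X, U) Γ(M, U) := by
  have hl : FlatMod.IsFinLocFree (QCohLib.onSpec M hU) := LocFree.IsFinLocFree.of_iso
    ((rFComp i W.ι).symm.app M ≪≫ (Scheme.Modules.restrictFunctorCongr hi).app M) (isFinLocFree_restrict h i)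
  have : (QCohLib.onSpec M hU).IsQuasicoherent := inferInstance
  let N := QCohLib.ΓR (QCohLib.onSpec M hU)
  have hfp : Module.FinitePresentation Γ(X, U) N := QCohLib.isFinitePresentation_iff_Spec.1 (isFP_finLocFree hl)
  have : Module.Flat Γ(X, U) N := flat_of_isFlat_tilde N
    (flatMod_iso (QCohLib.counitIso (QCohLib.onSpec M hU)).symm (ModGroth.Perf.isFlat_of_isFinLocFree hl))
  have : Module.Projective Γ(X, U) N := Module.Flat.projective_of_finitePresentation
  exact ⟨Module.Finite.equiv (QCohLib.onSpecΓ M hU), Module.Projective.of_equiv (QCohLib.onSpecΓ M hU)⟩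

/-- One step of the downward induction. -/
lemma exists_free_step {E : DCoh.D X} (hE : DCoh.IsPerfect E) (n a b : ℤ) (x : X)
    (hfree : Module.Free (X.presheaf.stalk x) ((DCoh.HD E n).presheaf.stalk x) ∧
      Module.Finite (X.presheaf.stalk x) ((DCoh.HD E n).presheaf.stalk x))
    {W : X.Opens} (hxW : x ∈ W) (hb : ∀ i : ℤ, (i < a ∨ b < i) → IsZero ((rF W.ι).obj (DCoh.HD E i)))
    (hW : ∀ i, n < i → FlatMod.IsFinLocFree ((rF W.ι).obj (DCoh.HD E i))) :
    ∃ V : X.Opens, x ∈ V ∧ (∀ i : ℤ, (i < a ∨ b < i) → IsZero ((rF V.ι).obj (DCoh.HD E i))) ∧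
      ∀ i, n ≤ i → FlatMod.IsFinLocFree ((rF V.ι).obj (DCoh.HD E i)) := by
  obtain ⟨U, hU, i, hi, hxU, hij⟩ := exists_affine_factor hxW
  let j := hU.fromSpec
  let h := fun k => (homology_restrict j E k).some
  have hhi : ∀ k, n < k → FlatMod.IsFinLocFree ((rF j).obj (DCoh.HD E k)) := fun k hk =>
    LocFree.IsFinLocFree.of_iso ((rFComp i W.ι).symm.app (DCoh.HD E k) ≪≫
      (Scheme.Modules.restrictFunctorCongr hij).app (DCoh.HD E k)) (isFinLocFree_restrict (hW k hk) i)
  have hzj : ∀ k, (k < a ∨ b < k) → IsZero ((rF j).obj (DCoh.HD E k)) := fun k hk =>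
    ((rF i).map_isZero (hb k hk)).of_iso ((Scheme.Modules.restrictFunctorCongr hij).symm.app (DCoh.HD E k) ≪≫
      (rFComp i W.ι).app (DCoh.HD E k))
  have : ((RD j).obj E).IsLE b := (DerivedCategory.isLE_iff _ b).2 fun k hk => (hzj k (Or.inr hk)).of_iso (h k)
  have hfp : CohB1.IsFP ((rF j).obj (DCoh.HD E n)) := isFP_of_iso (h n) (isFP_of_free_above (isPerfect_restrict hE j) n b
    fun k hk => LocFree.IsFinLocFree.of_iso (h k).symm (hhi k hk))
  have := isQCoh_HD_of_isPerfect hE n
  have : (QCohLib.onSpec (DCoh.HD E n) hU).IsQuasicoherent := inferInstance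
  let N := QCohLib.ΓR (QCohLib.onSpec (DCoh.HD E n) hU)
  have : Module.FinitePresentation Γ(X, U) N := QCohLib.isFinitePresentation_iff_Spec.1 hfp
  let p := hU.primeIdealOf ⟨x, hxU⟩
  have hf := ((free_stalk_iff hU hxU).1 hfree).1
  have hf' : Module.Free (Localization.AtPrime p.asIdeal) (LocalizedModule p.asIdeal.primeCompl N) :=
    Module.Free.of_equiv (IsLocalizedModule.mapEquiv p.asIdeal.primeCompl (LocalizedModule.mkLinearMap p.asIdeal.primeCompl Γ(DCoh.HD E n, U))
      (LocalizedModule.mkLinearMap p.asIdeal.primeCompl N) (Localization.AtPrime p.asIdeal) (QCohLib.onSpecΓ (DCoh.HD E n) hU).symm)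
  obtain ⟨V, g, hg, v, hv, hfreeV⟩ := exists_free_near_tilde N p hf'
  have hgn : FlatMod.IsFinLocFree ((rF g).obj ((rF j).obj (DCoh.HD E n))) :=
    LocFree.IsFinLocFree.of_iso ((rF g).mapIso (QCohLib.counitIso (QCohLib.onSpec (DCoh.HD E n) hU))) hfreeV
  have hall : ∀ k, n ≤ k → FlatMod.IsFinLocFree ((rF (g ≫ j)).obj (DCoh.HD E k)) := fun k hk =>
    LocFree.IsFinLocFree.of_iso ((rFComp g j).symm.app (DCoh.HD E k)) (by
      rcases hk.eq_or_lt with rfl | hk'
      · exact hgn
      · exact isFinLocFree_restrict (hhi k hk') g)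
  obtain ⟨hm, t, ht, htj⟩ := exists_opens (g ≫ j) v
  have hvx : (g ≫ j) v = x := by
    rw [Scheme.Hom.comp_apply, hv]
    exact hU.fromSpec_primeIdealOf ⟨x, hxU⟩
  exact ⟨(g ≫ j).opensRange, hvx ▸ hm, fun k hk => ((rF t).map_isZero ((rF g).map_isZero (hzj k hk))).of_iso
    ((Scheme.Modules.restrictFunctorCongr htj).symm.app (DCoh.HD E k) ≪≫ (rFComp t (g ≫ j)).app (DCoh.HD E k) ≪≫
      (rF t).mapIso ((rFComp g j).app (DCoh.HD E k))), fun k hk => LocFree.IsFinLocFree.of_iso
    ((rFComp t (g ≫ j)).symm.app (DCoh.HD E k) ≪≫ (Scheme.Modules.restrictFunctorCongr htj).app (DCoh.HD E k))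
    (isFinLocFree_restrict (hall k hk) t)⟩

/-- The free locus is open. -/
theorem exists_nhd_free {E : DCoh.D X} (hE : DCoh.IsPerfect E) (x : X)
    (h : ∀ i : ℤ, Module.Free (X.presheaf.stalk x) ((DCoh.HD E i).presheaf.stalk x) ∧
      Module.Finite (X.presheaf.stalk x) ((DCoh.HD E i).presheaf.stalk x)) :
    ∃ W : X.Opens, x ∈ W ∧ ∀ i : ℤ, FlatMod.IsFinLocFree ((rF W.ι).obj (DCoh.HD E i)) := by
  obtain ⟨W₀, j, hj, w, hw, P, ⟨⟨a, b, hz⟩, hl⟩, ⟨e⟩⟩ := (isPerfect_iff E).1 hE x
  have hzero : ∀ i, (i < a ∨ b < i) → IsZero (DCoh.HD ((RD j).obj E) i) := fun i hi =>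
    ((P.exactAt_iff_isZero_homology i).1 (ShortComplex.exact_of_isZero_X₂ _ (hz i hi))).of_iso
      ((DerivedCategory.homologyFunctor W₀.Modules i).mapIso e.symm ≪≫
        (DerivedCategory.homologyFunctorFactors W₀.Modules i).app P)
  obtain ⟨hm, t, ht, htj⟩ := exists_opens j w
  let R := j.opensRange
  have hR : ∀ i, (i < a ∨ b < i) → IsZero ((rF R.ι).obj (DCoh.HD E i)) := fun i hi =>
    ((rF t).map_isZero ((hzero i hi).of_iso (homology_restrict j E i).some.symm)).of_iso
      ((Scheme.Modules.restrictFunctorCongr htj).symm.app (DCoh.HD E i) ≪≫ (rFComp t j).app (DCoh.HD E i))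
  suffices ∀ k : ℕ, ∃ W : X.Opens, x ∈ W ∧ (∀ i : ℤ, (i < a ∨ b < i) → IsZero ((rF W.ι).obj (DCoh.HD E i))) ∧
      ∀ i, b + 1 - (k : ℤ) ≤ i → FlatMod.IsFinLocFree ((rF W.ι).obj (DCoh.HD E i)) by
    obtain ⟨W, hxW, hzW, hW⟩ := this (b + 1 - a).toNat
    refine ⟨W, hxW, fun i => ?_⟩
    by_cases hi : a ≤ i
    · exact hW i (by omega)
    · exact isFinLocFree_isZero (hzW i (by omega))
  intro k
  induction k with
  | zero => exact ⟨R, hw ▸ hm, hR, fun i hi => isFinLocFree_isZero (hR i (by omega))⟩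
  | succ k ih =>
    obtain ⟨W, hxW, hzW, hW⟩ := ih
    obtain ⟨V, hxV, hzV, hV⟩ := exists_free_step hE (b - (k : ℤ)) a b x (h _) hxW hzW (fun i hi => hW i (by omega))
    exact ⟨V, hxV, hzV, fun i hi => hV i (by push_cast at hi; omega)⟩

/-- Stalks where a module is locally free. -/
lemma free_stalk_of_finLocFree {M : X.Modules} [M.IsQuasicoherent] {W : X.Opens}
    (h : FlatMod.IsFinLocFree ((rF W.ι).obj M)) {x : X} (hx : x ∈ W) :
    Module.Free (X.presheaf.stalk x) (M.presheaf.stalk x) ∧ Module.Finite (X.presheaf.stalk x) (M.presheaf.stalk x) := by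
  obtain ⟨U, hU, i, hi, hxU, hij⟩ := exists_affine_factor hx
  obtain ⟨hfin, hproj⟩ := projective_sections_of_finLocFree h hU i hij
  refine (free_stalk_iff hU hxU).2 ⟨?_, Module.Finite.of_isLocalizedModule (hU.primeIdealOf ⟨x, hxU⟩).asIdeal.primeCompl
    (LocalizedModule.mkLinearMap _ _)⟩
  have := Module.finitePresentation_of_projective Γ(X, U) Γ(M, U)
  exact ((Module.freeLocus_eq_univ_iff (R := Γ(X, U)) (M := Γ(M, U))).mpr hproj).ge (Set.mem_univ (hU.primeIdealOf ⟨x, hxU⟩))

end Groth.Agent.DCohPerf
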