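import Groth.Agent.DCohPerf.Lift
import Groth.Prelude.Def_DCoh2
import Groth.Agent.LocFree.Basic

/-!
Local lifting of maps out of finite locally free modules, and compatibility of restrictions.
-/

set_option autoImplicit false

universe u

open CategoryTheory CategoryTheory.Limits AlgebraicGeometry TopologicalSpace Opposite

namespace Groth.Agent.DCohPerf

variable {X Y Z : Scheme.{u}}

/-- Restriction along an open immersion. -/
noncomputable abbrev rF (j : Y ⟶ X) [IsOpenImmersion j] : X.Modules ⥤ Y.Modules := Scheme.Modules.restrictFunctor j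

/-- Restriction of complexes along an open immersion. -/
noncomputable abbrev rC (j : Y ⟶ X) [IsOpenImmersion j] :
    CochainComplex X.Modules ℤ ⥤ CochainComplex Y.Modules ℤ :=
  (rF j).mapHomologicalComplex (ComplexShape.up ℤ)

/-- Restricting twice. -/
noncomputable def rFComp (g : Z ⟶ Y) (f : Y ⟶ X) [IsOpenImmersion g] [IsOpenImmersion f] :
    rF (g ≫ f) ≅ rF f ⋙ rF g := Scheme.Modules.restrictFunctorComp g f

/-- Restricting complexes twice. -/
noncomputable def rCComp (g : Z ⟶ Y) (f : Y ⟶ X) [IsOpenImmersion g] [IsOpenImmersion f] :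
    rC (g ≫ f) ≅ rC f ⋙ rC g := NatIso.mapHomologicalComplex (rFComp g f) (ComplexShape.up ℤ)

/-- Restricting along equal maps. -/
noncomputable def rCCongr {f g : Y ⟶ X} (h : f = g) [IsOpenImmersion f] [IsOpenImmersion g] : rC f ≅ rC g :=
  NatIso.mapHomologicalComplex (Scheme.Modules.restrictFunctorCongr h) (ComplexShape.up ℤ)

lemma isFinLocFree_free (n : ℕ) : FlatMod.IsFinLocFree (FlatMod.freeMod X n) := fun _ =>
  ⟨⊤, n, Opens.mem_top _, ⟨LocFree.restrictFreeIso _ n⟩⟩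

lemma isFinLocFree_restrict {E : X.Modules} (h : FlatMod.IsFinLocFree E) (j : Y ⟶ X) [IsOpenImmersion j] :
    FlatMod.IsFinLocFree ((rF j).obj E) := fun y => by
  obtain ⟨U, n, hx, ⟨e⟩⟩ := h (j y)
  exact ⟨j ⁻¹ᵁ U, n, hx, ⟨QCohLib.restrictCompIso E (j ⁻¹ᵁ U).ι j ((j ∣_ U) ≫ U.ι) (morphismRestrict_ι j U).symm ≪≫
    (Scheme.Modules.restrictFunctorComp (j ∣_ U) U.ι).app E ≪≫ (rF (j ∣_ U)).mapIso e ≪≫
      LocFree.restrictFreeIso _ n⟩⟩

lemma lift_aux {C D D' : Type*} [Category C] [Category D] [Category D'] (u : C ⥤ D) (v : D ⥤ D') (F : C ⥤ D')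
    (c : F ≅ u ⋙ v) {P M N E : C} (a : P ⟶ M) (q : P ⟶ E) (p : M ⟶ N) (f : E ⟶ N) (hsq : a ≫ p = q ≫ f)
    (s : v.obj (u.obj E) ⟶ v.obj (u.obj P)) (hs : s ≫ v.map (u.map q) = 𝟙 _) :
    (c.hom.app E ≫ s ≫ v.map (u.map a) ≫ c.inv.app M) ≫ F.map p = F.map f := by
  have hn : c.inv.app M ≫ F.map p = v.map (u.map p) ≫ c.inv.app N := (c.inv.naturality p).symm
  simp only [Category.assoc]
  rw [hn, ← v.map_comp_assoc, ← u.map_comp, hsq, u.map_comp, v.map_comp_assoc, reassoc_of% hs]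
  exact (congrArg (fun t => c.hom.app E ≫ t) (c.inv.naturality f)).trans (Iso.hom_inv_id_app_assoc c E _)

/-- A morphism out of a finite locally free module lifts locally through an epimorphism. -/
lemma exists_local_lift {M N E : X.Modules} (p : M ⟶ N) [Epi p] (hE : FlatMod.IsFinLocFree E) (f : E ⟶ N) (x : X) :
    ∃ (W : Scheme.{u}) (j : W ⟶ X) (_ : IsOpenImmersion j) (w : W),
      j w = x ∧ ∃ l : (rF j).obj E ⟶ (rF j).obj M, l ≫ (rF j).map p = (rF j).map f := by
  obtain ⟨U, n, hx, ⟨e⟩⟩ := hE x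
  let u := rF U.ι
  let q : pullback p f ⟶ E := pullback.snd p f
  let q' : u.obj (pullback p f) ⟶ FlatMod.freeMod (↑U) n := u.map q ≫ e.hom
  have : Epi q := inferInstanceAs (Epi (pullback.snd p f))
  have : Epi (u.map q) := inferInstance
  obtain ⟨V, hxV, s, hs⟩ := exists_section_free q' ⟨x, hx⟩
  refine ⟨V, V.ι ≫ U.ι, inferInstance, ⟨⟨x, hx⟩, hxV⟩, rfl, ?_⟩
  let c := rFComp V.ι U.ι
  let v := rF V.ι
  let s' : v.obj (u.obj E) ⟶ v.obj (u.obj (pullback p f)) := v.map e.hom ≫ s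
  have hs' : s' ≫ v.map (u.map q) = 𝟙 _ := by
    have h : (s ≫ v.map (u.map q)) ≫ v.map e.hom = 𝟙 _ := by
      rw [Category.assoc, ← v.map_comp]
      exact hs
    have h2 : s ≫ v.map (u.map q) = v.map e.inv := by
      rw [← cancel_mono (v.map e.hom), h, ← v.map_comp, e.inv_hom_id, v.map_id]
    rw [Category.assoc, h2, ← v.map_comp, e.hom_inv_id, v.map_id]
  exact ⟨_, lift_aux u v (rF (V.ι ≫ U.ι)) c (pullback.fst p f) q p f pullback.condition s' hs'⟩

/-- From an open immersion to an open subscheme. -/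
lemma exists_opens {W : Scheme.{u}} (j : W ⟶ X) [IsOpenImmersion j] (w : W) :
    j w ∈ j.opensRange ∧ ∃ i : (j.opensRange : Scheme.{u}) ⟶ W, IsOpenImmersion i ∧ i ≫ j = j.opensRange.ι :=
  ⟨⟨w, rfl⟩, j.isoOpensRange.inv, inferInstance, j.isoOpensRange_inv_comp⟩

end Groth.Agent.DCohPerf
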