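import Groth.Agent.DCohPerf.FibreAlg
import Mathlib.RingTheory.LocalRing.Module
import Mathlib.RingTheory.LocalProperties.Projective

/-!
Complexes of finite free modules with fibrewise cohomology in a single degree.
-/

set_option autoImplicit false

universe u

open CategoryTheory CategoryTheory.Limits TensorProduct Module

namespace Groth.Agent.DCohPerf

variable {A : Type u} [CommRing A]

/-- A map into a finite projective module, injective on every fibre, is split injective. -/
lemma injective_of_fibre_injective {M N : Type u} [AddCommGroup M] [Module A M] [AddCommGroup N] [Module A N]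
    [Module.Finite A M] [Module.Finite A N] [Module.Projective A N] (f : M →ₗ[A] N)
    (h : ∀ p : PrimeSpectrum A, Function.Injective (f.lTensor p.asIdeal.ResidueField)) :
    Function.Injective f ∧ Module.Projective A (N ⧸ LinearMap.range f) ∧ Module.Projective A M := by
  have : Module.FinitePresentation A N := Module.finitePresentation_of_projective A N
  have hQ : Module.FinitePresentation A (N ⧸ LinearMap.range f) :=
    Module.finitePresentation_of_surjective _ (Submodule.mkQ_surjective _)
      (by rw [Submodule.ker_mkQ, LinearMap.range_eq_map]; exact (Module.Finite.fg_top).map f)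
  have hQp : Module.Projective A (N ⧸ LinearMap.range f) := by
    rw [← Module.freeLocus_eq_univ_iff, Set.eq_univ_iff_forall]
    intro p
    let Ap := Localization.AtPrime p.asIdeal
    rw [Module.mem_freeLocus_iff_tensor p Ap]
    have : Module.Free Ap (Ap ⊗[A] N) := Module.free_of_flat_of_isLocalRing
    refine Module.free_of_lTensor_residueField_injective (f.baseChange Ap) ((LinearMap.range f).mkQ.baseChange Ap)
      (LinearMap.lTensor_surjective Ap (Submodule.mkQ_surjective _)) (fun x => ?_) ?_
    · exact lTensor_exact Ap f.exact_map_mkQ_range (Submodule.mkQ_surjective _) x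
    · intro a b hab
      let eM := AlgebraTensorModule.cancelBaseChange A Ap (IsLocalRing.ResidueField Ap) (IsLocalRing.ResidueField Ap) M
      let eN := AlgebraTensorModule.cancelBaseChange A Ap (IsLocalRing.ResidueField Ap) (IsLocalRing.ResidueField Ap) N
      have key : ∀ z : IsLocalRing.ResidueField Ap ⊗[Ap] (Ap ⊗[A] M),
          f.lTensor p.asIdeal.ResidueField (eM z) =
            eN ((f.baseChange Ap).lTensor (IsLocalRing.ResidueField Ap) z) := by
        intro z
        induction z using TensorProduct.induction_on with
        | zero => simp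
        | add u v hu hv => simp only [map_add, hu, hv]
        | tmul c y =>
          induction y using TensorProduct.induction_on with
          | zero => simp
          | add u v hu hv => simp only [tmul_add, map_add, hu, hv]
          | tmul s m => simp [eM, eN]
      refine eM.injective (h p ?_)
      rw [key, key, hab]
  obtain ⟨s, hs⟩ := Module.projective_lifting_property (LinearMap.range f).mkQ LinearMap.id
    (Submodule.mkQ_surjective _)
  have hrange : ∀ n, n - s ((LinearMap.range f).mkQ n) ∈ LinearMap.range f := fun n => by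
    refine (Submodule.Quotient.mk_eq_zero _).1 ?_
    show (LinearMap.range f).mkQ (n - s ((LinearMap.range f).mkQ n)) = 0
    rw [map_sub]
    exact sub_eq_zero.2 (LinearMap.congr_fun hs _).symm
  let π : N →ₗ[A] LinearMap.range f :=
    LinearMap.codRestrict _ (LinearMap.id - s.comp (LinearMap.range f).mkQ) hrange
  have hπ : ∀ y : LinearMap.range f, π y = y := fun y => Subtype.ext (by
    show (y : N) - s ((LinearMap.range f).mkQ y) = y
    rw [Submodule.mkQ_apply, (Submodule.Quotient.mk_eq_zero _).2 y.2, map_zero, sub_zero])
  have hR : Module.Projective A (LinearMap.range f) :=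
    Module.Projective.of_split (LinearMap.range f).subtype π (LinearMap.ext hπ)
  obtain ⟨t, ht⟩ := Module.projective_lifting_property f.rangeRestrict LinearMap.id f.surjective_rangeRestrict
  have ht' : ∀ y : LinearMap.range f, f (t y) = y := fun y => congrArg Subtype.val (LinearMap.congr_fun ht y)
  have hker : ∀ m, m - t (f.rangeRestrict m) ∈ LinearMap.ker f := fun m => by
    rw [LinearMap.mem_ker, map_sub, ht']
    exact sub_self _
  let σ : M →ₗ[A] LinearMap.ker f := LinearMap.codRestrict _ (LinearMap.id - t.comp f.rangeRestrict) hker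
  have hσ : ∀ y : LinearMap.ker f, σ y = y := fun y => Subtype.ext (by
    show (y : M) - t (f.rangeRestrict y) = y
    rw [show f.rangeRestrict (y : M) = 0 from Subtype.ext (LinearMap.mem_ker.1 y.2), map_zero, sub_zero])
  have hKfin : Module.Finite A (LinearMap.ker f) :=
    Module.Finite.of_surjective σ fun y => ⟨y, hσ y⟩
  have hK : Subsingleton (LinearMap.ker f) := by
    rw [← Module.support_eq_empty_iff (R := A), Set.eq_empty_iff_forall_notMem]
    intro p hp
    rw [Module.mem_support_iff_nontrivial_residueField_tensorProduct] at hp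
    refine not_subsingleton (p.asIdeal.ResidueField ⊗[A] LinearMap.ker f) ⟨fun a b => ?_⟩
    have hi : Function.Injective ((LinearMap.ker f).subtype.lTensor p.asIdeal.ResidueField) :=
      Function.HasLeftInverse.injective ⟨σ.lTensor _, fun z => by
        rw [← LinearMap.lTensor_comp_apply, show σ.comp (LinearMap.ker f).subtype = LinearMap.id from
          LinearMap.ext hσ, LinearMap.lTensor_id]
        rfl⟩
    refine hi (h p ?_)
    rw [← LinearMap.lTensor_comp_apply, ← LinearMap.lTensor_comp_apply,
      show f.comp (LinearMap.ker f).subtype = 0 from LinearMap.ext fun y => LinearMap.mem_ker.1 y.2,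
      LinearMap.lTensor_zero, LinearMap.zero_apply, LinearMap.zero_apply]
  have hinj : Function.Injective f := (injective_iff_map_eq_zero f).2 fun m hm =>
    congrArg Subtype.val (@Subsingleton.elim _ hK ⟨m, LinearMap.mem_ker.2 hm⟩ 0)
  exact ⟨hinj, hQp, Module.Projective.of_split f.rangeRestrict t
    (LinearMap.ext fun m => hinj (ht' _))⟩

variable (C : CochainComplex (ModuleCat.{u} A) ℤ)

/-- The cokernel of the differential arriving in degree `j`. -/
abbrev cok (j : ℤ) : Type u := C.X j ⧸ LinearMap.range (C.d (j - 1) j).hom

/-- The differential leaving the cokernel. -/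
noncomputable def dbar (j : ℤ) : cok C j →ₗ[A] C.X (j + 1) :=
  (LinearMap.range (C.d (j - 1) j).hom).liftQ (C.d j (j + 1)).hom (by
    rintro _ ⟨y, rfl⟩
    exact congr($(C.d_comp_d (j - 1) j (j + 1)) y))

lemma range_dbar (j : ℤ) : LinearMap.range (dbar C j) = LinearMap.range (C.d j (j + 1)).hom :=
  Submodule.range_liftQ _ _ _

lemma fibre_dbar_injective (hC : ∀ i, Module.Free A (C.X i) ∧ Module.Finite A (C.X i)) [Nontrivial A] (j : ℤ)
    (p : PrimeSpectrum A)
    (h : TFun.fibreDim (C.X j ⧸ LinearMap.range (C.d (j - 1) j).hom) p +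
      TFun.fibreDim (C.X (j + 1) ⧸ LinearMap.range (C.d j (j + 1)).hom) p = finrank A (C.X (j + 1))) :
    Function.Injective ((dbar C j).lTensor p.asIdeal.ResidueField) := by
  let κ := p.asIdeal.ResidueField
  have := (hC j).1
  have := (hC j).2
  have := (hC (j + 1)).1
  have := (hC (j + 1)).2
  have h3 : finrank κ (κ ⊗[A] C.X (j + 1)) = finrank A (C.X (j + 1)) := Module.finrank_baseChange
  have h2 := TFun.rank_baseChange_add (κ := κ) (C.d j (j + 1)).hom
  have h4 : LinearMap.range ((dbar C j).baseChange κ) = LinearMap.range ((C.d j (j + 1)).hom.baseChange κ) := by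
    have e : (C.d j (j + 1)).hom = (dbar C j).comp (LinearMap.range (C.d (j - 1) j).hom).mkQ := rfl
    rw [e, LinearMap.baseChange_comp, LinearMap.range_comp, LinearMap.range_eq_top.2
      (show Function.Surjective ((LinearMap.range (C.d (j - 1) j).hom).mkQ.baseChange κ) from
        LinearMap.lTensor_surjective κ (Submodule.mkQ_surjective _)), Submodule.map_top]
  have h5 := ((dbar C j).baseChange κ).finrank_range_add_finrank_ker
  rw [h4] at h5
  have h6 : finrank κ (LinearMap.ker ((dbar C j).baseChange κ)) = 0 := by
    simp only [TFun.fibreDim] at h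
    change finrank κ (κ ⊗[A] cok C j) + finrank κ (κ ⊗[A] (C.X (j + 1) ⧸ LinearMap.range (C.d j (j + 1)).hom)) = _ at h
    omega
  have h7 : LinearMap.ker ((dbar C j).baseChange κ) = ⊥ := Submodule.finrank_eq_zero.1 h6
  exact fun a b hab => LinearMap.ker_eq_bot.1 h7 hab

/-- Fibrewise cohomology in degree `i` only gives cohomology in degree `i` only, projective there. -/
theorem amplitude_single (hC : ∀ i, Module.Free A (C.X i) ∧ Module.Finite A (C.X i)) [Nontrivial A] (i : ℤ)
    (h : ∀ (p : PrimeSpectrum A) (j : ℤ), j ≠ i →
      TFun.fibreDim (C.X j ⧸ LinearMap.range (C.d (j - 1) j).hom) p +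
        TFun.fibreDim (C.X (j + 1) ⧸ LinearMap.range (C.d j (j + 1)).hom) p = finrank A (C.X (j + 1))) :
    (∀ j, j ≠ i → C.ExactAt j) ∧ Module.Finite A (C.homology i) ∧ Module.Projective A (C.homology i) := by
  have fin : ∀ j, Module.Finite A (cok C j) := fun j =>
    have := (hC j).2
    Module.Finite.of_surjective _ (Submodule.mkQ_surjective _)
  have main : ∀ j, j ≠ i → Function.Injective (dbar C j) ∧
      Module.Projective A (C.X (j + 1) ⧸ LinearMap.range (dbar C j)) ∧ Module.Projective A (cok C j) := fun j hj => by
    have := (hC (j + 1)).1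
    have := (hC (j + 1)).2
    have := fin j
    exact injective_of_fibre_injective (dbar C j) fun p => fibre_dbar_injective C hC j p (h p j hj)
  have hex : ∀ j, (hd : Function.Injective (dbar C j)) → C.ExactAt j := fun j hd => by
    rw [C.exactAt_iff' (j - 1) j (j + 1) (by simp) (by simp), ShortComplex.moduleCat_exact_iff]
    intro x hx
    have h0 : dbar C j (Submodule.Quotient.mk x) = dbar C j 0 := by rw [map_zero]; exact hx
    exact (Submodule.Quotient.mk_eq_zero _).1 (hd h0)
  refine ⟨fun j hj => hex j (main j hj).1, ?_⟩
  have hQi : Module.Projective A (cok C i) := by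
    obtain ⟨-, h2, -⟩ := main (i - 1) (by omega)
    rw [range_dbar] at h2
    have e : ∀ k, k = i → Module.Projective A (C.X k ⧸ LinearMap.range (C.d (i - 1) k).hom) →
        Module.Projective A (cok C i) := fun k hk hp => by subst hk; exact hp
    exact e _ (sub_add_cancel i 1) h2
  have hQi1 : Module.Projective A (C.X (i + 1) ⧸ LinearMap.range (C.d i (i + 1)).hom) := by
    obtain ⟨-, -, h3⟩ := main (i + 1) (by omega)
    have e : ∀ k, k = i → Module.Projective A (C.X (i + 1) ⧸ LinearMap.range (C.d k (i + 1)).hom) →
        Module.Projective A (C.X (i + 1) ⧸ LinearMap.range (C.d i (i + 1)).hom) := fun k hk hp => by subst hk; exact hp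
    exact e _ (add_sub_cancel_right i 1) h3
  have := (hC (i + 1)).1
  have hR : Module.Projective A (LinearMap.range (dbar C i)) := by
    rw [range_dbar]
    let g := (LinearMap.range (C.d i (i + 1)).hom).mkQ
    obtain ⟨s, hs⟩ := Module.projective_lifting_property g LinearMap.id (Submodule.mkQ_surjective _)
    let π : C.X (i + 1) →ₗ[A] LinearMap.range (C.d i (i + 1)).hom :=
      LinearMap.codRestrict _ (LinearMap.id - s.comp g) fun n => by
        refine (Submodule.Quotient.mk_eq_zero _).1 ?_
        show g (n - s (g n)) = 0
        rw [map_sub]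
        exact sub_eq_zero.2 (LinearMap.congr_fun hs _).symm
    refine Module.Projective.of_split (LinearMap.range (C.d i (i + 1)).hom).subtype π (LinearMap.ext fun y =>
      Subtype.ext ?_)
    show (y : C.X (i + 1)) - s (g y) = y
    rw [show g (y : C.X (i + 1)) = 0 from (Submodule.Quotient.mk_eq_zero _).2 y.2, map_zero, sub_zero]
  obtain ⟨t, ht⟩ := Module.projective_lifting_property (dbar C i).rangeRestrict LinearMap.id
    (dbar C i).surjective_rangeRestrict
  have hker : ∀ m, m - t ((dbar C i).rangeRestrict m) ∈ LinearMap.ker (dbar C i) := fun m => by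
    rw [LinearMap.mem_ker, map_sub,
      show dbar C i (t ((dbar C i).rangeRestrict m)) = dbar C i m from
        congrArg Subtype.val (LinearMap.congr_fun ht ((dbar C i).rangeRestrict m))]
    exact sub_self _
  let σ : cok C i →ₗ[A] LinearMap.ker (dbar C i) :=
    LinearMap.codRestrict _ (LinearMap.id - t.comp (dbar C i).rangeRestrict) hker
  have hσ : σ.comp (LinearMap.ker (dbar C i)).subtype = LinearMap.id := LinearMap.ext fun y => Subtype.ext (by
    show (y : cok C i) - t ((dbar C i).rangeRestrict y) = y
    rw [show (dbar C i).rangeRestrict (y : cok C i) = 0 from Subtype.ext (LinearMap.mem_ker.1 y.2),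
      map_zero, sub_zero])
  have := fin i
  have hKp : Module.Projective A (LinearMap.ker (dbar C i)) :=
    Module.Projective.of_split (LinearMap.ker (dbar C i)).subtype σ hσ
  have hKf : Module.Finite A (LinearMap.ker (dbar C i)) :=
    Module.Finite.of_surjective σ fun y => ⟨y, LinearMap.congr_fun hσ y⟩
  let S := C.sc' (i - 1) i (i + 1)
  let φ : LinearMap.ker S.g.hom →ₗ[A] cok C i :=
    (LinearMap.range (C.d (i - 1) i).hom).mkQ.comp (LinearMap.ker S.g.hom).subtype
  have hle : LinearMap.range S.moduleCatToCycles ≤ LinearMap.ker φ := by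
    rintro _ ⟨y, rfl⟩
    exact (Submodule.Quotient.mk_eq_zero _).2 ⟨y, rfl⟩
  let ψ : (LinearMap.ker S.g.hom ⧸ LinearMap.range S.moduleCatToCycles) →ₗ[A] LinearMap.ker (dbar C i) :=
    ((LinearMap.range S.moduleCatToCycles).liftQ φ hle).codRestrict _ (fun z => by
      obtain ⟨z, rfl⟩ := Submodule.Quotient.mk_surjective _ z
      exact z.2)
  have hψ : Function.Bijective ψ := by
    refine ⟨(injective_iff_map_eq_zero ψ).2 fun z hz => ?_, fun y => ?_⟩
    · obtain ⟨z, rfl⟩ := Submodule.Quotient.mk_surjective _ z
      obtain ⟨w, hw⟩ := (Submodule.Quotient.mk_eq_zero _).1 (congrArg Subtype.val hz)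
      exact (Submodule.Quotient.mk_eq_zero _).2 ⟨w, Subtype.ext hw⟩
    · obtain ⟨x, hx⟩ := Submodule.Quotient.mk_surjective _ y.1
      refine ⟨Submodule.Quotient.mk ⟨x, ?_⟩, Subtype.ext hx⟩
      have := y.2
      rw [← hx] at this
      exact this
  let e : C.homology i ≃ₗ[A] LinearMap.ker (dbar C i) :=
    (ShortComplex.homologyMapIso (C.isoSc' (i - 1) i (i + 1) (by simp) (by simp)) ≪≫
      S.moduleCatHomologyIso).toLinearEquiv.trans (LinearEquiv.ofBijective ψ hψ)
  exact ⟨Module.Finite.equiv e.symm, Module.Projective.of_equiv e.symm⟩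

end Groth.Agent.DCohPerf
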