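import Groth.Agent.DCohPerf.PerfAmp
import Groth.Agent.ModGroth.AmpDescent

/-!
Flat amplitude is local.
-/

set_option autoImplicit false

universe u

open CategoryTheory CategoryTheory.Limits AlgebraicGeometry HomologicalComplex

attribute [local instance] HasDerivedCategory.standard

namespace Groth.Agent.DCohPerf

open ModGroth ModGroth.Stalk in
theorem flatAmp_of_locally {X : Scheme.{u}} {a b : ℤ} {E : DCoh.D X} (h : ∀ x : X, ∃ (W : Scheme.{u}) (j : W ⟶ X)
    (_ : IsOpenImmersion j) (w : W), j w = x ∧ DCoh.HasFlatAmplitudeIn a b ((RD j).obj E)) :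
    DCoh.HasFlatAmplitudeIn a b E := by
  refine Amp.flatAmp_of_van fun F i hi => ?_
  obtain ⟨K, hK, -, ⟨e⟩⟩ := Amp.exists_rep E
  refine (Amp.van_iff F hK e i).2 ?_
  rw [exactAt_iff_isZero_homology]
  refine isZero_homology_of_stc _ i fun y => ?_
  obtain ⟨W, j, hj, w, rfl, hamp⟩ := h y
  rw [← exactAt_iff_isZero_homology, exactAt_iff]
  let p : (rC j).obj K ≅ (pcx j).obj K :=
    (NatIso.mapHomologicalComplex (Scheme.Modules.restrictFunctorIsoPullback j) (ComplexShape.up ℤ)).app K
  have h0 := (Amp.van_iff _ (isKFlat_pullback j K hK)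
    (DerivedCategory.Q.mapIso p.symm ≪≫ (RQ j K).symm ≪≫ (RD j).mapIso e) i).1
    (Amp.van_of_flatAmp hamp ((Scheme.Modules.pullback j).obj F) i hi)
  have h1 := (ShortComplex.exact_iff_of_iso (pullScIso j w K F i)).1
    (ShortComplex.Exact.map ((exactAt_iff _ _).1 h0) (DerSch.stalkFunctor W w))
  exact (ShortComplex.exact_iff_of_iso ((K.sc i).mapNatIso (tensorRightStalkIso (j.base w) F))).2
    (exact_of_extend _ (faithfullyFlat_stalkMap j w) _ h1)

end Groth.Agent.DCohPerf
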