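import Groth.Agent.DCohPerf.Single
import Groth.Agent.LocFree.Retract

/-!
Direct summands of pseudo-coherent and perfect objects.
-/

set_option autoImplicit false

universe u

open CategoryTheory CategoryTheory.Limits CategoryTheory.Pretriangulated AlgebraicGeometry TopologicalSpace
  HomologicalComplex

attribute [local instance] HasDerivedCategory.standard

namespace Groth.Agent.DCohPerf

variable {X Y : Scheme.{u}}

lemma isSplitEpi_natIso {C D : Type*} [Category C] [Category D] {F G : C ⥤ D} (e : F ≅ G) {A B : C} (f : A ⟶ B)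
    [IsSplitEpi (F.map f)] : IsSplitEpi (G.map f) :=
  IsSplitEpi.mk' ⟨e.inv.app B ≫ section_ (F.map f) ≫ e.hom.app A, by
    rw [Category.assoc, Category.assoc, ← e.hom.naturality, IsSplitEpi.id_assoc, Iso.inv_hom_id_app]⟩

lemma isPC_mono {m n : ℤ} {K : DCoh.D X} (h : DCoh.IsPseudoCoherentD m K) (hmn : m ≤ n) :
    DCoh.IsPseudoCoherentD n K :=
  (isPC_iff n K).2 fun x =>
    let ⟨W, j, hj, w, hw, E, α, hE, hα⟩ := (isPC_iff m K).1 h x
    ⟨W, j, hj, w, hw, E, α, hE, hα.mono hmn⟩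

lemma isFinLocFree_zero {M : X.Modules} (h : IsZero M) : FlatMod.IsFinLocFree M := isFinLocFree_isZero h

/-- Objects without cohomology in degrees `≥ n` are `n`-pseudo-coherent. -/
lemma isPC_of_isZero (n : ℤ) {K : DCoh.D X} (h : ∀ i, n ≤ i → IsZero (DCoh.HD K i)) :
    DCoh.IsPseudoCoherentD n K := by
  let M : X.Modules := FlatMod.freeMod X 0
  have hM : IsZero M := (IsZero.iff_id_eq_zero _).2 (Sigma.hom_ext _ _ fun i => i.elim0)
  have hz : IsZero (DCoh.inD X M) := (DerivedCategory.singleFunctor X.Modules 0).map_isZero hM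
  refine isPC_of_nq (isPC_of_isPerfect (isPerfect_inD_of_finLocFree (isFinLocFree_free 0)))
    (0 : DCoh.inD X M ⟶ K) ⟨fun i hi => ?_, ?_⟩
  · exact ⟨⟨0, ((DerivedCategory.homologyFunctor X.Modules i).map_isZero hz).eq_of_src _ _,
      (h i hi.le).eq_of_src _ _⟩⟩
  · exact ⟨fun a b _ => (h n le_rfl).eq_of_src a b⟩

lemma exists_bound_of_isPC {m : ℤ} {K : DCoh.D X} (h : DCoh.IsPseudoCoherentD m K) (x : X) :
    ∃ (W : Scheme.{u}) (j : W ⟶ X) (_ : IsOpenImmersion j) (w : W),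
      j w = x ∧ ∃ N : ℤ, m ≤ N ∧ ∀ i, N ≤ i → IsZero (DCoh.HD ((RD j).obj K) i) := by
  obtain ⟨W, j, hj, w, hw, E, α, ⟨⟨a, b, hz⟩, -⟩, hα⟩ := (isPC_iff m K).1 h x
  refine ⟨W, j, hj, w, hw, max (b + 1) (m + 1), by omega, fun i hi => ?_⟩
  have := hα.1 i (by omega)
  exact ((E.exactAt_iff_isZero_homology i).1 (ShortComplex.exact_of_isZero_X₂ _ (hz i (by omega)))).of_iso
    ((asIso ((DerivedCategory.homologyFunctor W.Modules i).map α)).symm ≪≫
      (DerivedCategory.homologyFunctorFactors W.Modules i).app E)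

/-- Transporting the second term along an isomorphism. -/
lemma distinguished_iso₂ {T : Triangle (DCoh.D X)} (hT : T ∈ distTriang _) {M : DCoh.D X} (e : T.obj₂ ≅ M) :
    Triangle.mk (T.mor₁ ≫ e.hom) (e.inv ≫ T.mor₂) T.mor₃ ∈ distTriang _ :=
  isomorphic_distinguished _ hT _ (Triangle.isoMk _ _ (Iso.refl _) e.symm (Iso.refl _) (by show (T.mor₁ ≫ e.hom) ≫ e.inv = 𝟙 T.obj₁ ≫ T.mor₁; simp)
    (by show (e.inv ≫ T.mor₂) ≫ 𝟙 T.obj₃ = e.inv ≫ T.mor₂; simp)
    (by show T.mor₃ ≫ (shiftFunctor (DCoh.D X) (1 : ℤ)).map (𝟙 T.obj₁) = 𝟙 T.obj₃ ≫ T.mor₃; simp))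

/-- The object `L ⊕ L[1]` in disguise. -/
lemma exists_cone {m : ℤ} (K L : DCoh.D X) [HasBinaryBiproduct K L] (h : DCoh.IsPseudoCoherentD m (K ⊞ L)) :
    ∃ (C : DCoh.D X) (T : Triangle (DCoh.D X)), T ∈ distTriang _ ∧ DCoh.IsPseudoCoherentD m C ∧
      T.obj₂ = C ∧ Nonempty (T.obj₁ ≅ K⟦(1 : ℤ)⟧) ∧ Nonempty (T.obj₃ ≅ K) := by
  let p : K ⊞ L ⟶ L := biprod.snd
  let q : L ⟶ K ⊞ L := biprod.inr
  have hp : Triangle.mk p (0 : L ⟶ K⟦(1 : ℤ)⟧) (-(biprod.inl : K ⟶ K ⊞ L)⟦(1 : ℤ)⟧') ∈ distTriang _ :=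
    rot_of_distTriang _ (binaryBiproductTriangle_distinguished K L)
  have hq : ∃ (f : K ⊞ L ⟶ K) (g : K ⟶ L⟦(1 : ℤ)⟧), Triangle.mk q f g ∈ distTriang _ := by
    have h0 := distinguished_iso₂ (binaryBiproductTriangle_distinguished L K) (biprod.braiding L K)
    have e1 : (biprod.inl : L ⟶ L ⊞ K) ≫ (biprod.braiding L K).hom = q := by
      refine biprod.hom_ext _ _ ?_ ?_ <;> simp [q]
    have h0' : Triangle.mk ((biprod.inl : L ⟶ L ⊞ K) ≫ (biprod.braiding L K).hom)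
        ((biprod.braiding L K).inv ≫ (biprod.snd : L ⊞ K ⟶ K)) (0 : K ⟶ L⟦(1 : ℤ)⟧) ∈ distTriang _ := h0
    rw [e1] at h0'
    exact ⟨_, _, h0'⟩
  obtain ⟨f, g, hq⟩ := hq
  obtain ⟨C, v, w, hC⟩ := distinguished_cocone_triangle (p ≫ q)
  let O := Triangulated.someOctahedron (rfl : p ≫ q = p ≫ q) hp hq hC
  exact ⟨C, _, O.mem, isPC_triangle₃ m hC (isPC_mono h (by omega)) h, rfl, ⟨Iso.refl _⟩, ⟨Iso.refl _⟩⟩

lemma isPC_summand_bounded {m : ℤ} (K L : DCoh.D X) [HasBinaryBiproduct K L]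
    (h : DCoh.IsPseudoCoherentD m (K ⊞ L)) (N : ℤ) (hN : m ≤ N) (hz : ∀ i, N ≤ i → IsZero (DCoh.HD K i)) :
    DCoh.IsPseudoCoherentD m K := by
  suffices H : ∀ k : ℕ, (k : ℤ) ≤ N - m → DCoh.IsPseudoCoherentD (N - k) K by
    have := H (N - m).toNat (by omega)
    exact isPC_mono this (by omega)
  intro k
  induction k with
  | zero => exact fun _ => isPC_mono (isPC_of_isZero N hz) (by simp)
  | succ k ih =>
    intro hk
    obtain ⟨C, T, hT, hC, rfl, ⟨e₁⟩, ⟨e₃⟩⟩ := exists_cone K L h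
    refine isPC_of_iso (isPC_triangle₃ _ hT (isPC_of_iso ?_ e₁.symm) (isPC_mono hC (by omega))) e₃
    exact isPC_mono (isPC_shift (ih (by omega)) 1 (N - k - 1) (by omega)) (by omega)

theorem isPC_summand {m : ℤ} (K L : DCoh.D X) [HasBinaryBiproduct K L] (h : DCoh.IsPseudoCoherentD m (K ⊞ L)) :
    DCoh.IsPseudoCoherentD m K :=
  isPC_of_locally fun x => by
    obtain ⟨W, j, hj, w, hw, N, hN, hz⟩ := exists_bound_of_isPC h x
    have : HasBinaryBiproducts (DCoh.D W) := HasBinaryBiproducts.of_hasBinaryProducts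
    have := preservesBinaryBiproducts_of_preservesBiproducts (RD j)
    have h' := isPC_of_iso (isPC_restrict h j) ((RD j).mapBiprod K L)
    refine ⟨W, j, hj, w, hw, isPC_summand_bounded _ _ h' N hN fun i hi => ?_⟩
    have : IsSplitMono ((biprod.inl : K ⟶ K ⊞ L)) := inferInstance
    exact IsZero.of_mono ((RD j ⋙ DerivedCategory.homologyFunctor W.Modules i).map (biprod.inl : K ⟶ K ⊞ L)) (hz i hi)

lemma isFinLocFree_of_isSplitEpi {P S : CochainComplex X.Modules ℤ} (β : P ⟶ S) (m : ℤ)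
    (hP : ∀ i, i < m → IsZero (P.X i)) (hS : ∀ i, i ≠ m → IsZero (S.X i)) (hfl : FlatMod.IsFinLocFree (P.X m))
    [IsSplitEpi (homologyMap β m)] : FlatMod.IsFinLocFree (S.X m) := by
  have : IsIso (P.homologyπ m) := P.isIso_homologyπ (m - 1) m (by simp) ((hP _ (by omega)).eq_of_src _ _)
  have : IsIso (S.homologyπ m) := S.isIso_homologyπ (m - 1) m (by simp) ((hS _ (by omega)).eq_of_src _ _)
  let l : S.X m ⟶ S.cycles m := S.liftCycles (𝟙 _) (m + 1) (by simp) ((hS _ (by omega)).eq_of_tgt _ _)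
  refine LocFree.isFinLocFree_retract
    (l ≫ S.homologyπ m ≫ section_ (homologyMap β m) ≫ inv (P.homologyπ m) ≫ P.iCycles m) (β.f m) ?_ hfl
  have e : inv (P.homologyπ m) ≫ cyclesMap β m = homologyMap β m ≫ inv (S.homologyπ m) := by
    rw [IsIso.inv_comp_eq, ← Category.assoc, IsIso.eq_comp_inv, homologyπ_naturality]
  simp only [Category.assoc]
  rw [← cyclesMap_i, reassoc_of% e, IsSplitEpi.id_assoc, IsIso.hom_inv_id_assoc]
  simp [l]

theorem isPerfect_summand (K L : DCoh.D X) [HasBinaryBiproduct K L] (h : DCoh.IsPerfect (K ⊞ L)) :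
    DCoh.IsPerfect K := by
  refine isPerfect_of_locally fun x => ?_
  obtain ⟨W, j, hj, w, hw, E, hE, ⟨e⟩⟩ := (isPerfect_iff _).1 h x
  obtain ⟨a, b, hz⟩ := hE.1
  let m := a - 1
  let i₀ : (RD j).obj K ⟶ DCoh.toD W E := (RD j).map biprod.inl ≫ e.inv
  let r₀ : DCoh.toD W E ⟶ (RD j).obj K := e.hom ≫ (RD j).map biprod.fst
  have hir : i₀ ≫ r₀ = 𝟙 _ := by simp [i₀, r₀, ← Functor.map_comp]
  have hK : DCoh.IsPseudoCoherentD m ((RD j).obj K) :=
    isPC_restrict (isPC_summand K L (isPC_of_isPerfect h)) j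
  have hKz : ∀ i, i < a → IsZero (DCoh.HD ((RD j).obj K) i) := fun i hi => by
    have hEz : IsZero (DCoh.HD (DCoh.toD W E) i) :=
      ((E.exactAt_iff_isZero_homology i).1 (ShortComplex.exact_of_isZero_X₂ _ (hz i (by omega)))).of_iso
        ((DerivedCategory.homologyFunctorFactors W.Modules i).app E)
    rw [IsZero.iff_id_eq_zero, ← (DerivedCategory.homologyFunctor W.Modules i).map_id, ← hir, Functor.map_comp,
      hEz.eq_of_tgt ((DerivedCategory.homologyFunctor W.Modules i).map i₀) 0, zero_comp]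
  obtain ⟨W₁, g₁, _, w₁, hw₁, hP⟩ := (isPC_iff m _).1 hK w
  obtain ⟨P, α, hPs, hPz, hα⟩ := exists_trunc hP
  obtain ⟨C, p, q, hC⟩ := distinguished_cocone_triangle α
  obtain ⟨W₂, g₂, _, w₂, hw₂, h0⟩ := exists_zero (sp_restrict hE g₁) m
    (fun i hi => (rF g₁).map_isZero (hz i (by omega))) C (fun i hi => (nq_iff hC m).1 hα i hi)
    ((RQ g₁ E).inv ≫ (RD g₁).map r₀ ≫ p) w₁
  let T := (RD g₂).mapTriangle.obj (Triangle.mk α p q)
  have hT : T ∈ distTriang _ := (RD g₂).map_distinguished _ hC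
  have hp0 : T.mor₂ = 0 := by
    show (RD g₂).map p = 0
    have e₂ : p = ((RD g₁).map i₀ ≫ (RQ g₁ E).hom) ≫ (RQ g₁ E).inv ≫ (RD g₁).map r₀ ≫ p := by
      simp [← Functor.map_comp_assoc, hir]
    rw [e₂, Functor.map_comp, h0, comp_zero]
  have hT' := inv_rot_of_distTriang _ hT
  obtain ⟨eT, he₁, -⟩ := exists_iso_binaryBiproduct_of_distTriang _ hT' (by simp [Triangle.invRotate, hp0]; rfl)
  let D := T.invRotate.obj₁
  have hDz : ∀ i, i ≠ m → IsZero (DCoh.HD D i) := fun i hi => by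
    refine isZero_homology_shift T.obj₃ (-1) i (i - 1) (by omega) ?_
    rcases lt_or_gt_of_ne hi with h' | h'
    · refine (DerivedCategory.HomologySequence.exact₃ T hT (i - 1) i (by omega)).isZero_X₂ ?_ ?_
      · exact (isZero_homology_restrict g₂ _ _ (isZero_homology_restrict g₁ _ _ (hKz _ (by omega)))).eq_of_src _ _
      · refine (isZero_homology_restrict g₂ _ _ ?_).eq_of_tgt _ _
        exact ((P.exactAt_iff_isZero_homology i).1 (ShortComplex.exact_of_isZero_X₂ _ (hPz i h'))).of_iso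
          ((DerivedCategory.homologyFunctorFactors W₁.Modules i).app P)
    · exact isZero_homology_restrict g₂ _ _ ((nq_iff hC m).1 hα _ (by omega))
  have : D.IsGE m := (DerivedCategory.isGE_iff D m).2 fun i hi => hDz i (by omega)
  have : D.IsLE m := (DerivedCategory.isLE_iff D m).2 fun i hi => hDz i (by omega)
  obtain ⟨M, ⟨eD⟩⟩ := D.exists_iso_singleFunctor_obj_of_isGE_of_isLE m
  let eD' : D ≅ DCoh.toD W₂ ((HomologicalComplex.single W₂.Modules (ComplexShape.up ℤ) m).obj M) :=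
    eD ≪≫ (DerivedCategory.singleFunctorIsoCompQ W₂.Modules m).app M
  let t₀ : T.invRotate.obj₂ ⟶ DCoh.toD W₂ ((HomologicalComplex.single W₂.Modules (ComplexShape.up ℤ) m).obj M) :=
    eT.hom ≫ biprod.fst ≫ eD'.hom
  have ht : (eD'.inv ≫ T.invRotate.mor₁) ≫ t₀ = 𝟙 _ := by
    have : T.invRotate.mor₁ ≫ eT.hom ≫ biprod.fst = 𝟙 D := by rw [reassoc_of% he₁, biprod.inl_fst]
    simp only [t₀, Category.assoc]
    rw [← Category.assoc eT.hom, ← Category.assoc T.invRotate.mor₁, this, Category.id_comp, Iso.inv_hom_id]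
  let t : DCoh.toD W₂ ((rC g₂).obj P) ⟶
      DCoh.toD W₂ ((HomologicalComplex.single W₂.Modules (ComplexShape.up ℤ) m).obj M) := (RQ g₂ P).inv ≫ t₀
  obtain ⟨W₃, g₃, _, w₃, hw₃, β, hβ⟩ := exists_chain_map (sp_restrict hPs g₂) t w₂
  let S := (rC g₃).obj ((HomologicalComplex.single W₂.Modules (ComplexShape.up ℤ) m).obj M)
  let P₃ := (rC g₃).obj ((rC g₂).obj P)
  have hse : IsSplitEpi ((RD g₃).map t) :=
    IsSplitEpi.mk' ⟨(RD g₃).map ((eD'.inv ≫ T.invRotate.mor₁) ≫ (RQ g₂ P).hom), by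
      rw [← Functor.map_comp]
      refine (congrArg (RD g₃).map ?_).trans ((RD g₃).map_id _)
      simp only [t, Category.assoc]
      erw [Iso.hom_inv_id_assoc]
      rw [← Category.assoc]
      exact ht⟩
  have hQ : IsSplitEpi (DerivedCategory.Q.map β) := by
    rw [show DerivedCategory.Q.map β = (RQ g₃ _).inv ≫ (RD g₃).map t ≫ (RQ g₃ _).hom by rw [hβ]; simp]
    infer_instance
  have : IsSplitEpi ((DerivedCategory.Q ⋙ DerivedCategory.homologyFunctor W₃.Modules m).map β) :=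
    inferInstanceAs (IsSplitEpi ((DerivedCategory.homologyFunctor W₃.Modules m).map (DerivedCategory.Q.map β)))
  have : IsSplitEpi (homologyMap β m) :=
    isSplitEpi_natIso (DerivedCategory.homologyFunctorFactors W₃.Modules m) β
  have hSz : ∀ i, i ≠ m → IsZero (S.X i) := fun i hi =>
    (rF g₃).map_isZero (HomologicalComplex.isZero_single_obj_X (ComplexShape.up ℤ) m M i hi)
  have hSm : FlatMod.IsFinLocFree (S.X m) := isFinLocFree_of_isSplitEpi β m
    (fun i hi => (rF g₃).map_isZero ((rF g₂).map_isZero (hPz i hi))) hSz ((sp_restrict (sp_restrict hPs g₂) g₃).2 m)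
  have hS : DCoh.IsStrictlyPerfect S := ⟨⟨m, m, fun i hi => hSz i (by omega)⟩, fun i => by
    by_cases hi : i = m
    · subst hi; exact hSm
    · exact isFinLocFree_isZero (hSz i hi)⟩
  let T₃ := (RD g₃).mapTriangle.obj T.invRotate
  have h₁ : DCoh.IsPerfect T₃.obj₁ :=
    isPerfect_of_iso (isPerfect_of_sp hS) ((RQ g₃ _).symm ≪≫ (RD g₃).mapIso eD'.symm)
  have h₂ : DCoh.IsPerfect T₃.obj₂ :=
    isPerfect_restrict (isPerfect_restrict (isPerfect_of_sp hPs) g₂) g₃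
  have h₃ := isPerfect_triangle₃ ((RD g₃).map_distinguished _ hT') h₁ h₂
  exact ⟨W₃, g₃ ≫ g₂ ≫ g₁ ≫ j, inferInstance, w₃,
    by rw [Scheme.Hom.comp_apply, hw₃, Scheme.Hom.comp_apply, hw₂, Scheme.Hom.comp_apply, hw₁, hw],
    isPerfect_of_iso h₃ (((RD g₃).mapIso ((RD g₂).mapIso ((RDComp g₁ j).app K).symm)) ≪≫
      (RD g₃).mapIso ((RDComp g₂ (g₁ ≫ j)).app K).symm ≪≫ ((RDComp g₃ (g₂ ≫ g₁ ≫ j)).app K).symm)⟩

end Groth.Agent.DCohPerf
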