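import Groth.Agent.DCohPerf.Coherent
import Groth.Agent.DCohPerf.Devissage
import Groth.Agent.DCohPerf.Summand
import Groth.Agent.LocFree.Retract
import Groth.Agent.ProjDim.Regular
import Groth.Agent.QCohLib.FiniteType

/-!
Coherent modules on locally Noetherian schemes are pseudo-coherent, and perfect in the regular case.
-/

set_option autoImplicit false

universe u

open CategoryTheory CategoryTheory.Limits CategoryTheory.Pretriangulated AlgebraicGeometry TopologicalSpace Opposite

attribute [local instance] HasDerivedCategory.standard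

namespace Groth.Agent.DCohPerf

variable {X : Scheme.{u}}

section Affine

variable {A : CommRingCat.{u}}

/-- A free presentation of a finite module, pushed to the affine scheme. -/
lemma exists_tilde_ses (M : ModuleCat.{u} A) [Module.Finite A M] :
    ∃ (n : ℕ) (g : ModuleCat.of A (Fin n → A) ⟶ M) (_ : Function.Surjective g)
      (w : (ModuleCat.ofHom (LinearMap.ker g.hom).subtype) ≫ g = 0),
      ((ShortComplex.mk _ g w).map (tilde.functor A)).ShortExact := by
  obtain ⟨n, g, hg⟩ := Module.Finite.exists_fin' A M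
  have w : (ModuleCat.ofHom (LinearMap.ker g).subtype) ≫ ModuleCat.ofHom g = 0 :=
    ModuleCat.hom_ext (LinearMap.exact_subtype_ker_map g).linearMap_comp_eq_zero
  refine ⟨n, ModuleCat.ofHom g, hg, w, ?_⟩
  have hS : (ShortComplex.mk _ (ModuleCat.ofHom g) w).ShortExact :=
    { exact := (ShortComplex.ShortExact.moduleCat_exact_iff_function_exact _).2 (LinearMap.exact_subtype_ker_map g)
      mono_f := (ModuleCat.mono_iff_injective _).2 Subtype.val_injective
      epi_g := (ModuleCat.epi_iff_surjective _).2 hg }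
  exact hS.map_of_exact (tilde.functor A)

/-- Finite modules over a Noetherian ring give pseudo-coherent objects. -/
lemma isPC_tilde [IsNoetherianRing A] : ∀ (n : ℕ) (M : ModuleCat.{u} A), Module.Finite A M →
    DCoh.IsPseudoCoherentD (-(n : ℤ)) (DCoh.inD (Spec A) (tilde M)) := by
  intro n
  induction n with
  | zero =>
    intro M hM
    obtain ⟨r, g, hg, w, hS⟩ := exists_tilde_ses M
    have : Epi ((tilde.functor A).map g) := hS.epi_g
    exact isPC_of_nq (isPC_of_isPerfect (isPerfect_inD_of_finLocFree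
      (LocFree.isFinLocFree_tilde (ModuleCat.of A (Fin r → A))))) _ (nq_single_of_epi ((tilde.functor A).map g))
  | succ n ih =>
    intro M hM
    obtain ⟨r, g, hg, w, hS⟩ := exists_tilde_ses M
    refine isPC_triangle₃ (-((n + 1 : ℕ) : ℤ)) hS.singleTriangle_distinguished ?_
      (isPC_of_isPerfect (isPerfect_inD_of_finLocFree (LocFree.isFinLocFree_tilde (ModuleCat.of A (Fin r → A)))))
    exact isPC_mono (ih (ModuleCat.of A (LinearMap.ker g.hom)) inferInstance) (by omega)

/-- Finite modules of finite projective dimension give perfect objects. -/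
lemma isPerfect_tilde [IsNoetherianRing A] : ∀ (n : ℕ) (M : ModuleCat.{u} A), Module.Finite A M →
    HasProjectiveDimensionLT M (n + 1) → DCoh.IsPerfect (DCoh.inD (Spec A) (tilde M)) := by
  intro n
  induction n with
  | zero =>
    intro M hM hp
    have : Module.Projective A M := (ProjDim.projDim_zero_iff M).1 hp
    exact isPerfect_inD_of_finLocFree (LocFree.isFinLocFree_tilde M)
  | succ n ih =>
    intro M hM hp
    obtain ⟨r, g, hg, w, hS⟩ := exists_tilde_ses M
    refine isPerfect_triangle₃ hS.singleTriangle_distinguished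
      (ih (ModuleCat.of A (LinearMap.ker g.hom)) inferInstance ?_)
      (isPerfect_inD_of_finLocFree (LocFree.isFinLocFree_tilde (ModuleCat.of A (Fin r → A))))
    exact (ProjDim.shift_iff (LinearMap.ker g.hom).subtype g.hom Subtype.val_injective
      (LinearMap.exact_subtype_ker_map _) hg n).1 hp

end Affine

/-- An affine chart with a finite module for a coherent sheaf. -/
lemma exists_finite_chart [IsLocallyNoetherian X] {M : X.Modules} (h : Coh.IsCoh M) (x : X) :
    ∃ (U : X.Opens) (hU : IsAffineOpen U) (N : ModuleCat.{u} Γ(X, U)), x ∈ U ∧ IsNoetherianRing Γ(X, U) ∧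
      Module.Finite Γ(X, U) N ∧ Nonempty ((rF hU.fromSpec).obj M ≅ tilde N) := by
  obtain ⟨U, hU, hx, -⟩ := TopologicalSpace.Opens.isBasis_iff_nbhd.mp X.isBasis_affineOpens (Opens.mem_top x)
  have : IsNoetherianRing Γ(X, U) := IsLocallyNoetherian.component_noetherian ⟨U, hU⟩
  have := h.1
  have hfin := (QCohLib.isFiniteType_iff_affine M).1 h.2 ⟨U, hU⟩
  have : (QCohLib.onSpec M hU).IsQuasicoherent := inferInstance
  exact ⟨U, hU, QCohLib.ΓR (QCohLib.onSpec M hU), hx, inferInstance, Module.Finite.equiv (QCohLib.onSpecΓ M hU).symm,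
    ⟨(QCohLib.counitIso (QCohLib.onSpec M hU)).symm⟩⟩

/-- Coherent modules are pseudo-coherent. -/
theorem isPC_of_isCoh [IsLocallyNoetherian X] {M : X.Modules} (h : Coh.IsCoh M) (m : ℤ) :
    DCoh.IsPseudoCoherentD m (DCoh.inD X M) :=
  isPC_of_locally fun x => by
    obtain ⟨U, hU, N, hx, hN, hfin, ⟨e⟩⟩ := exists_finite_chart h x
    obtain ⟨w, hw⟩ : x ∈ Set.range hU.fromSpec := by rw [hU.range_fromSpec]; exact hx
    exact ⟨_, hU.fromSpec, inferInstance, w, hw, isPC_of_iso
      (isPC_mono (isPC_tilde (-m).toNat N hfin) (by omega))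
      ((RDsingle hU.fromSpec M).trans ((DerivedCategory.singleFunctor _ 0).mapIso e)).symm⟩

/-- On a regular scheme coherent modules are perfect. -/
theorem isPerfect_of_isCoh_regular [IsLocallyNoetherian X]
    (hreg : ∀ x : X, IsRegularLocalRing (X.presheaf.stalk x)) {M : X.Modules} (h : Coh.IsCoh M) :
    DCoh.IsPerfect (DCoh.inD X M) :=
  isPerfect_of_locally fun x => by
    obtain ⟨U, hU, N, hx, hN, hfin, ⟨e⟩⟩ := exists_finite_chart h x
    obtain ⟨w, hw⟩ : x ∈ Set.range hU.fromSpec := by rw [hU.range_fromSpec]; exact hx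
    have hr : ∀ p : PrimeSpectrum Γ(X, U), IsRegularLocalRing (Localization.AtPrime p.asIdeal) := fun p => by
      have := hreg (hU.fromSpec p)
      have hy : hU.fromSpec p ∈ U := hU.range_fromSpec.le (Set.mem_range_self p)
      let := TopCat.Presheaf.algebra_section_stalk X.presheaf (⟨hU.fromSpec p, hy⟩ : U)
      have : IsLocalization.AtPrime (X.presheaf.stalk (hU.fromSpec p)) p.asIdeal := hU.isLocalization_stalk' p hy
      exact IsRegularLocalRing.of_ringEquiv
        (IsLocalization.algEquiv p.asIdeal.primeCompl (X.presheaf.stalk (hU.fromSpec p))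
          (Localization.AtPrime p.asIdeal)).toRingEquiv
    obtain ⟨d, hd⟩ := ProjDim.exists_projDim_of_regular hr N
    exact ⟨_, hU.fromSpec, inferInstance, w, hw, isPerfect_of_iso (isPerfect_tilde d N hfin hd)
      ((RDsingle hU.fromSpec M).trans ((DerivedCategory.singleFunctor _ 0).mapIso e)).symm⟩

section DbCoh

instance containsZero_isCoh : ObjectProperty.ContainsZero (fun M : X.Modules => Coh.IsCoh M) :=
  ⟨⟨_, isZero_zero _, QCohLib.isCoh_of_isZero (isZero_zero _)⟩⟩

instance isClosedUnderIso_isCoh : ObjectProperty.IsClosedUnderIsomorphisms (fun M : X.Modules => Coh.IsCoh M) :=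
  ⟨fun e h => QCohLib.isCoh_of_iso e h⟩

/-- Bounded objects with coherent cohomology are pseudo-coherent. -/
theorem isPC_of_dbCoh [IsLocallyNoetherian X] {K : DCoh.D X}
    (h : KGrp.DbP (fun M : X.Modules => Coh.IsCoh M) K) (m : ℤ) : DCoh.IsPseudoCoherentD m K := by
  refine prop_of_dbP (P := fun M : X.Modules => Coh.IsCoh M) (fun K => ∀ m, DCoh.IsPseudoCoherentD m K)
    (fun e h m => isPC_of_iso (h m) e) (fun T hT h₁ h₃ m => isPC_triangle₂ m hT (h₁ m) (h₃ m))
    (fun K n h m => isPC_shift (h (m + n)) n m rfl) (fun M hM m => isPC_of_isCoh hM m) h m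

theorem isPerfect_of_dbCoh_regular [IsLocallyNoetherian X]
    (hreg : ∀ x : X, IsRegularLocalRing (X.presheaf.stalk x)) {K : DCoh.D X}
    (h : KGrp.DbP (fun M : X.Modules => Coh.IsCoh M) K) : DCoh.IsPerfect K :=
  prop_of_dbP (P := fun M : X.Modules => Coh.IsCoh M) DCoh.IsPerfect
    (fun e h => isPerfect_of_iso h e) (fun T hT h₁ h₃ => isPerfect_triangle₂ hT h₁ h₃)
    (fun K n h => isPerfect_shift h n) (fun M hM => isPerfect_of_isCoh_regular hreg hM) h

end DbCoh

end Groth.Agent.DCohPerf
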