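import Groth.Agent.TFun.Rank
import Groth.Prelude.Def_DTen4
import Mathlib.Algebra.BigOperators.Finprod
import Mathlib.Data.Int.Interval
import Mathlib.Algebra.Ring.NegOnePow

/-!
Dimensions of the cohomology of the fibres of a complex of finite modules.
-/

set_option autoImplicit false

universe u

open CategoryTheory CategoryTheory.Limits TensorProduct Module

namespace Groth.Agent.DCohPerf

variable {κ : Type u} [Field κ]

lemma finrank_sc_homology (S : ShortComplex (ModuleCat.{u} κ)) [Module.Finite κ S.X₂] :
    finrank κ S.homology + finrank κ (LinearMap.range S.f.hom) + finrank κ (LinearMap.range S.g.hom) =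
      finrank κ S.X₂ := by
  have h1 : finrank κ S.homology = finrank κ (LinearMap.ker S.g.hom ⧸ LinearMap.range S.moduleCatToCycles) :=
    S.moduleCatHomologyIso.toLinearEquiv.finrank_eq
  have h2 := (LinearMap.range S.moduleCatToCycles).finrank_quotient_add_finrank
  have h3 : finrank κ (LinearMap.range S.moduleCatToCycles) = finrank κ (LinearMap.range S.f.hom) := by
    have : (LinearMap.range S.moduleCatToCycles).map (LinearMap.ker S.g.hom).subtype = LinearMap.range S.f.hom := by
      rw [← LinearMap.range_comp]
      rfl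
    rw [← this, (Submodule.equivMapOfInjective _ (Submodule.injective_subtype _) _).finrank_eq]
  have h4 := S.g.hom.finrank_range_add_finrank_ker
  omega

/-- The rank of the differential from degree `i` to degree `j`. -/
noncomputable def drk (E : CochainComplex (ModuleCat.{u} κ) ℤ) (i j : ℤ) : ℕ := finrank κ (LinearMap.range (E.d i j).hom)

lemma finrank_cx_homology (E : CochainComplex (ModuleCat.{u} κ) ℤ) {i j k : ℤ} (hij : i + 1 = j) (hjk : j + 1 = k)
    [Module.Finite κ (E.X j)] :
    finrank κ (E.homology j) + drk E i j + drk E j k = finrank κ (E.X j) := by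
  rw [show finrank κ (E.homology j) = finrank κ (E.sc' i j k).homology from
    (ShortComplex.homologyMapIso (E.isoSc' i j k (by simp; omega) (by simp; omega))).toLinearEquiv.finrank_eq]
  have : Module.Finite κ (E.sc' i j k).X₂ := ‹Module.Finite κ (E.X j)›
  exact finrank_sc_homology (E.sc' i j k)

/-- The Euler characteristic does not depend on the differentials. -/
lemma euler_eq (E : CochainComplex (ModuleCat.{u} κ) ℤ) (a b : ℤ) (hz : ∀ i, i < a ∨ b < i → IsZero (E.X i))
    [∀ i, Module.Finite κ (E.X i)] :
    (∑ᶠ i : ℤ, (i.negOnePow : ℤ) * (finrank κ (E.homology i) : ℤ)) =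
      ∑ᶠ i : ℤ, (i.negOnePow : ℤ) * (finrank κ (E.X i) : ℤ) := by
  let g : ℤ → ℤ := fun i => (i.negOnePow : ℤ) * (drk E (i - 1) i : ℤ)
  have key : ∀ i, (i.negOnePow : ℤ) * (finrank κ (E.X i) : ℤ) =
      (i.negOnePow : ℤ) * (finrank κ (E.homology i) : ℤ) + (g i - g (i + 1)) := fun i => by
    have h := finrank_cx_homology E (i := i - 1) (j := i) (k := i + 1) (by omega) rfl
    simp only [g, Int.negOnePow_succ, Units.val_neg, add_sub_cancel_right]
    rw [← h]
    push_cast
    ring
  have hd : ∀ i, i < a ∨ b < i → drk E (i - 1) i = 0 := fun i hi => by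
    have h := finrank_cx_homology E (i := i - 1) (j := i) (k := i + 1) (by omega) rfl
    have : Subsingleton (E.X i) := ModuleCat.subsingleton_of_isZero (hz i hi)
    rw [finrank_zero_of_subsingleton (M := E.X i)] at h
    omega
  have fsupp : ∀ f : ℤ → ℤ, (∀ i, i < a ∨ b < i → f i = 0) → (Function.support f).Finite := fun f hf =>
    (Set.finite_Icc a b).subset fun i hi => by
      by_contra hc
      rw [Set.mem_Icc, not_and_or, not_le, not_le] at hc
      exact hi (hf i hc)
  have fg : (Function.support g).Finite := fsupp g fun i hi => by simp [g, hd i hi]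
  have fg' : (Function.support fun i => g (i + 1)).Finite :=
    fg.preimage ((Equiv.addRight (1 : ℤ)).injective.injOn)
  have fh : (Function.support fun i : ℤ => (i.negOnePow : ℤ) * (finrank κ (E.homology i) : ℤ)).Finite :=
    fsupp _ fun i hi => by
      have h := finrank_cx_homology E (i := i - 1) (j := i) (k := i + 1) (by omega) rfl
      have : Subsingleton (E.X i) := ModuleCat.subsingleton_of_isZero (hz i hi)
      rw [finrank_zero_of_subsingleton (M := E.X i)] at h
      simp [show finrank κ (E.homology i) = 0 by omega]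
  have hsum : ∑ᶠ i : ℤ, (g i - g (i + 1)) = 0 := by
    rw [finsum_sub_distrib fg fg', sub_eq_zero]
    exact (finsum_comp_equiv (Equiv.addRight (1 : ℤ)) (f := g)).symm
  have hdiff : (Function.support fun i => g i - g (i + 1)).Finite :=
    (fg.union fg').subset (Function.support_sub g fun i => g (i + 1))
  rw [finsum_congr key, finsum_add_distrib fh hdiff, hsum, add_zero]

variable {A : Type u} [CommRing A]

/-- The dimension of a fibre does not depend on the field. -/
lemma finrank_tensor_eq_fibreDim (φ : A →+* κ) (M : Type u) [AddCommGroup M] [Module A M] (p : PrimeSpectrum A)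
    (hp : RingHom.ker φ = p.asIdeal) :
    letI := φ.toAlgebra
    finrank κ (κ ⊗[A] M) = TFun.fibreDim M p := by
  let := φ.toAlgebra
  let χ : p.asIdeal.ResidueField →+* κ := Ideal.ResidueField.lift p.asIdeal φ hp.ge fun a ha =>
    IsUnit.mk0 _ fun h => ha (hp ▸ (RingHom.mem_ker.2 h : a ∈ RingHom.ker φ))
  let := χ.toAlgebra
  have : IsScalarTower A p.asIdeal.ResidueField κ := IsScalarTower.of_algebraMap_eq fun a => by
    show φ a = χ (algebraMap A p.asIdeal.ResidueField a)
    simp [χ]
  rw [← (TensorProduct.AlgebraTensorModule.cancelBaseChange A p.asIdeal.ResidueField κ κ M).finrank_eq,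
    Module.finrank_baseChange]
  rfl

variable (φ : A →+* κ) (C : CochainComplex (ModuleCat.{u} A) ℤ)

lemma finrank_ext_X (hC : ∀ i, Module.Free A (C.X i) ∧ Module.Finite A (C.X i)) [Nontrivial A] (i : ℤ) :
    finrank κ (((DTen.extCx φ).obj C).X i) = finrank A (C.X i) := by
  let := φ.toAlgebra
  have := (hC i).1
  exact (show finrank κ (κ ⊗[A] C.X i) = finrank A (C.X i) from Module.finrank_baseChange)

/-- Cohomology of a fibre in terms of two cokernels. -/
theorem finrank_fibre_homology_add (hC : ∀ i, Module.Free A (C.X i) ∧ Module.Finite A (C.X i)) [Nontrivial A]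
    (p : PrimeSpectrum A) (hp : RingHom.ker φ = p.asIdeal) {i j k : ℤ} (hij : i + 1 = j) (hjk : j + 1 = k) :
    finrank κ (((DTen.extCx φ).obj C).homology j) + finrank A (C.X k) =
      TFun.fibreDim (C.X j ⧸ LinearMap.range (C.d i j).hom) p +
        TFun.fibreDim (C.X k ⧸ LinearMap.range (C.d j k).hom) p := by
  let := φ.toAlgebra
  have := (hC j).2
  have := (hC k).2
  have : Module.Finite κ (((DTen.extCx φ).obj C).X j) := inferInstanceAs (Module.Finite κ (κ ⊗[A] C.X j))
  have h0 := finrank_cx_homology ((DTen.extCx φ).obj C) hij hjk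
  have h1 := TFun.rank_baseChange_add (κ := κ) (C.d i j).hom
  have h2 := TFun.rank_baseChange_add (κ := κ) (C.d j k).hom
  rw [finrank_tensor_eq_fibreDim φ _ p hp] at h1 h2
  have h3 : finrank κ (κ ⊗[A] C.X k) = finrank A (C.X k) := by
    have := (hC k).1
    exact Module.finrank_baseChange
  change finrank κ (((DTen.extCx φ).obj C).homology j) + finrank κ (LinearMap.range ((C.d i j).hom.baseChange κ)) +
    finrank κ (LinearMap.range ((C.d j k).hom.baseChange κ)) = finrank κ (κ ⊗[A] C.X j) at h0
  omega

/-- The Euler characteristic of a fibre. -/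
theorem euler_fibre (hC : ∀ i, Module.Free A (C.X i) ∧ Module.Finite A (C.X i)) [Nontrivial A] (a b : ℤ)
    (hz : ∀ i, i < a ∨ b < i → IsZero (C.X i)) :
    (∑ᶠ i : ℤ, (i.negOnePow : ℤ) * (finrank κ (((DTen.extCx φ).obj C).homology i) : ℤ)) =
      ∑ᶠ i : ℤ, (i.negOnePow : ℤ) * (finrank A (C.X i) : ℤ) := by
  have : ∀ i, Module.Finite κ (((DTen.extCx φ).obj C).X i) := fun i => by
    let := φ.toAlgebra
    have := (hC i).2
    exact inferInstanceAs (Module.Finite κ (κ ⊗[A] C.X i))
  rw [euler_eq ((DTen.extCx φ).obj C) a b fun i hi => (ModuleCat.extendScalars.{u, u, u} φ).map_isZero (hz i hi)]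
  exact finsum_congr fun i => by rw [finrank_ext_X φ C hC i]

end Groth.Agent.DCohPerf
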