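import Groth.Prelude.Def_PerfD
import Groth.Agent.DCohPerf.Summand
import Groth.Agent.DCohPerf.FibreAlg
import Groth.Agent.ModGroth.PerfLocal
import Groth.Agent.LocFree.Retract

/-!
Derived fibres of pseudo-coherent and perfect objects.
-/

set_option autoImplicit false

universe u

open CategoryTheory CategoryTheory.Limits CategoryTheory.Pretriangulated AlgebraicGeometry TopologicalSpace
  Opposite HomologicalComplex

attribute [local instance] HasDerivedCategory.standard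

namespace Groth.Agent.DCohPerf

variable {X Y Z : Scheme.{u}}

/-- Pullback of complexes. -/
noncomputable abbrev pC (f : X ⟶ Y) := ModGroth.Stalk.pcx f

/-- Derived pullback preserves `m`-quasi-isomorphisms. -/
lemma nq_lpull (f : X ⟶ Y) [DCoh.HasLpull f] {m : ℤ} {A B : DCoh.D Y} {α : A ⟶ B} (hα : NQ m α) :
    NQ m ((DCoh.Lpull f).map α) := by
  obtain ⟨RA, hRA, -, ⟨eA⟩⟩ := ModGroth.Amp.exists_rep A
  obtain ⟨RB, hRB, -, ⟨eB⟩⟩ := ModGroth.Amp.exists_rep B
  obtain ⟨E', s, hs, a, ha⟩ := DerivedCategory.right_fac (eA.hom ≫ α ≫ eB.inv)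
  obtain ⟨S, p, hS, -, hp, -⟩ := ModGroth.scheme_exists_resolution E'
  let Q' : CochainComplex Y.Modules ℤ ⥤ DCoh.D Y := DerivedCategory.Q
  have hp' : IsIso (Q'.map p) := ModGroth.Amp.isIso_Q_map p hp
  have hs' : IsIso (Q'.map s) := hs
  have e1 : Q'.map (p ≫ a) = Q'.map (p ≫ s) ≫ eA.hom ≫ α ≫ eB.inv := by
    rw [ha, Q'.map_comp, Q'.map_comp, Category.assoc]
    exact congrArg (Q'.map p ≫ ·) (IsIso.hom_inv_id_assoc _ _).symm
  have : IsIso (Q'.map (p ≫ s)) := by rw [Q'.map_comp]; infer_instance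
  have h0 : NQ m (Q'.map (p ≫ a)) := by
    rw [e1]
    exact (nq_of_isIso m _).comp ((nq_of_isIso m _).comp (hα.comp (nq_of_isIso m _)))
  have h1 : NQ m ((DerivedCategory.Q : CochainComplex X.Modules ℤ ⥤ DCoh.D X).map ((pC f).map (p ≫ a))) :=
    ModGroth.Perf.hCond_pullback f hS hRB (p ≫ a) m h0
  have h2 : NQ m ((DCoh.Lpull f).map (Q'.map (p ≫ a))) := by
    have hn : (DCoh.Lpull f).map (Q'.map (p ≫ a)) = (ModGroth.Stalk.lpullValueIso f hS).hom ≫
        (DerivedCategory.Q : CochainComplex X.Modules ℤ ⥤ DCoh.D X).map ((pC f).map (p ≫ a)) ≫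
          (ModGroth.Stalk.lpullValueIso f hRB).inv := by
      rw [← Category.assoc, Iso.eq_comp_inv]
      exact (ModGroth.DerivedLeft.comparison (Scheme.Modules.pullback f)).naturality (p ≫ a)
    rw [hn]
    exact (nq_of_isIso m _).comp (h1.comp (nq_of_isIso m _))
  have e2 : α = (inv (Q'.map (p ≫ s) ≫ eA.hom)) ≫ Q'.map (p ≫ a) ≫ eB.hom := by simp [e1]
  rw [e2, (DCoh.Lpull f).map_comp, (DCoh.Lpull f).map_comp]
  exact (nq_of_isIso m _).comp (h2.comp (nq_of_isIso m _))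

/-- Pullback through an open immersion. -/
lemma nonempty_lpull_comp (f : X ⟶ Z) (g : X ⟶ Y) (k : Y ⟶ Z) [IsOpenImmersion k] (h : g ≫ k = f)
    [DCoh.HasLpull f] [DCoh.HasLpull g] (E : DCoh.D Z) :
    Nonempty ((DCoh.Lpull f).obj E ≅ (DCoh.Lpull g).obj ((RD k).obj E)) := by
  obtain ⟨R, hR, -, ⟨eR⟩⟩ := ModGroth.Amp.exists_rep E
  let a : (rC k).obj R ≅ (pC k).obj R :=
    (NatIso.mapHomologicalComplex (Scheme.Modules.restrictFunctorIsoPullback k) (ComplexShape.up ℤ)).app R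
  let b : (pC g).obj ((pC k).obj R) ≅ (pC f).obj R :=
    (NatIso.mapHomologicalComplex (Scheme.Modules.pullbackComp g k ≪≫ Scheme.Modules.pullbackCongr h)
      (ComplexShape.up ℤ)).app R
  exact ⟨(DCoh.Lpull f).mapIso eR.symm ≪≫ ModGroth.Stalk.lpullValueIso f hR ≪≫ DerivedCategory.Q.mapIso b.symm ≪≫
    (ModGroth.Stalk.lpullValueIso g (ModGroth.Stalk.isKFlat_pullback k R hR)).symm ≪≫
    (DCoh.Lpull g).mapIso (DerivedCategory.Q.mapIso a.symm ≪≫ (RQ k R).symm ≪≫ (RD k).mapIso eR)⟩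

noncomputable instance additive_gamma (A : CommRingCat.{u}) : (moduleSpecΓFunctor (R := A)).Additive :=
  (tilde.adjunction (R := A)).right_adjoint_additive

noncomputable instance additive_tilde (A : CommRingCat.{u}) : (tilde.functor A).Additive :=
  inferInstanceAs ((tilde.functor (CommRingCat.of A)).Additive)

noncomputable instance additive_ext_tilde {A B : CommRingCat.{u}} (ψ : A ⟶ B) :
    (ModuleCat.extendScalars.{u, u, u} ψ.hom ⋙ tilde.functor B).Additive :=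
  have : (ModuleCat.extendScalars.{u, u, u} ψ.hom).Additive :=
    (ModuleCat.extendRestrictScalarsAdj.{u, u, u} ψ.hom).left_adjoint_additive
  inferInstance

noncomputable instance pzm_tilde (A : CommRingCat.{u}) : (tilde.functor A).PreservesZeroMorphisms :=
  haveI := additive_tilde A
  Functor.preservesZeroMorphisms_of_additive _

noncomputable instance pzm_ext_tilde {A B : CommRingCat.{u}} (ψ : A ⟶ B) :
    (ModuleCat.extendScalars.{u, u, u} ψ.hom ⋙ tilde.functor B).PreservesZeroMorphisms :=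
  haveI := additive_ext_tilde ψ
  Functor.preservesZeroMorphisms_of_additive _

/-- The tilde of a complex of modules. -/
noncomputable abbrev tCx (A : CommRingCat.{u}) :
    CochainComplex (ModuleCat.{u} A) ℤ ⥤ CochainComplex (Spec A).Modules ℤ :=
  (tilde.functor A).mapHomologicalComplex (ComplexShape.up ℤ)

/-- Global sections of tilde are the module. -/
lemma free_finite_of_tilde {A : CommRingCat.{u}} {M : (Spec A).Modules} {n : ℕ} (e : M ≅ FlatMod.freeMod (Spec A) n) :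
    Module.Free A (QCohLib.ΓR M) ∧ Module.Finite A (QCohLib.ΓR M) := by
  let d : QCohLib.ΓR M ≅ ModuleCat.of A (ULift.{u} (Fin n) →₀ A) :=
    (moduleSpecΓFunctor (R := A)).mapIso (e ≪≫ (LocFree.tildeFreeFinIso A n).symm) ≪≫
      (tilde.toTildeΓNatIso.app (ModuleCat.of A (ULift.{u} (Fin n) →₀ A))).symm
  exact ⟨Module.Free.of_equiv d.toLinearEquiv.symm, Module.Finite.equiv d.toLinearEquiv.symm⟩

/-- A complex with free terms on an affine scheme comes from modules. -/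
lemma exists_module_model {A : CommRingCat.{u}} (P : CochainComplex (Spec A).Modules ℤ)
    (hfree : ∀ i, ∃ n : ℕ, Nonempty (P.X i ≅ FlatMod.freeMod (Spec A) n)) :
    ∃ C : CochainComplex (ModuleCat.{u} A) ℤ, (∀ i, Module.Free A (C.X i) ∧ Module.Finite A (C.X i)) ∧
      (∀ i, IsZero (P.X i) → IsZero (C.X i)) ∧ Nonempty ((tCx A).obj C ≅ P) := by
  have hq : ∀ i, (P.X i).IsQuasicoherent := fun i => by
    obtain ⟨n, ⟨e⟩⟩ := hfree i
    have := QCohLib.isQuasicoherent_tilde_obj (R := A) (ModuleCat.of A (ULift.{u} (Fin n) →₀ A))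
    exact QCohLib.isQuasicoherent_of_iso ((LocFree.tildeFreeFinIso A n) ≪≫ e.symm)
  refine ⟨((moduleSpecΓFunctor (R := A)).mapHomologicalComplex (ComplexShape.up ℤ)).obj P, fun i => ?_,
    fun i hi => (moduleSpecΓFunctor (R := A)).map_isZero hi, ⟨?_⟩⟩
  · obtain ⟨n, ⟨e⟩⟩ := hfree i
    exact free_finite_of_tilde e
  · exact HomologicalComplex.Hom.isoOfComponents (fun i => have := hq i; QCohLib.counitIso (P.X i))
      fun i j _ => ((tilde.adjunction (R := A)).counit.naturality (P.d i j)).symm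

lemma finrank_tilde {κ : Type u} [Field κ] (M : ModuleCat.{u} (CommRingCat.of κ)) :
    Module.finrank (Coh.Γtop (Spec (CommRingCat.of κ))) ((tilde M).val.obj (op ⊤)) = Module.finrank κ M := by
  let j : M ≃+ Γ(tilde M, (⊤ : (Spec (CommRingCat.of κ)).Opens)) := (tilde.isoTop M).toLinearEquiv.toAddEquiv
  let i : κ → Γ(Spec (CommRingCat.of κ), ⊤) := fun r => (Scheme.ΓSpecIso (CommRingCat.of κ)).inv r
  have hi : Function.Bijective i := ConcreteCategory.bijective_of_isIso (Scheme.ΓSpecIso (CommRingCat.of κ)).inv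
  refine congrArg Cardinal.toNat (rank_eq_of_equiv_equiv i j hi fun r m => ?_).symm
  refine ((tilde.isoTop M).toLinearEquiv.map_smul r m).trans ?_
  show ((Spec (CommRingCat.of κ)).presheaf.map ((⊤ : (Spec (CommRingCat.of κ)).Opens).leTop.op)
    ((Scheme.ΓSpecIso (CommRingCat.of κ)).inv r)) • j m = _
  rw [show (⊤ : (Spec (CommRingCat.of κ)).Opens).leTop.op = 𝟙 _ from rfl, CategoryTheory.Functor.map_id]
  rfl

/-- Cohomology of the pullback of a tilde complex. -/
noncomputable def pullTildeHomologyIso {A B : CommRingCat.{u}} (ψ : A ⟶ B) (C : CochainComplex (ModuleCat.{u} A) ℤ) (i : ℤ) :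
    ((pC (Spec.map ψ)).obj ((tCx A).obj C)).homology i ≅
      tilde (((DTen.extCx ψ.hom).obj C).homology i) :=
  (homologyFunctor _ (ComplexShape.up ℤ) i).mapIso
    ((NatIso.mapHomologicalComplex (QCohLib.pullbackTildeIso ψ) (ComplexShape.up ℤ)).app C).symm ≪≫
    (((DTen.extCx ψ.hom).obj C).sc i).mapHomologyIso (tilde.functor B)

lemma finrank_congr {S : Scheme.{u}} {M N : S.Modules} (e : M ≅ N) :
    Module.finrank (Coh.Γtop S) (M.val.obj (op ⊤)) = Module.finrank (Coh.Γtop S) (N.val.obj (op ⊤)) :=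
  ((PresheafOfModules.evaluation _ (op ⊤)).mapIso ((SheafOfModules.forget _).mapIso e)).toLinearEquiv.finrank_eq

variable {κ : Type u} [Field κ] {A : CommRingCat.{u}} (ψ : A ⟶ CommRingCat.of κ)

/-- The fibres in degrees where a free complex computes `E`. -/
theorem finrank_lpull_of_model (C : CochainComplex (ModuleCat.{u} A) ℤ)
    (hC : DCoh.IsStrictlyPerfect ((tCx A).obj C)) {E : DCoh.D (Spec A)} (m : ℤ)
    (α : DCoh.toD (Spec A) ((tCx A).obj C) ⟶ E) (hα : NQ m α) [DCoh.HasLpull (Spec.map ψ)] (i : ℤ) (hi : m < i) :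
    Module.finrank (Coh.Γtop (Spec (CommRingCat.of κ)))
      ((DCoh.HD ((DCoh.Lpull (Spec.map ψ)).obj E) i).val.obj (op ⊤)) =
      Module.finrank κ (((DTen.extCx ψ.hom).obj C).homology i) := by
  have := (nq_lpull (Spec.map ψ) hα).1 i hi
  let e := (asIso ((DerivedCategory.homologyFunctor _ i).map ((DCoh.Lpull (Spec.map ψ)).map α))).symm ≪≫
    (DerivedCategory.homologyFunctor _ i).mapIso
      (ModGroth.Stalk.lpullValueIso (Spec.map ψ) (ModGroth.Perf.isKFlat_of_isStrictlyPerfect hC)) ≪≫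
    (DerivedCategory.homologyFunctorFactors _ i).app _ ≪≫ pullTildeHomologyIso ψ C i
  exact (finrank_congr e).trans (finrank_tilde _)

/-- Local models for a pseudo-coherent object. -/
theorem exists_model {m : ℤ} {E : DCoh.D X} (hE : DCoh.IsPseudoCoherentD m E) (x : X) :
    ∃ (A : CommRingCat.{u}) (k : Spec A ⟶ X) (_ : IsOpenImmersion k) (w : Spec A),
      k w = x ∧ ∃ C : CochainComplex (ModuleCat.{u} A) ℤ, (∀ i, Module.Free A (C.X i) ∧ Module.Finite A (C.X i)) ∧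
        DCoh.IsStrictlyPerfect ((tCx A).obj C) ∧
          ∃ α : DCoh.toD (Spec A) ((tCx A).obj C) ⟶ (RD k).obj E, NQ m α := by
  obtain ⟨W, j, hj, w, hw, hs⟩ := (isPC_iff m E).1 hE x
  obtain ⟨P₀, α₀, hP₀, hα₀⟩ := id hs
  obtain ⟨a, b, hz⟩ := hP₀.1
  obtain ⟨W₁, g, hg, w₁, hw₁, hfree⟩ := exists_free_finset P₀.X hP₀.2 (Finset.Icc a b) w
  obtain ⟨U, hU, hwU, -⟩ := TopologicalSpace.Opens.isBasis_iff_nbhd.mp W₁.isBasis_affineOpens (Opens.mem_top w₁)
  obtain ⟨w₂, hw₂⟩ : w₁ ∈ Set.range hU.fromSpec := by rw [hU.range_fromSpec]; exact hwU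
  let i := hU.fromSpec
  let P := (rC i).obj ((rC g).obj P₀)
  have hP : DCoh.IsStrictlyPerfect P := sp_restrict (sp_restrict hP₀ g) i
  have hfree' : ∀ k, ∃ n : ℕ, Nonempty (P.X k ≅ FlatMod.freeMod _ n) := fun k => by
    by_cases hk : a ≤ k ∧ k ≤ b
    · obtain ⟨n, ⟨d⟩⟩ := hfree k (Finset.mem_Icc.2 hk)
      exact ⟨n, ⟨(rF i).mapIso d ≪≫ LocFree.restrictFreeIso i n⟩⟩
    · exact ⟨0, ⟨IsZero.iso ((rF i).map_isZero ((rF g).map_isZero (hz k (by omega))))
        ((IsZero.iff_id_eq_zero _).2 (Sigma.hom_ext _ _ fun i => i.elim0))⟩⟩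
  obtain ⟨C, hC, -, ⟨eC⟩⟩ := exists_module_model P hfree'
  have hCP : DCoh.IsStrictlyPerfect ((tCx _).obj C) :=
    ⟨⟨_, _, fun k hk => (hP.1.choose_spec.choose_spec k hk).of_iso
      ((HomologicalComplex.eval _ _ k).mapIso eC)⟩,
      fun k => LocFree.IsFinLocFree.of_iso ((HomologicalComplex.eval _ _ k).mapIso eC).symm (hP.2 k)⟩
  refine ⟨_, i ≫ g ≫ j, inferInstance, w₂,
    by rw [Scheme.Hom.comp_apply, hw₂, Scheme.Hom.comp_apply, hw₁, hw], C, hC, hCP,
    DerivedCategory.Q.map eC.hom ≫ (RQ i _).inv ≫ (RD i).map ((RQ g P₀).inv ≫ (RD g).map α₀ ≫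
      (RDComp g j).inv.app E) ≫ (RDComp i (g ≫ j)).inv.app E, ?_⟩
  refine (nq_of_isIso m _).comp ((nq_of_isIso m _).comp (NQ.comp ?_ (nq_of_isIso m ((RDComp i (g ≫ j)).app E).inv)))
  exact ((nq_of_isIso m _).comp ((hα₀.restrict g).comp (nq_of_isIso m ((RDComp g j).app E).inv))).restrict i

/-- A point of an affine open chart, as a map to the chart. -/
lemma exists_point {A : CommRingCat.{u}} (k : Spec A ⟶ X) [IsOpenImmersion k] (p : Spec A) :
    ∃ ψ : A ⟶ X.residueField (k p), Spec.map ψ ≫ k = X.fromSpecResidueField (k p) ∧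
      RingHom.ker ψ.hom = p.asIdeal := by
  have hr : Set.range (X.fromSpecResidueField (k p)) ⊆ Set.range k := by
    rintro _ ⟨s, rfl⟩
    exact ⟨p, (Scheme.fromSpecResidueField_apply _ s).symm⟩
  let ψ := Spec.preimage (IsOpenImmersion.lift k (X.fromSpecResidueField (k p)) hr)
  have h : Spec.map ψ ≫ k = X.fromSpecResidueField (k p) := by
    rw [Spec.map_preimage]
    exact IsOpenImmersion.lift_fac k _ hr
  refine ⟨ψ, h, ?_⟩
  let s : Spec (X.residueField (k p)) := ⟨⊥, Ideal.isPrime_bot⟩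
  have h1 : k (Spec.map ψ s) = k p := by
    rw [← Scheme.Hom.comp_apply, h, Scheme.fromSpecResidueField_apply]
  have h2 : Spec.map ψ s = p := k.isOpenEmbedding.injective h1
  exact (show RingHom.ker ψ.hom = (Spec.map ψ s).asIdeal from rfl).trans (congrArg PrimeSpectrum.asIdeal h2)

/-- The Betti numbers on a chart. -/
theorem betti_eq [∀ x : X, DCoh.HasLpull (X.fromSpecResidueField x)] {m : ℤ} (E : DCoh.D X) {A : CommRingCat.{u}}
    (k : Spec A ⟶ X) [IsOpenImmersion k] (C : CochainComplex (ModuleCat.{u} A) ℤ)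
    (hC : DCoh.IsStrictlyPerfect ((tCx A).obj C)) (α : DCoh.toD (Spec A) ((tCx A).obj C) ⟶ (RD k).obj E)
    (hα : NQ m α) (p : Spec A) :
    ∃ ψ : A ⟶ X.residueField (k p), RingHom.ker ψ.hom = p.asIdeal ∧ ∀ i, m < i →
      PerfD.betti E (k p) i = Module.finrank (X.residueField (k p)) (((DTen.extCx ψ.hom).obj C).homology i) := by
  obtain ⟨ψ, h, hker⟩ := exists_point k p
  refine ⟨ψ, hker, fun i hi => ?_⟩
  have := ModGroth.Stalk.hasLpull (Spec.map ψ)
  obtain ⟨e⟩ := nonempty_lpull_comp (X.fromSpecResidueField (k p)) (Spec.map ψ) k h E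
  refine (finrank_congr ((DerivedCategory.homologyFunctor _ i).mapIso e)).trans ?_
  exact finrank_lpull_of_model (κ := X.residueField (k p)) ψ C hC m α hα i hi

/-- Upper semicontinuity. -/
theorem isOpen_betti_lt [∀ x : X, DCoh.HasLpull (X.fromSpecResidueField x)] (E : DCoh.D X) (i : ℤ)
    (hE : DCoh.IsPseudoCoherentD (i - 1) E) (n : ℕ) : IsOpen {x : X | PerfD.betti E x i < n} := by
  refine isOpen_iff_forall_mem_open.2 fun x hx => ?_
  obtain ⟨A, k, hk, w, rfl, C, hC, hCP, α, hα⟩ := exists_model hE x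
  have : Nontrivial A := PrimeSpectrum.nontrivial w
  have := (hC i).2
  have := (hC (i + 1)).2
  have key : ∀ p : Spec A, PerfD.betti E (k p) i + Module.finrank A (C.X (i + 1)) =
      TFun.fibreDim (C.X i ⧸ LinearMap.range (C.d (i - 1) i).hom) p +
        TFun.fibreDim (C.X (i + 1) ⧸ LinearMap.range (C.d i (i + 1)).hom) p := fun p => by
    obtain ⟨ψ, hker, hb⟩ := betti_eq E k C hCP α hα p
    rw [hb i (by omega)]
    exact finrank_fibre_homology_add ψ.hom C hC p hker (by omega) rfl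
  obtain ⟨U, hU, hxU, hUle⟩ := TFun.exists_isOpen_fibreDim_le (C.X i ⧸ LinearMap.range (C.d (i - 1) i).hom) w
  obtain ⟨V, hV, hxV, hVle⟩ := TFun.exists_isOpen_fibreDim_le (C.X (i + 1) ⧸ LinearMap.range (C.d i (i + 1)).hom) w
  refine ⟨k '' (U ∩ V), ?_, k.isOpenEmbedding.isOpenMap _ (hU.inter hV), ⟨w, ⟨hxU, hxV⟩, rfl⟩⟩
  rintro _ ⟨p, ⟨hpU, hpV⟩, rfl⟩
  have h1 := key w
  have h2 := key p
  have := hUle p hpU
  have := hVle p hpV
  simp only [Set.mem_ofPred_eq] at hx ⊢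
  omega

/-- The Euler characteristic is locally constant. -/
theorem isLocallyConstant_eulerChar [∀ x : X, DCoh.HasLpull (X.fromSpecResidueField x)] {E : DCoh.D X}
    (hE : DCoh.IsPerfect E) : IsLocallyConstant (fun x : X => PerfD.eulerChar E x) := by
  refine (IsLocallyConstant.iff_exists_open _).2 fun x => ?_
  obtain ⟨W, j, hj, w, hw, P₀, hP₀, ⟨e₀⟩⟩ := (isPerfect_iff E).1 hE x
  have hpc : DCoh.IsPseudoCoherentD 0 (DCoh.toD W P₀) := isPC_of_isPerfect (isPerfect_of_sp hP₀)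
  obtain ⟨a, b, hz⟩ := hP₀.1
  obtain ⟨W₁, g, hg, w₁, hw₁, hfree⟩ := exists_free_finset P₀.X hP₀.2 (Finset.Icc a b) w
  obtain ⟨U, hU, hwU, -⟩ := TopologicalSpace.Opens.isBasis_iff_nbhd.mp W₁.isBasis_affineOpens (Opens.mem_top w₁)
  obtain ⟨w₂, hw₂⟩ : w₁ ∈ Set.range hU.fromSpec := by rw [hU.range_fromSpec]; exact hwU
  let i := hU.fromSpec
  let P := (rC i).obj ((rC g).obj P₀)
  have hPz : DCoh.VanishesOutside P a b := fun k hk => (rF i).map_isZero ((rF g).map_isZero (hz k hk))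
  have hfree' : ∀ k, ∃ n : ℕ, Nonempty (P.X k ≅ FlatMod.freeMod _ n) := fun k => by
    by_cases hk : a ≤ k ∧ k ≤ b
    · obtain ⟨n, ⟨d⟩⟩ := hfree k (Finset.mem_Icc.2 hk)
      exact ⟨n, ⟨(rF i).mapIso d ≪≫ LocFree.restrictFreeIso i n⟩⟩
    · exact ⟨0, ⟨IsZero.iso (hPz k (by omega))
        ((IsZero.iff_id_eq_zero _).2 (Sigma.hom_ext _ _ fun i => i.elim0))⟩⟩
  obtain ⟨C, hC, hCz, ⟨eC⟩⟩ := exists_module_model P hfree'
  have hCP : DCoh.IsStrictlyPerfect ((tCx _).obj C) :=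
    ⟨⟨a, b, fun k hk => (hPz k hk).of_iso ((HomologicalComplex.eval _ _ k).mapIso eC)⟩,
      fun k => LocFree.IsFinLocFree.of_iso ((HomologicalComplex.eval _ _ k).mapIso eC).symm
        ((sp_restrict (sp_restrict hP₀ g) i).2 k)⟩
  let K := i ≫ g ≫ j
  let α : DCoh.toD _ ((tCx _).obj C) ≅ (RD K).obj E :=
    DerivedCategory.Q.mapIso eC ≪≫ (RQ i _).symm ≪≫ (RD i).mapIso ((RQ g P₀).symm ≪≫ (RD g).mapIso e₀ ≪≫
      ((RDComp g j).app E).symm) ≪≫ ((RDComp i (g ≫ j)).app E).symm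
  have : Nontrivial Γ(W₁, U) := PrimeSpectrum.nontrivial w₂
  have key : ∀ p, PerfD.eulerChar E (K p) = ∑ᶠ i : ℤ, (i.negOnePow : ℤ) * (Module.finrank Γ(W₁, U) (C.X i) : ℤ) := by
    intro p
    obtain ⟨ψ, hker⟩ := exists_point K p
    rw [← euler_fibre ψ.hom C hC a b fun k hk => hCz k (hPz k hk)]
    refine finsum_congr fun n => ?_
    congr 2
    have := ModGroth.Stalk.hasLpull (Spec.map ψ)
    obtain ⟨e⟩ := nonempty_lpull_comp (X.fromSpecResidueField (K p)) (Spec.map ψ) K hker.1 E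
    refine (finrank_congr ((DerivedCategory.homologyFunctor _ n).mapIso e)).trans ?_
    exact finrank_lpull_of_model (κ := X.residueField (K p)) ψ C hCP (n - 1) α.hom (nq_of_isIso _ _) n (by omega)
  have hx : K w₂ = x := by rw [Scheme.Hom.comp_apply, hw₂, Scheme.Hom.comp_apply, hw₁, hw]
  refine ⟨Set.range K, K.isOpenEmbedding.isOpen_range, ⟨w₂, hx⟩, ?_⟩
  rintro _ ⟨p, rfl⟩
  show PerfD.eulerChar E (K p) = PerfD.eulerChar E x
  rw [← hx, key, key]

end Groth.Agent.DCohPerf
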