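import Groth.Agent.DCohPerf.Local
import Groth.Agent.QCohLib.Local

/-!
Finite type and finite presentation through maps from finite free modules on open immersions.
-/

set_option autoImplicit false

universe u

open CategoryTheory CategoryTheory.Limits AlgebraicGeometry TopologicalSpace Opposite

namespace Groth.Agent.DCohPerf

lemma exact_congr {C : Type*} [Category C] [HasZeroMorphisms C] {A B D A' B' D' : C} {f : A ⟶ B} {g : B ⟶ D}
    {z : f ≫ g = 0} (hS : (ShortComplex.mk f g z).Exact) (eA : A ≅ A') (eB : B ≅ B') (eD : D ≅ D') (f' : A' ⟶ B')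
    (g' : B' ⟶ D') (z' : f' ≫ g' = 0) (h₁ : f' = eA.inv ≫ f ≫ eB.hom) (h₂ : g' = eB.inv ≫ g ≫ eD.hom) :
    (ShortComplex.mk f' g' z').Exact :=
  ShortComplex.exact_of_iso (ShortComplex.isoMk eA eB eD (by simp [h₁]) (by simp [h₂])) hS

lemma zero_congr {C : Type*} [Category C] [HasZeroMorphisms C] {A B D A' B' D' : C} {f : A ⟶ B} {g : B ⟶ D}
    (z : f ≫ g = 0) (eA : A ≅ A') (eB : B ≅ B') (eD : D ≅ D') :
    (eA.inv ≫ f ≫ eB.hom) ≫ (eB.inv ≫ g ≫ eD.hom) = 0 := by
  simp [reassoc_of% z]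

variable {X Y Z : Scheme.{u}}

/-- The two free modules of rank `n`. -/
noncomputable def freeULiftIso (X : Scheme.{u}) (n : ℕ) :
    FlatMod.freeMod X n ≅ SheafOfModules.free (R := X.ringCatSheaf) (ULift.{u} (Fin n)) :=
  Sigma.whiskerEquiv (f := fun _ : Fin n => Coh.structureModule X) (g := fun _ : ULift.{u} (Fin n) => Coh.structureModule X)
    Equiv.ulift.symm (fun _ => Iso.refl _)

/-- Finite type from local epimorphisms out of finite free modules. -/
lemma isFT_of_locally (M : X.Modules) (h : ∀ x : X, ∃ (W : Scheme.{u}) (j : W ⟶ X) (_ : IsOpenImmersion j) (w : W),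
    j w = x ∧ ∃ (n : ℕ) (p : FlatMod.freeMod W n ⟶ (rF j).obj M), Epi p) : CohB1.IsFT M := by
  choose W j hj w hw n p hp using h
  refine QCohLib.isFiniteType_of_cover j (fun x => ⟨x, w x, hw x⟩) (fun x =>
    { I := ULift.{u} (Fin (n x))
      s := ((rF (j x)).obj M).freeHomEquiv ((freeULiftIso _ _).inv ≫ p x)
      epi := ?_ }) (fun x => ⟨(inferInstance : Finite (ULift.{u} (Fin (n x))))⟩)
  rw [Equiv.symm_apply_apply]
  have : Epi (p x) := hp x
  exact @epi_comp _ _ _ _ _ _ inferInstance _ this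

/-- Finite presentation from local right exact sequences of finite free modules. -/
lemma isFP_of_locally (M : X.Modules) (h : ∀ x : X, ∃ (W : Scheme.{u}) (j : W ⟶ X) (_ : IsOpenImmersion j) (w : W),
    j w = x ∧ ∃ (m n : ℕ) (f : FlatMod.freeMod W m ⟶ FlatMod.freeMod W n) (g : FlatMod.freeMod W n ⟶ (rF j).obj M)
      (z : f ≫ g = 0), (ShortComplex.mk f g z).Exact ∧ Epi g) : CohB1.IsFP M := by
  choose W j hj w hw m n f g z hex hp using h
  let f' := fun x => (freeULiftIso (W x) (m x)).inv ≫ f x ≫ (freeULiftIso (W x) (n x)).hom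
  let g' := fun x => (freeULiftIso (W x) (n x)).inv ≫ g x
  have hz : ∀ x, f' x ≫ g' x = 0 := fun x => by simp [f', g', z x]
  have hc : ∀ x, IsColimit (CokernelCofork.ofπ (g' x) (hz x)) := fun x => by
    have := hp x
    have : Epi (g' x) := epi_comp _ _
    have : Epi (ShortComplex.mk (f' x) (g' x) (hz x)).g := this
    exact (exact_congr (hex x) (freeULiftIso _ _) (freeULiftIso _ _) (Iso.refl _) (f' x) (g' x) (hz x) rfl
      (by simp [g'])).gIsCokernel
  exact QCohLib.isFinitePresentation_of_cover j (fun x => ⟨x, w x, hw x⟩)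
    (fun x => SheafOfModules.presentationOfIsCokernelFree (f' x) (g' x) (hz x) (hc x))
    (fun x => ⟨⟨inferInstanceAs (Finite (ULift.{u} (Fin (n x))))⟩, ⟨inferInstanceAs (Finite (ULift.{u} (Fin (m x))))⟩⟩)

/-- A free module on a finite index type. -/
noncomputable def freeFinIso (X : Scheme.{u}) (I : Type u) [Finite I] :
    SheafOfModules.free (R := X.ringCatSheaf) I ≅ FlatMod.freeMod X (Nat.card I) :=
  Sigma.whiskerEquiv (f := fun _ : I => Coh.structureModule X) (g := fun _ : Fin (Nat.card I) => Coh.structureModule X)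
    (Finite.equivFin I) (fun _ => Iso.refl _)

lemma exists_free_epi {M : X.Modules} (h : CohB1.IsFT M) (x : X) :
    ∃ (W : Scheme.{u}) (j : W ⟶ X) (_ : IsOpenImmersion j) (w : W),
      j w = x ∧ ∃ (n : ℕ) (p : FlatMod.freeMod W n ⟶ (rF j).obj M), Epi p := by
  obtain ⟨ι, U, σ, hU, hσ⟩ := QCohLib.exists_cover_generatingSections h
  obtain ⟨i, hi⟩ := hU x
  have := hσ i
  have : Finite (σ i).I := (hσ i).finite
  have hπ : Epi (σ i).π := (σ i).epi
  exact ⟨U i, (U i).ι, inferInstance, ⟨x, hi⟩, rfl, _, (freeFinIso _ (σ i).I).inv ≫ (σ i).π,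
    @epi_comp _ _ _ _ _ _ inferInstance _ hπ⟩

lemma exists_free_exact {M : X.Modules} (h : CohB1.IsFP M) (x : X) :
    ∃ (W : Scheme.{u}) (j : W ⟶ X) (_ : IsOpenImmersion j) (w : W),
      j w = x ∧ ∃ (m n : ℕ) (f : FlatMod.freeMod W m ⟶ FlatMod.freeMod W n) (g : FlatMod.freeMod W n ⟶ (rF j).obj M)
        (z : f ≫ g = 0), (ShortComplex.mk f g z).Exact ∧ Epi g := by
  obtain ⟨ι, U, P, hU, hP⟩ := QCohLib.exists_cover_finitePresentation h
  obtain ⟨i, hi⟩ := hU x
  have := hP i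
  have : Finite (P i).generators.I := (hP i).isFiniteType_generators.finite
  have : Finite (P i).relations.I := (hP i).isFiniteType_relations.finite
  have z : ((SheafOfModules.freeHomEquiv _).symm (P i).relations.s ≫ kernel.ι _) ≫ (P i).generators.π = 0 := by simp
  have hπ : Epi (P i).generators.π := (P i).generators.epi
  have hS := ShortComplex.exact_of_g_is_cokernel (ShortComplex.mk _ _ z) (P i).isColimit
  let e := freeFinIso (U i : Scheme.{u}) (P i).generators.I
  let d := freeFinIso (U i : Scheme.{u}) (P i).relations.I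
  exact ⟨U i, (U i).ι, inferInstance, ⟨x, hi⟩, rfl, _, _, _, _, zero_congr z d e (Iso.refl _),
    exact_congr hS d e (Iso.refl _) _ _ _ rfl rfl,
    @epi_comp _ _ _ _ _ _ inferInstance _ (@epi_comp _ _ _ _ _ _ hπ _ inferInstance)⟩

lemma isFT_of_epi {M N : X.Modules} (p : M ⟶ N) [Epi p] (h : CohB1.IsFT M) : CohB1.IsFT N :=
  isFT_of_locally N fun x => by
    obtain ⟨W, j, hj, w, hw, n, q, hq⟩ := exists_free_epi h x
    exact ⟨W, j, hj, w, hw, n, q ≫ (rF j).map p, epi_comp _ _⟩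

lemma isFP_of_iso {M N : X.Modules} (e : M ≅ N) (h : CohB1.IsFP M) : CohB1.IsFP N :=
  isFP_of_locally N fun x => by
    obtain ⟨W, j, hj, w, hw, m, n, f, g, z, hS, hg⟩ := exists_free_exact h x
    refine ⟨W, j, hj, w, hw, m, n, f, g ≫ (rF j).map e.hom, by rw [reassoc_of% z, zero_comp], ?_, epi_comp _ _⟩
    exact exact_congr hS (Iso.refl _) (Iso.refl _) ((rF j).mapIso e) _ _ _ (by simp) (by simp)

lemma isFT_local {M : X.Modules} (h : ∀ x : X, ∃ (W : Scheme.{u}) (j : W ⟶ X) (_ : IsOpenImmersion j) (w : W),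
    j w = x ∧ CohB1.IsFT ((rF j).obj M)) : CohB1.IsFT M :=
  isFT_of_locally M fun x => by
    obtain ⟨W, j, hj, w, hw, hM⟩ := h x
    obtain ⟨W', g, hg, w', hw', n, p, hp⟩ := exists_free_epi hM w
    exact ⟨W', g ≫ j, inferInstance, w', by rw [Scheme.Hom.comp_apply, hw', hw], n,
      p ≫ (rFComp g j).inv.app M, epi_comp _ _⟩

lemma isFP_local {M : X.Modules} (h : ∀ x : X, ∃ (W : Scheme.{u}) (j : W ⟶ X) (_ : IsOpenImmersion j) (w : W),
    j w = x ∧ CohB1.IsFP ((rF j).obj M)) : CohB1.IsFP M :=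
  isFP_of_locally M fun x => by
    obtain ⟨W, j, hj, w, hw, hM⟩ := h x
    obtain ⟨W', g, hg, w', hw', m, n, f, p, z, hS, hp⟩ := exists_free_exact hM w
    refine ⟨W', g ≫ j, inferInstance, w', by rw [Scheme.Hom.comp_apply, hw', hw], m, n, f,
      p ≫ (rFComp g j).inv.app M, by rw [reassoc_of% z, zero_comp], ?_, epi_comp _ _⟩
    exact exact_congr hS (Iso.refl _) (Iso.refl _) ((rFComp g j).symm.app M) _ _ _ (by simp) (by simp)

/-- A finite locally free module is locally free. -/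
lemma exists_free {E : X.Modules} (h : FlatMod.IsFinLocFree E) (x : X) :
    ∃ (W : Scheme.{u}) (j : W ⟶ X) (_ : IsOpenImmersion j) (w : W),
      j w = x ∧ ∃ n : ℕ, Nonempty ((rF j).obj E ≅ FlatMod.freeMod W n) := by
  obtain ⟨U, n, hx, hU⟩ := h x
  exact ⟨U, U.ι, inferInstance, ⟨x, hx⟩, rfl, n, hU⟩

lemma free_comp {E : X.Modules} {j : Y ⟶ X} [IsOpenImmersion j] {n : ℕ}
    (h : Nonempty ((rF j).obj E ≅ FlatMod.freeMod Y n)) (g : Z ⟶ Y) [IsOpenImmersion g] :
    Nonempty ((rF (g ≫ j)).obj E ≅ FlatMod.freeMod Z n) :=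
  ⟨(rFComp g j).app E ≪≫ (rF g).mapIso h.some ≪≫ LocFree.restrictFreeIso g n⟩

/-- Finitely many finite locally free modules are simultaneously free near every point. -/
lemma exists_free_finset {ι : Type*} (E : ι → X.Modules) (h : ∀ i, FlatMod.IsFinLocFree (E i)) (s : Finset ι) (x : X) :
    ∃ (W : Scheme.{u}) (j : W ⟶ X) (_ : IsOpenImmersion j) (w : W),
      j w = x ∧ ∀ i ∈ s, ∃ n : ℕ, Nonempty ((rF j).obj (E i) ≅ FlatMod.freeMod W n) := by
  classical
  induction s using Finset.induction_on with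
  | empty => exact ⟨X, 𝟙 X, inferInstance, x, rfl, by simp⟩
  | @insert a s _ ih =>
    obtain ⟨W, j, hj, w, hw, hs⟩ := ih
    obtain ⟨W', g, hg, w', hw', n, hn⟩ := exists_free (isFinLocFree_restrict (h a) j) w
    refine ⟨W', g ≫ j, inferInstance, w', by rw [Scheme.Hom.comp_apply, hw', hw], fun i hi => ?_⟩
    rcases Finset.mem_insert.1 hi with rfl | hi
    · exact ⟨n, ⟨(rFComp g j).app _ ≪≫ hn.some⟩⟩
    · obtain ⟨m, hm⟩ := hs i hi
      exact ⟨m, free_comp hm g⟩

end Groth.Agent.DCohPerf
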