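import Groth.Agent.DCohPerf.Perfect
import Groth.Agent.DCohPerf.FreeLocal

/-!
The top cohomology of strictly perfect and pseudo-coherent objects.
-/

set_option autoImplicit false

universe u

open CategoryTheory CategoryTheory.Limits CategoryTheory.Pretriangulated AlgebraicGeometry TopologicalSpace
  HomologicalComplex

attribute [local instance] HasDerivedCategory.standard

namespace Groth.Agent.DCohPerf

section Generic

variable {C : Type*} [Category C] [Abelian C]

lemma exact_homology_retract (E : CochainComplex C ℤ) (n : ℤ) (h : E.X (n + 1) ⟶ E.X n)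
    (hd : E.d n (n + 1) ≫ h ≫ E.d n (n + 1) = E.d n (n + 1)) :
    ∃ (q : E.X n ⟶ E.homology n) (z : biprod.desc (E.d (n - 1) n) (E.d n (n + 1) ≫ h) ≫ q = 0),
      (ShortComplex.mk _ q z).Exact ∧ Epi q := by
  let p := 𝟙 (E.X n) - E.d n (n + 1) ≫ h
  have hp : p ≫ E.d n (n + 1) = 0 := by simp [p, hd]
  let r : E.X n ⟶ E.cycles n := E.liftCycles p (n + 1) (by simp) hp
  have hr : E.iCycles n ≫ r = 𝟙 _ := by
    rw [← cancel_mono (E.iCycles n), Category.assoc]
    simp [r, p]
  have : Epi r := by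
    have : Epi (E.iCycles n ≫ r) := by rw [hr]; infer_instance
    exact epi_of_epi (E.iCycles n) r
  have h1 : E.d (n - 1) n ≫ r = E.toCycles (n - 1) n := by
    rw [← cancel_mono (E.iCycles n), Category.assoc]
    simp [r, p]
  have h2 : (E.d n (n + 1) ≫ h) ≫ r = 0 := by
    rw [← cancel_mono (E.iCycles n), Category.assoc]
    simp [r, p, reassoc_of% hd]
  have z : biprod.desc (E.d (n - 1) n) (E.d n (n + 1) ≫ h) ≫ r ≫ E.homologyπ n = 0 := by
    refine biprod.hom_ext' _ _ ?_ ?_
    · rw [biprod.inl_desc_assoc, reassoc_of% h1, toCycles_comp_homologyπ, comp_zero]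
    · rw [biprod.inr_desc_assoc, comp_zero, ← Category.assoc, h2, zero_comp]
  have hq : Epi (r ≫ E.homologyπ n) := epi_comp _ _
  refine ⟨r ≫ E.homologyπ n, z, ShortComplex.exact_of_g_is_cokernel _ ?_, hq⟩
  have ha : ∀ {T : C} (g : E.X n ⟶ T), biprod.desc (E.d (n - 1) n) (E.d n (n + 1) ≫ h) ≫ g = 0 →
      E.toCycles (n - 1) n ≫ E.iCycles n ≫ g = 0 := fun g hg => by
    simpa using congrArg (fun t => biprod.inl ≫ t) hg
  refine CokernelCofork.IsColimit.ofπ _ _
    (fun g hg => (E.homologyIsCokernel (n - 1) n (by simp)).desc (CokernelCofork.ofπ (E.iCycles n ≫ g) (ha g hg)))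
    (fun g hg => ?_) (fun g hg b hb => ?_)
  · have hb : (E.d n (n + 1) ≫ h) ≫ g = 0 := by simpa using congrArg (fun t => biprod.inr ≫ t) hg
    have e := (E.homologyIsCokernel (n - 1) n (by simp)).fac (CokernelCofork.ofπ (E.iCycles n ≫ g) (ha g hg))
      WalkingParallelPair.one
    simp only [Cofork.ofπ_ι_app] at e
    show (r ≫ E.homologyπ n) ≫ _ = g
    rw [Category.assoc]
    refine (congrArg (fun t => r ≫ t) e).trans ?_
    simpa [r, p] using hb
  · rw [← cancel_epi (E.homologyπ n)]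
    refine ((E.homologyIsCokernel (n - 1) n (by simp)).fac (CokernelCofork.ofπ (E.iCycles n ≫ g) (ha g hg))
      WalkingParallelPair.one).trans ?_ |>.symm
    show E.iCycles n ≫ g = _
    rw [← hb]
    simp [reassoc_of% hr]

end Generic

variable {X : Scheme.{u}}

/-- The top cohomology of a strictly perfect complex is of finite presentation. -/
theorem isFP_top {E : CochainComplex X.Modules ℤ} (hE : DCoh.IsStrictlyPerfect E) (n : ℤ)
    (hz : ∀ i, n < i → E.ExactAt i) : CohB1.IsFP (E.homology n) := by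
  refine isFP_of_locally _ fun x => ?_
  obtain ⟨W, j, hj, w, hw, ⟨H⟩⟩ := exists_null (KFlat.Stupid.incl E (n + 1)) (sp_trunc hE (n + 1)) (n + 1)
    (fun i hi => KFlat.Stupid.isZero_X E hi) (fun i hi => hz i (by omega)) x
  obtain ⟨W', g, hg, w', hw', hfree⟩ := exists_free_finset (fun i => ((rC j).obj E).X i)
    (fun i => (sp_restrict hE j).2 i) {n - 1, n, n + 1} w
  let T := (rC j).obj (KFlat.Stupid.trunc E (n + 1))
  let E' := (rC j).obj E
  let ι : T ⟶ E' := (rC j).map (KFlat.Stupid.incl E (n + 1))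
  have hι : ∀ i, n + 1 ≤ i → IsIso (ι.f i) := fun i hi => by
    have := KFlat.Stupid.isIso_ι E hi
    exact inferInstanceAs (IsIso ((rF j).map _))
  have := hι (n + 1) le_rfl
  have := hι (n + 1 + 1) (by omega)
  let h : E'.X (n + 1) ⟶ E'.X n := inv (ι.f (n + 1)) ≫ H.hom (n + 1) n
  have hd : E'.d n (n + 1) ≫ h ≫ E'.d n (n + 1) = E'.d n (n + 1) := by
    have hc := H.comm (n + 1)
    rw [dNext_eq _ (show (ComplexShape.up ℤ).Rel (n + 1) (n + 1 + 1) from rfl),
      prevD_eq _ (show (ComplexShape.up ℤ).Rel n (n + 1) from rfl), zero_f, add_zero] at hc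
    have hn : inv (ι.f (n + 1)) ≫ T.d (n + 1) (n + 1 + 1) = E'.d (n + 1) (n + 1 + 1) ≫ inv (ι.f (n + 1 + 1)) := by
      rw [← cancel_mono (ι.f (n + 1 + 1)), Category.assoc, ← ι.comm, IsIso.inv_hom_id_assoc, Category.assoc,
        IsIso.inv_hom_id, Category.comp_id]
    have h1 : E'.d n (n + 1) ≫ inv (ι.f (n + 1)) ≫ ι.f (n + 1) =
        E'.d n (n + 1) ≫ inv (ι.f (n + 1)) ≫ (T.d (n + 1) (n + 1 + 1) ≫ H.hom (n + 1 + 1) (n + 1) +
          H.hom (n + 1) n ≫ E'.d n (n + 1)) := congrArg (fun t => E'.d n (n + 1) ≫ inv (ι.f (n + 1)) ≫ t) hc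
    rw [IsIso.inv_hom_id, Category.comp_id, Preadditive.comp_add, Preadditive.comp_add, reassoc_of% hn,
      E'.d_comp_d_assoc, zero_comp, zero_add] at h1
    simpa [h] using h1.symm
  obtain ⟨q, z, hex, hq⟩ := exact_homology_retract E' n h hd
  obtain ⟨a, ⟨ea⟩⟩ := hfree (n - 1) (by simp)
  obtain ⟨b, ⟨eb⟩⟩ := hfree n (by simp)
  let S := (ShortComplex.mk _ q z).map (rF g)
  have hS : S.Exact := hex.map (rF g)
  have hSg : Epi S.g := inferInstanceAs (Epi ((rF g).map q))
  have := preservesBinaryBiproduct_of_preservesBinaryCoproduct (rF g) (X := E'.X (n - 1)) (Y := E'.X n)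
  let eh : (rF g).obj (E'.homology n) ≅ (rF (g ≫ j)).obj (E.homology n) :=
    (rF g).mapIso ((E.sc n).mapHomologyIso (rF j)) ≪≫ ((rFComp g j).app _).symm
  let d : S.X₁ ≅ FlatMod.freeMod W' (a + b) :=
    (rF g).mapBiprod (E'.X (n - 1)) (E'.X n) ≪≫ biprod.mapIso ea eb ≪≫ LocFree.freeSumIso _ a b
  exact ⟨W', g ≫ j, inferInstance, w', by rw [Scheme.Hom.comp_apply, hw', hw], _, _, _, _, zero_congr S.zero d eb eh,
    exact_congr hS d eb eh _ _ _ rfl rfl,
    @epi_comp _ _ _ _ _ _ inferInstance _ (@epi_comp _ _ _ _ _ _ hSg _ inferInstance)⟩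

/-- Cohomology of an `m`-pseudo-coherent object in degrees where it vanishes above. -/
theorem isFT_top (m : ℤ) {K : DCoh.D X} (hK : DCoh.IsPseudoCoherentD m K)
    (hz : ∀ i, m < i → IsZero (DCoh.HD K i)) : CohB1.IsFT (DCoh.HD K m) := by
  refine isFT_local fun x => ?_
  obtain ⟨W, j, hj, w, hw, E, α, hE, hα⟩ := (isPC_iff m K).1 hK x
  refine ⟨W, j, hj, w, hw, ?_⟩
  have hzE : ∀ i, m < i → E.ExactAt i := fun i hi => by
    have := hα.1 i hi
    exact (E.exactAt_iff_isZero_homology i).2 ((isZero_homology_restrict j K i (hz i hi)).of_iso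
      ((DerivedCategory.homologyFunctorFactors W.Modules i).symm.app E ≪≫
        asIso ((DerivedCategory.homologyFunctor W.Modules i).map α)))
  have := hα.2
  let p : E.homology m ⟶ (rF j).obj (DCoh.HD K m) :=
    ((DerivedCategory.homologyFunctorFactors W.Modules m).app E).inv ≫ (DerivedCategory.homologyFunctor W.Modules m).map α ≫
      (homology_restrict j K m).some.hom
  have : Epi p := epi_comp _ _
  refine isFT_of_epi p (isFT_of_locally _ fun y => ?_)
  obtain ⟨V, i, hi, v, hv, a, b, f, g, z, hS, hg⟩ := exists_free_exact (isFP_top hE m hzE) y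
  exact ⟨V, i, hi, v, hv, b, g, hg⟩

/-- Cohomology one degree above the bound is of finite presentation. -/
theorem isFP_top_succ (m : ℤ) {K : DCoh.D X} (hK : DCoh.IsPseudoCoherentD m K)
    (hz : ∀ i, m + 1 < i → IsZero (DCoh.HD K i)) : CohB1.IsFP (DCoh.HD K (m + 1)) := by
  refine isFP_local fun x => ?_
  obtain ⟨W, j, hj, w, hw, E, α, hE, hα⟩ := (isPC_iff m K).1 hK x
  refine ⟨W, j, hj, w, hw, ?_⟩
  have := hα.1 (m + 1) (by omega)
  have hzE : ∀ i, m + 1 < i → E.ExactAt i := fun i hi => by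
    have := hα.1 i (by omega)
    exact (E.exactAt_iff_isZero_homology i).2 ((isZero_homology_restrict j K i (hz i hi)).of_iso
      ((DerivedCategory.homologyFunctorFactors W.Modules i).symm.app E ≪≫
        asIso ((DerivedCategory.homologyFunctor W.Modules i).map α)))
  exact isFP_of_iso ((DerivedCategory.homologyFunctorFactors W.Modules (m + 1)).symm.app E ≪≫
    asIso ((DerivedCategory.homologyFunctor W.Modules (m + 1)).map α) ≪≫ (homology_restrict j K (m + 1)).some)
      (isFP_top hE (m + 1) hzE)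

end Groth.Agent.DCohPerf
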