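import Groth.Agent.CohVanish.Sections
import Groth.Agent.LocFree.Basic
import Groth.Agent.QCohLib.Closure

/-!
Finite locally free modules are locally projective: maps out of them lift locally through epimorphisms.
-/

set_option autoImplicit false

universe u

open CategoryTheory CategoryTheory.Limits AlgebraicGeometry TopologicalSpace Opposite

set_option backward.isDefEq.respectTransparency false

namespace Groth.Agent.DCohPerf

variable {X : Scheme.{u}}

/-- Restriction to an open subscheme. -/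
noncomputable abbrev res (V : X.Opens) : X.Modules ⥤ (V : Scheme.{u}).Modules := Scheme.Modules.restrictFunctor V.ι

/-- The section `1` of the structure sheaf. -/
noncomputable abbrev one (X : Scheme.{u}) (U : X.Opens) : Γ(Coh.structureModule X, U) := (1 : Γ(X, U))

lemma map_one (U : X.Opens) :
    (Coh.structureModule X).presheaf.map (homOfLE (le_top (a := U))).op (one X ⊤) = one X U :=
  _root_.map_one (X.presheaf.map (homOfLE (le_top (a := U))).op).hom

/-- Maps out of `O_X` are determined by the image of `1`. -/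
lemma hom_ext_one {M : X.Modules} (f g : Coh.structureModule X ⟶ M)
    (h : f.app ⊤ (one X ⊤) = g.app ⊤ (one X ⊤)) : f = g := by
  refine (SheafOfModules.unitHomEquiv (R := X.ringCatSheaf) M).injective (Subtype.ext ?_)
  funext U
  show f.app U.unop (one X U.unop) = g.app U.unop (one X U.unop)
  rw [← map_one U.unop, QCohLib.app_map f le_top, QCohLib.app_map g le_top, h]

/-- Finitely many local lifts of global sections. -/
lemma exists_common_lift {M N : X.Modules} (p : M ⟶ N) [Epi p] (x : X) {n : ℕ} (t : Fin n → Γ(N, ⊤)) :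
    ∃ V : X.Opens, x ∈ V ∧ ∀ i, ∃ s : Γ(M, V), p.app V s = N.presheaf.map (homOfLE (le_top (a := V))).op (t i) := by
  induction n with
  | zero => exact ⟨⊤, Opens.mem_top x, fun i => i.elim0⟩
  | succ n ih =>
    obtain ⟨V, hx, hV⟩ := ih fun i => t i.succ
    obtain ⟨W, hW, ⟨s, hs⟩, hxW⟩ := (QCohLib.epi_iff_locally_surjective p).1 inferInstance ⊤ (t 0) x (Opens.mem_top x)
    refine ⟨V ⊓ W, ⟨hx, hxW⟩, Fin.cases ⟨M.presheaf.map (homOfLE inf_le_right).op s, ?_⟩ fun i => ?_⟩
    · rw [QCohLib.app_map p inf_le_right, hs, QCohLib.map_map]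
    · obtain ⟨s', hs'⟩ := hV i
      refine ⟨M.presheaf.map (homOfLE inf_le_left).op s', ?_⟩
      rw [QCohLib.app_map p inf_le_left, hs', QCohLib.map_map]

/-- An epimorphism onto a free module of finite rank splits locally. -/
lemma exists_section_free {P : X.Modules} {n : ℕ} (p : P ⟶ FlatMod.freeMod X n) [Epi p] (x : X) :
    ∃ V : X.Opens, x ∈ V ∧ ∃ s : (res V).obj (FlatMod.freeMod X n) ⟶ (res V).obj P, s ≫ (res V).map p = 𝟙 _ := by
  let ι : Fin n → (Coh.structureModule X ⟶ FlatMod.freeMod X n) := fun i => Sigma.ι (fun _ : Fin n => Coh.structureModule X) i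
  obtain ⟨V, hx, hV⟩ := exists_common_lift p x fun i => (ι i).app ⊤ (one X ⊤)
  choose σ hσ using hV
  refine ⟨V, hx, ?_⟩
  let j := V.ι
  have hle : j ''ᵁ (⊤ : (V : Scheme.{u}).Opens) ≤ V := by simp [j]
  let σ' : Fin n → Γ((res V).obj P, ⊤) := fun i =>
    (show Γ(P, j ''ᵁ ⊤) from P.presheaf.map (homOfLE hle).op (σ i))
  let u : (res V).obj (Coh.structureModule X) ≅ Coh.structureModule (V : Scheme.{u}) :=
    Scheme.Modules.restrictUnitIso j
  have hu : u.inv.app ⊤ (one _ ⊤) = (show Γ((res V).obj (Coh.structureModule X), ⊤) from one X (j ''ᵁ ⊤)) :=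
    _root_.map_one (j.appIso ⊤).inv.hom
  have := (Scheme.Modules.restrictAdjunction j).leftAdjoint_preservesColimits
  let hc := isColimitCofanMkObjOfIsColimit (res V) _ ι (coproductIsCoproduct fun _ : Fin n => Coh.structureModule X)
  refine ⟨Cofan.IsColimit.desc hc fun i => u.hom ≫ CohVanish.homOfSection _ (σ' i), Cofan.IsColimit.hom_ext hc _ _ fun i => ?_⟩
  refine Eq.trans ?_ (Category.comp_id _).symm
  rw [Cofan.IsColimit.fac_assoc, Category.assoc, ← Iso.eq_inv_comp]
  refine hom_ext_one _ _ ?_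
  show ((res V).map p).app ⊤ ((CohVanish.homOfSection _ (σ' i)).app ⊤ (one _ ⊤)) =
    ((res V).map (ι i)).app ⊤ (u.inv.app ⊤ (one _ ⊤))
  rw [hu, CohVanish.homOfSection_app]
  rw [one, one_smul, QCohLib.map_self]
  show p.app (j ''ᵁ ⊤) (P.presheaf.map (homOfLE hle).op (σ i)) = (ι i).app (j ''ᵁ ⊤) (one X (j ''ᵁ ⊤))
  rw [QCohLib.app_map p hle, hσ, QCohLib.map_map, ← QCohLib.app_map (ι i) le_top, map_one]

end Groth.Agent.DCohPerf
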