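import Groth.Agent.DCohPerf.Fibre
import Groth.Agent.DCohPerf.Coherent
import Groth.Agent.DCohPerf.AmpAlg
import Groth.Agent.ModGroth.LpullComp

/-!
The locus where a perfect object is a locally free module of given rank placed in a given degree.
-/

set_option autoImplicit false

universe u

open CategoryTheory CategoryTheory.Limits CategoryTheory.Pretriangulated AlgebraicGeometry TopologicalSpace
  Opposite HomologicalComplex

attribute [local instance] HasDerivedCategory.standard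

namespace Groth.Agent.DCohPerf

variable {X Y : Scheme.{u}}

/-- Free models of perfect objects on affine charts. -/
theorem exists_model_perfect {E : DCoh.D X} (hE : DCoh.IsPerfect E) (x : X) :
    ∃ (A : CommRingCat.{u}) (k : Spec A ⟶ X) (_ : IsOpenImmersion k) (w : Spec A), k w = x ∧
      ∃ (C : CochainComplex (ModuleCat.{u} A) ℤ) (a b : ℤ), (∀ i, Module.Free A (C.X i) ∧ Module.Finite A (C.X i)) ∧
        DCoh.IsStrictlyPerfect ((tCx A).obj C) ∧ (∀ i, i < a ∨ b < i → IsZero (C.X i)) ∧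
          Nonempty (DCoh.toD (Spec A) ((tCx A).obj C) ≅ (RD k).obj E) := by
  obtain ⟨W, j, hj, w, hw, P₀, hP₀, ⟨e₀⟩⟩ := (isPerfect_iff E).1 hE x
  obtain ⟨a, b, hz⟩ := hP₀.1
  obtain ⟨W₁, g, hg, w₁, hw₁, hfree⟩ := exists_free_finset P₀.X hP₀.2 (Finset.Icc a b) w
  obtain ⟨U, hU, hwU, -⟩ := TopologicalSpace.Opens.isBasis_iff_nbhd.mp W₁.isBasis_affineOpens (Opens.mem_top w₁)
  obtain ⟨w₂, hw₂⟩ : w₁ ∈ Set.range hU.fromSpec := by rw [hU.range_fromSpec]; exact hwU
  let i := hU.fromSpec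
  let P := (rC i).obj ((rC g).obj P₀)
  have hPz : DCoh.VanishesOutside P a b := fun k hk => (rF i).map_isZero ((rF g).map_isZero (hz k hk))
  have hfree' : ∀ k, ∃ n : ℕ, Nonempty (P.X k ≅ FlatMod.freeMod _ n) := fun k => by
    by_cases hk : a ≤ k ∧ k ≤ b
    · obtain ⟨n, ⟨d⟩⟩ := hfree k (Finset.mem_Icc.2 hk)
      exact ⟨n, ⟨(rF i).mapIso d ≪≫ LocFree.restrictFreeIso i n⟩⟩
    · exact ⟨0, ⟨IsZero.iso (hPz k (by omega))
        ((IsZero.iff_id_eq_zero _).2 (Sigma.hom_ext _ _ fun i => i.elim0))⟩⟩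
  obtain ⟨C, hC, hCz, ⟨eC⟩⟩ := exists_module_model P hfree'
  have hCP : DCoh.IsStrictlyPerfect ((tCx _).obj C) :=
    ⟨⟨a, b, fun k hk => (hPz k hk).of_iso ((HomologicalComplex.eval _ _ k).mapIso eC)⟩,
      fun k => LocFree.IsFinLocFree.of_iso ((HomologicalComplex.eval _ _ k).mapIso eC).symm
        ((sp_restrict (sp_restrict hP₀ g) i).2 k)⟩
  exact ⟨_, i ≫ g ≫ j, inferInstance, w₂,
    by rw [Scheme.Hom.comp_apply, hw₂, Scheme.Hom.comp_apply, hw₁, hw],
    C, a, b, hC, hCP, fun k hk => hCz k (hPz k hk),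
    ⟨DerivedCategory.Q.mapIso eC ≪≫ (RQ i _).symm ≪≫ (RD i).mapIso ((RQ g P₀).symm ≪≫ (RD g).mapIso e₀ ≪≫
      ((RDComp g j).app E).symm) ≪≫ ((RDComp i (g ≫ j)).app E).symm⟩⟩

/-- The fibre dimension formula at any field valued point of a chart. -/
lemma finrank_point_add {E : DCoh.D X} {κ : Type u} [Field κ] (h : Spec (CommRingCat.of κ) ⟶ X) [DCoh.HasLpull h]
    (s : Spec (CommRingCat.of κ)) {A : CommRingCat.{u}} [Nontrivial A] (k : Spec A ⟶ X) [IsOpenImmersion k]
    (p : Spec A) (hs : h s = k p) {C : CochainComplex (ModuleCat.{u} A) ℤ}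
    (hC : ∀ i, Module.Free A (C.X i) ∧ Module.Finite A (C.X i)) (hCP : DCoh.IsStrictlyPerfect ((tCx A).obj C))
    (α : DCoh.toD (Spec A) ((tCx A).obj C) ≅ (RD k).obj E) (j : ℤ) :
    Module.finrank (Coh.Γtop (Spec (CommRingCat.of κ))) ((DCoh.HD ((DCoh.Lpull h).obj E) j).val.obj (op ⊤)) +
        Module.finrank A (C.X (j + 1)) =
      TFun.fibreDim (C.X j ⧸ LinearMap.range (C.d (j - 1) j).hom) p +
        TFun.fibreDim (C.X (j + 1) ⧸ LinearMap.range (C.d j (j + 1)).hom) p := by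
  have hsub : ∀ t : Spec (CommRingCat.of κ), t = s := fun t => @Subsingleton.elim _ (inferInstanceAs (Subsingleton (PrimeSpectrum κ))) t s
  have hr : Set.range h ⊆ Set.range k := by
    rintro _ ⟨t, rfl⟩
    exact ⟨p, by rw [hsub t, hs]⟩
  let ψ := Spec.preimage (IsOpenImmersion.lift k h hr)
  have hh : Spec.map ψ ≫ k = h := by
    rw [Spec.map_preimage]
    exact IsOpenImmersion.lift_fac k _ hr
  let s₀ : Spec (CommRingCat.of κ) := ⟨⊥, Ideal.isPrime_bot⟩
  have h1 : k (Spec.map ψ s₀) = k p := by rw [← Scheme.Hom.comp_apply, hh, hsub s₀, hs]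
  have h2 : Spec.map ψ s₀ = p := k.isOpenEmbedding.injective h1
  have hker : RingHom.ker ψ.hom = p.asIdeal :=
    (show RingHom.ker ψ.hom = (Spec.map ψ s₀).asIdeal from rfl).trans (congrArg PrimeSpectrum.asIdeal h2)
  have := ModGroth.Stalk.hasLpull (Spec.map ψ)
  obtain ⟨e⟩ := nonempty_lpull_comp h (Spec.map ψ) k hh E
  rw [finrank_congr ((DerivedCategory.homologyFunctor _ j).mapIso e),
    finrank_lpull_of_model ψ C hCP (j - 1) α.hom (nq_of_isIso _ _) j (by omega)]
  exact finrank_fibre_homology_add ψ.hom C hC p hker (by omega) rfl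

lemma betti_add [∀ x : X, DCoh.HasLpull (X.fromSpecResidueField x)] {E : DCoh.D X} {A : CommRingCat.{u}} [Nontrivial A]
    (k : Spec A ⟶ X) [IsOpenImmersion k] (p : Spec A) {C : CochainComplex (ModuleCat.{u} A) ℤ}
    (hC : ∀ i, Module.Free A (C.X i) ∧ Module.Finite A (C.X i)) (hCP : DCoh.IsStrictlyPerfect ((tCx A).obj C))
    (α : DCoh.toD (Spec A) ((tCx A).obj C) ≅ (RD k).obj E) (j : ℤ) :
    PerfD.betti E (k p) j + Module.finrank A (C.X (j + 1)) =
      TFun.fibreDim (C.X j ⧸ LinearMap.range (C.d (j - 1) j).hom) p +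
        TFun.fibreDim (C.X (j + 1) ⧸ LinearMap.range (C.d j (j + 1)).hom) p :=
  finrank_point_add (κ := X.residueField (k p)) (X.fromSpecResidueField (k p)) ⟨⊥, Ideal.isPrime_bot⟩ k p
    (Scheme.fromSpecResidueField_apply _ _) hC hCP α j

/-- Field valued points compute the Betti numbers. -/
lemma finrank_point_eq_betti [∀ x : X, DCoh.HasLpull (X.fromSpecResidueField x)] {E : DCoh.D X} (hE : DCoh.IsPerfect E)
    {κ : Type u} [Field κ] (h : Spec (CommRingCat.of κ) ⟶ X) [DCoh.HasLpull h] (s : Spec (CommRingCat.of κ)) (j : ℤ) :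
    Module.finrank (Coh.Γtop (Spec (CommRingCat.of κ))) ((DCoh.HD ((DCoh.Lpull h).obj E) j).val.obj (op ⊤)) =
      PerfD.betti E (h s) j := by
  obtain ⟨A, k, hk, p, hp, C, a, b, hC, hCP, -, ⟨α⟩⟩ := exists_model_perfect hE (h s)
  have : Nontrivial A := PrimeSpectrum.nontrivial p
  have h1 := finrank_point_add h s k p hp.symm hC hCP α j
  have h2 := betti_add k p hC hCP α j
  rw [hp] at h2
  omega

lemma betti_eq_zero [∀ x : X, DCoh.HasLpull (X.fromSpecResidueField x)] {E : DCoh.D X} {A : CommRingCat.{u}}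
    [Nontrivial A] (k : Spec A ⟶ X) [IsOpenImmersion k] (p : Spec A) {C : CochainComplex (ModuleCat.{u} A) ℤ}
    (hC : ∀ i, Module.Free A (C.X i) ∧ Module.Finite A (C.X i)) (hCP : DCoh.IsStrictlyPerfect ((tCx A).obj C))
    {a b : ℤ} (hz : ∀ i, i < a ∨ b < i → IsZero (C.X i))
    (α : DCoh.toD (Spec A) ((tCx A).obj C) ≅ (RD k).obj E) (j : ℤ) (hj : j < a ∨ b < j) :
    PerfD.betti E (k p) j = 0 := by
  have h := betti_add k p hC hCP α j
  have : Subsingleton (C.X j) := ModuleCat.subsingleton_of_isZero (hz j hj)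
  have := (hC (j + 1)).1
  have := (hC (j + 1)).2
  have h0 : TFun.fibreDim (C.X j ⧸ LinearMap.range (C.d (j - 1) j).hom) p = 0 :=
    Module.finrank_zero_of_subsingleton
  have h1 : TFun.fibreDim (C.X (j + 1) ⧸ LinearMap.range (C.d j (j + 1)).hom) p ≤ Module.finrank A (C.X (j + 1)) :=
    (LinearMap.finrank_le_finrank_of_surjective
      (f := (LinearMap.range (C.d j (j + 1)).hom).mkQ.baseChange p.asIdeal.ResidueField)
      (LinearMap.lTensor_surjective _ (Submodule.mkQ_surjective _))).trans_eq Module.finrank_baseChange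
  omega

/-- The points where `E` looks like a module of rank `r` in degree `i`. -/
theorem isOpen_singleLocus [∀ x : X, DCoh.HasLpull (X.fromSpecResidueField x)] {E : DCoh.D X}
    (hE : DCoh.IsPerfect E) (i : ℤ) (r : ℕ) :
    IsOpen {x : X | ∀ j, PerfD.betti E x j = if j = i then r else 0} := by
  refine isOpen_iff_forall_mem_open.2 fun x hx => ?_
  obtain ⟨A, k, hk, p, rfl, C, a, b, hC, hCP, hz, ⟨α⟩⟩ := exists_model_perfect hE x
  have : Nontrivial A := PrimeSpectrum.nontrivial p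
  let s : Finset ℤ := (Finset.Icc a b).erase i
  let V : Set X := Set.range k ∩ (⋂ j ∈ s, {y | PerfD.betti E y j < 1}) ∩
    {y | PerfD.eulerChar E y = PerfD.eulerChar E (k p)}
  refine ⟨V, ?_, ?_, ⟨⟨⟨p, rfl⟩, Set.mem_iInter₂.2 fun j hj => ?_⟩, rfl⟩⟩
  · rintro _ ⟨⟨⟨q, rfl⟩, hq⟩, hχ⟩ j
    have hz' : ∀ j, j ≠ i → PerfD.betti E (k q) j = 0 := fun j hj => by
      by_cases hj' : j < a ∨ b < j
      · exact betti_eq_zero k q hC hCP hz α j hj'
      · have := Set.mem_iInter₂.1 hq j (Finset.mem_erase.2 ⟨hj, Finset.mem_Icc.2 (by omega)⟩)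
        simpa using this
    by_cases hj : j = i
    · subst hj
      rw [if_pos rfl]
      have e : ∀ y, (∀ l, l ≠ j → PerfD.betti E y l = 0) →
          PerfD.eulerChar E y = (j.negOnePow : ℤ) * (PerfD.betti E y j : ℤ) := fun y hy =>
        finsum_eq_single _ j fun l hl => by simp [hy l hl]
      have h1 : PerfD.eulerChar E (k q) = PerfD.eulerChar E (k p) := hχ
      rw [e _ hz', e _ (fun l hl => by rw [hx l, if_neg hl]), hx j, if_pos rfl] at h1
      exact_mod_cast (mul_left_cancel₀ (Units.ne_zero _) h1)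
    · rw [if_neg hj]
      exact hz' j hj
  · refine (k.isOpenEmbedding.isOpen_range.inter (isOpen_biInter_finset fun j _ => ?_)).inter
      ((isLocallyConstant_eulerChar hE).isOpen_fiber (PerfD.eulerChar E (k p)))
    exact isOpen_betti_lt E j (isPC_of_isPerfect hE) 1
  · show PerfD.betti E (k p) j < 1
    rw [hx j, if_neg (Finset.ne_of_mem_erase hj)]
    exact one_pos

/-- On an open inside the locus, `E` is a module in degree `i`. -/
theorem exists_single_iso [∀ x : X, DCoh.HasLpull (X.fromSpecResidueField x)] {E : DCoh.D X}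
    (hE : DCoh.IsPerfect E) (i : ℤ) (ι : Y ⟶ X) [IsOpenImmersion ι]
    (h : ∀ (y : Y) (j : ℤ), j ≠ i → PerfD.betti E (ι y) j = 0) :
    ∃ V : Y.Modules, FlatMod.IsFinLocFree V ∧
      Nonempty ((RD ι).obj E ≅ (DerivedCategory.singleFunctor Y.Modules i).obj V) := by
  choose A k hk w hw C a b hC hCP hz hα using exists_model_perfect (isPerfect_restrict hE ι)
  have main : ∀ y, (∀ j, j ≠ i → (C y).ExactAt j) ∧ Module.Finite (A y) ((C y).homology i) ∧
      Module.Projective (A y) ((C y).homology i) := fun y => by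
    have : Nontrivial (A y) := PrimeSpectrum.nontrivial (w y)
    refine amplitude_single (C y) (hC y) i fun p j hj => ?_
    have h1 := betti_add (k y ≫ ι) p (hC y) (hCP y) ((hα y).some ≪≫ ((RDComp (k y) ι).app E).symm) j
    rw [Scheme.Hom.comp_apply, h _ j hj, zero_add] at h1
    exact h1.symm
  let K := (RD ι).obj E
  have e : ∀ y j, Nonempty ((rF (k y)).obj (DCoh.HD K j) ≅ tilde ((C y).homology j)) := fun y j =>
    ⟨(homology_restrict (k y) K j).some.symm ≪≫ (DerivedCategory.homologyFunctor _ j).mapIso (hα y).some.symm ≪≫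
      (DerivedCategory.homologyFunctorFactors _ j).app _ ≪≫ ((C y).sc j).mapHomologyIso (tilde.functor (A y))⟩
  have hz' : ∀ j, j ≠ i → IsZero (DCoh.HD K j) := fun j hj =>
    isZero_of_cover k (fun y => ⟨y, w y, hw y⟩) fun y =>
      ((tilde.functor (A y)).map_isZero (((C y).exactAt_iff_isZero_homology j).1 ((main y).1 j hj))).of_iso (e y j).some
  have hfree : FlatMod.IsFinLocFree (DCoh.HD K i) := LocFree.isFinLocFree_of_openImmersion fun y => by
    have := (main y).2.1
    have := (main y).2.2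
    obtain ⟨U, n, hU, ⟨d⟩⟩ := LocFree.IsFinLocFree.of_iso (e y i).some.symm
      (LocFree.isFinLocFree_tilde ((C y).homology i)) (w y)
    exact ⟨U, U.ι ≫ k y, inferInstance, ⟨w y, hU⟩, hw y, n,
      ⟨(rFComp U.ι (k y)).app _ ≪≫ d⟩⟩
  have : K.IsGE i := (DerivedCategory.isGE_iff K i).2 fun j hj => hz' j (by omega)
  have : K.IsLE i := (DerivedCategory.isLE_iff K i).2 fun j hj => hz' j (by omega)
  obtain ⟨V, ⟨eV⟩⟩ := K.exists_iso_singleFunctor_obj_of_isGE_of_isLE i
  exact ⟨V, LocFree.IsFinLocFree.of_iso ((DerivedCategory.homologyFunctor _ i).mapIso eV ≪≫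
    (DerivedCategory.singleFunctorCompHomologyFunctorIso Y.Modules i).app V) hfree, ⟨eV⟩⟩

/-- Derived pullback of a flat module in a degree. -/
lemma nonempty_lpull_single {Z : Scheme.{u}} (f : Z ⟶ Y) [DCoh.HasLpull f] {V : Y.Modules}
    (hV : FlatMod.IsFinLocFree V) (i : ℤ) :
    Nonempty ((DCoh.Lpull f).obj ((DerivedCategory.singleFunctor Y.Modules i).obj V) ≅
      (DerivedCategory.singleFunctor Z.Modules i).obj ((Scheme.Modules.pullback f).obj V)) :=
  ⟨(DCoh.Lpull f).mapIso ((DerivedCategory.singleFunctorIsoCompQ Y.Modules i).app V) ≪≫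
    ModGroth.Stalk.lpullValueIso f (ModGroth.Perf.isKFlat_of_isStrictlyPerfect (sp_single hV i)) ≪≫
    DerivedCategory.Q.mapIso
      ((HomologicalComplex.singleMapHomologicalComplex (Scheme.Modules.pullback f) (ComplexShape.up ℤ) i).app V) ≪≫
    ((DerivedCategory.singleFunctorIsoCompQ Z.Modules i).app _).symm⟩

lemma finrank_free (κ : Type u) [Field κ] (n : ℕ) :
    Module.finrank (Coh.Γtop (Spec (CommRingCat.of κ))) ((FlatMod.freeMod (Spec (CommRingCat.of κ)) n).val.obj (op ⊤)) = n := by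
  rw [← finrank_congr (LocFree.tildeFreeFinIso (CommRingCat.of κ) n)]
  exact (finrank_tilde _).trans (by simp [Module.finrank_finsupp_self])

/-- The fibre of a module placed in a degree. -/
lemma finrank_lpull_single {V : Y.Modules} (hV : FlatMod.IsFinLocFree V) (i : ℤ) {κ : Type u} [Field κ]
    (h : Spec (CommRingCat.of κ) ⟶ Y) [DCoh.HasLpull h] (U : Y.Opens) (hU : Set.range h ⊆ (U : Set Y)) (n : ℕ)
    (e : V.restrict U.ι ≅ FlatMod.freeMod (↑U) n) (j : ℤ) :
    Module.finrank (Coh.Γtop (Spec (CommRingCat.of κ)))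
      ((DCoh.HD ((DCoh.Lpull h).obj ((DerivedCategory.singleFunctor Y.Modules i).obj V)) j).val.obj (op ⊤)) =
        if j = i then n else 0 := by
  obtain ⟨d⟩ := nonempty_lpull_single h hV i
  rw [finrank_congr ((DerivedCategory.homologyFunctor _ j).mapIso d)]
  by_cases hj : j = i
  · subst hj
    let g := IsOpenImmersion.lift U.ι h (by rw [Scheme.Opens.range_ι]; exact hU)
    rw [if_pos rfl]
    refine (finrank_congr ((DerivedCategory.singleFunctorCompHomologyFunctorIso _ j).app _ ≪≫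
      (Scheme.Modules.pullbackCongr (IsOpenImmersion.lift_fac U.ι h _).symm).app V ≪≫
      ((Scheme.Modules.pullbackComp g U.ι).app V).symm ≪≫
      (Scheme.Modules.pullback g).mapIso (((Scheme.Modules.restrictFunctorIsoPullback U.ι).app V).symm ≪≫ e) ≪≫
      ModGroth.Perf.pullFreeModIso g n)).trans ?_
    exact finrank_free κ n
  · have hz : IsZero (DCoh.HD ((DerivedCategory.singleFunctor (Spec (CommRingCat.of κ)).Modules i).obj
        ((Scheme.Modules.pullback h).obj V)) j) := by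
      rcases lt_or_gt_of_ne hj with h' | h'
      · exact DerivedCategory.isZero_of_isGE _ i j h'
      · exact DerivedCategory.isZero_of_isLE _ i j h'
    rw [if_neg hj]
    refine (finrank_congr (IsZero.iso hz
      ((IsZero.iff_id_eq_zero _).2 (Sigma.hom_ext _ _ fun i => i.elim0) :
        IsZero (FlatMod.freeMod (Spec (CommRingCat.of κ)) 0)))).trans ?_
    exact finrank_free κ 0

lemma isFinLocFreeOfRank_pullback {Z : Scheme.{u}} (f : Z ⟶ Y) {r : ℕ} {V : Y.Modules}
    (h : FlatMod.IsFinLocFreeOfRank r V) : FlatMod.IsFinLocFreeOfRank r ((Scheme.Modules.pullback f).obj V) :=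
  fun x => by
    obtain ⟨U, hx, ⟨e⟩⟩ := h (f.base x)
    exact ⟨f ⁻¹ᵁ U, hx, ⟨((ModGroth.Perf.restrPullIso f (f ∣_ U) _ _ (morphismRestrict_ι f U)).app V).symm ≪≫
      (Scheme.Modules.pullback (f ∣_ U)).mapIso e ≪≫ ModGroth.Perf.pullFreeModIso _ r⟩⟩

lemma isFinLocFree_of_rank {r : ℕ} {V : Y.Modules} (h : FlatMod.IsFinLocFreeOfRank r V) : FlatMod.IsFinLocFree V :=
  fun x => let ⟨U, hx, e⟩ := h x; ⟨U, r, hx, e⟩

/-- The locus where a perfect object is a rank `r` module in degree `i`, functorially. -/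
theorem exists_singleLocus {E : DCoh.D X} (hE : DCoh.IsPerfect E) (i : ℤ) (r : ℕ) :
    ∃ U : X.Opens, ∀ (Y : Scheme.{u}) (f : Y ⟶ X) [DCoh.HasLpull f],
      Set.range f.base ⊆ (U : Set X) ↔
        ∃ V : Y.Modules, FlatMod.IsFinLocFreeOfRank r V ∧
          Nonempty ((DCoh.Lpull f).obj E ≅ (DCoh.inD Y V)⟦-i⟧) := by
  have : ∀ x : X, DCoh.HasLpull (X.fromSpecResidueField x) := fun x => ModGroth.Stalk.hasLpull _
  let U : X.Opens := ⟨_, isOpen_singleLocus hE i r⟩
  refine ⟨U, fun Y f _ => ?_⟩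
  have sh : ∀ V : Y.Modules, Nonempty ((DCoh.inD Y V)⟦-i⟧ ≅ (DerivedCategory.singleFunctor Y.Modules i).obj V) :=
    fun V => ⟨((DerivedCategory.singleFunctors Y.Modules).shiftIso (-i) i 0 (by omega)).app V⟩
  constructor
  · intro hf
    obtain ⟨V, hV, ⟨eV⟩⟩ := exists_single_iso hE i U.ι fun y j hj => by
      have := y.2 j
      rw [if_neg hj] at this
      exact this
    have hrk : FlatMod.IsFinLocFreeOfRank r V := fun u => by
      obtain ⟨W, n, hu, ⟨e⟩⟩ := hV u
      let g := (U : Scheme.{u}).fromSpecResidueField u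
      have := ModGroth.Stalk.hasLpull g
      have := ModGroth.Stalk.hasLpull (g ≫ U.ι)
      obtain ⟨c⟩ := nonempty_lpull_comp (g ≫ U.ι) g U.ι rfl E
      have h1 := finrank_lpull_single (κ := (U : Scheme.{u}).residueField u) hV i g W (by
        rintro _ ⟨s, rfl⟩
        rw [Scheme.fromSpecResidueField_apply]
        exact hu) n e i
      let s : Spec (CommRingCat.of ((U : Scheme.{u}).residueField u)) := ⟨⊥, Ideal.isPrime_bot⟩
      have h2 := finrank_point_eq_betti hE (κ := (U : Scheme.{u}).residueField u) (g ≫ U.ι) s i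
      replace h2 := h1.symm.trans
        ((finrank_congr ((DerivedCategory.homologyFunctor _ i).mapIso (c ≪≫ (DCoh.Lpull g).mapIso eV))).symm.trans h2)
      rw [if_pos rfl, show (g ≫ U.ι) s = U.ι u by
          rw [Scheme.Hom.comp_apply, Scheme.fromSpecResidueField_apply],
        (show PerfD.betti E (U.ι u) i = if i = i then r else 0 from u.2 i), if_pos rfl] at h2
      exact ⟨W, hu, h2 ▸ ⟨e⟩⟩
    let g := IsOpenImmersion.lift U.ι f (by rw [Scheme.Opens.range_ι]; exact hf)
    have := ModGroth.Stalk.hasLpull g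
    obtain ⟨c⟩ := nonempty_lpull_comp f g U.ι (IsOpenImmersion.lift_fac _ _ _) E
    obtain ⟨d⟩ := nonempty_lpull_single g hV i
    exact ⟨_, isFinLocFreeOfRank_pullback g hrk, ⟨c ≪≫ (DCoh.Lpull g).mapIso eV ≪≫ d ≪≫ (sh _).some.symm⟩⟩
  · rintro ⟨V, hV, ⟨eV⟩⟩ _ ⟨y, rfl⟩ j
    obtain ⟨W, hy, ⟨e⟩⟩ := hV y
    let g := Y.fromSpecResidueField y
    have := ModGroth.Stalk.hasLpull g
    have := ModGroth.Stalk.hasLpull (g ≫ f)
    obtain ⟨c⟩ := ModGroth.LpullComp.nonempty_lpullComp g f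
    let s : Spec (CommRingCat.of (Y.residueField y)) := ⟨⊥, Ideal.isPrime_bot⟩
    have h2 := finrank_point_eq_betti hE (κ := Y.residueField y) (g ≫ f) s j
    rw [Scheme.Hom.comp_apply, Scheme.fromSpecResidueField_apply] at h2
    refine h2.symm.trans ((finrank_congr ((DerivedCategory.homologyFunctor _ j).mapIso
      ((c.app E).symm ≪≫ (DCoh.Lpull g).mapIso (eV ≪≫ (sh V).some)))).trans ?_)
    exact finrank_lpull_single (κ := Y.residueField y) (isFinLocFree_of_rank hV) i g W (by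
      rintro _ ⟨t, rfl⟩
      rw [Scheme.fromSpecResidueField_apply]
      exact hy) r e j

end Groth.Agent.DCohPerf
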