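import Mathlib.Algebra.Homology.DerivedCategory.HomologySequence
import Mathlib.CategoryTheory.Triangulated.Triangulated

/-!
`m`-quasi-isomorphisms in a derived category: isomorphisms on `H^{> m}` and epimorphisms on `H^m`.
-/

set_option autoImplicit false

universe w v u

open CategoryTheory CategoryTheory.Limits CategoryTheory.Pretriangulated

namespace Groth.Agent.DCohPerf

variable {C : Type u} [Category.{v} C] [Abelian C] [HasDerivedCategory.{w} C]

/-- `m`-quasi-isomorphisms. -/
def NQ (m : ℤ) {X Y : DerivedCategory C} (f : X ⟶ Y) : Prop :=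
  (∀ i : ℤ, m < i → IsIso ((DerivedCategory.homologyFunctor C i).map f)) ∧
    Epi ((DerivedCategory.homologyFunctor C m).map f)

lemma NQ.epi {m : ℤ} {X Y : DerivedCategory C} {f : X ⟶ Y} (h : NQ m f) (i : ℤ) (hi : m ≤ i) :
    Epi ((DerivedCategory.homologyFunctor C i).map f) := by
  rcases hi.eq_or_lt with rfl | h'
  · exact h.2
  · have := h.1 i h'
    infer_instance

lemma NQ.mono {m n : ℤ} {X Y : DerivedCategory C} {f : X ⟶ Y} (h : NQ m f) (hmn : m ≤ n) : NQ n f :=
  ⟨fun i hi => h.1 i (by omega), h.epi n hmn⟩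

lemma NQ.comp {m : ℤ} {X Y Z : DerivedCategory C} {f : X ⟶ Y} {g : Y ⟶ Z} (hf : NQ m f) (hg : NQ m g) :
    NQ m (f ≫ g) := by
  have := hf.2
  have := hg.2
  refine ⟨fun i hi => ?_, ?_⟩
  · have := hf.1 i hi
    have := hg.1 i hi
    rw [Functor.map_comp]
    infer_instance
  · rw [Functor.map_comp]
    exact epi_comp _ _

lemma nq_of_isIso (m : ℤ) {X Y : DerivedCategory C} (f : X ⟶ Y) [IsIso f] : NQ m f :=
  ⟨fun _ _ => inferInstance, inferInstance⟩

/-- The cone criterion. -/
lemma nq_iff {T : Triangle (DerivedCategory C)} (hT : T ∈ distinguishedTriangles) (m : ℤ) :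
    NQ m T.mor₁ ↔ ∀ i : ℤ, m ≤ i → IsZero ((DerivedCategory.homologyFunctor C i).obj T.obj₃) := by
  constructor
  · intro h i hi
    refine (DerivedCategory.HomologySequence.exact₃ T hT i (i + 1) rfl).isZero_X₂ ?_ ?_
    · exact (DerivedCategory.HomologySequence.epi_homologyMap_mor₁_iff T hT i).1 (h.epi i hi)
    · have := h.1 (i + 1) (by omega)
      exact (DerivedCategory.HomologySequence.mono_homologyMap_mor₁_iff T hT i (i + 1) rfl).1 inferInstance
  · intro h
    have hepi : ∀ i, m ≤ i → Epi ((DerivedCategory.homologyFunctor C i).map T.mor₁) := fun i hi =>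
      (DerivedCategory.HomologySequence.epi_homologyMap_mor₁_iff T hT i).2 ((h i hi).eq_of_tgt _ _)
    refine ⟨fun i hi => ?_, hepi m le_rfl⟩
    have := hepi i hi.le
    have : Mono ((DerivedCategory.homologyFunctor C i).map T.mor₁) :=
      (DerivedCategory.HomologySequence.mono_homologyMap_mor₁_iff T hT (i - 1) i (by omega)).2
        ((h (i - 1) (by omega)).eq_of_src _ _)
    exact isIso_of_mono_of_epi _

/-- A map is an `m`-quasi-isomorphism when the first term of its triangle vanishes in `H^{> m}`. -/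
lemma nq_mor₂ {T : Triangle (DerivedCategory C)} (hT : T ∈ distinguishedTriangles) (m : ℤ)
    (h : ∀ i : ℤ, m < i → IsZero ((DerivedCategory.homologyFunctor C i).obj T.obj₁)) : NQ m T.mor₂ := by
  have hepi : ∀ i, m ≤ i → Epi ((DerivedCategory.homologyFunctor C i).map T.mor₂) := fun i hi =>
    (DerivedCategory.HomologySequence.epi_homologyMap_mor₂_iff T hT i (i + 1) rfl).2
      ((h (i + 1) (by omega)).eq_of_tgt _ _)
  refine ⟨fun i hi => ?_, hepi m le_rfl⟩
  have := hepi i hi.le
  have : Mono ((DerivedCategory.homologyFunctor C i).map T.mor₂) :=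
    (DerivedCategory.HomologySequence.mono_homologyMap_mor₂_iff T hT i).2 ((h i hi).eq_of_src _ _)
  exact isIso_of_mono_of_epi _

/-- Replace the first two terms of a triangle along quasi-isomorphisms in high degrees. -/
lemma exists_nq_third {T : Triangle (DerivedCategory C)} (hT : T ∈ distinguishedTriangles) (m : ℤ)
    {A B Z : DerivedCategory C} (α : A ⟶ T.obj₁) (β : B ⟶ T.obj₂) (hα : NQ (m + 1) α) (hβ : NQ m β) (g : A ⟶ B)
    (hg : g ≫ β = α ≫ T.mor₁) (p : B ⟶ Z) (q : Z ⟶ A⟦(1 : ℤ)⟧) (hZ : Triangle.mk g p q ∈ distinguishedTriangles) :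
    ∃ γ : Z ⟶ T.obj₃, NQ m γ := by
  obtain ⟨C₁, _, _, hC₁⟩ := distinguished_cocone_triangle α
  obtain ⟨C₂, _, _, hC₂⟩ := distinguished_cocone_triangle β
  obtain ⟨W, _, _, hW⟩ := distinguished_cocone_triangle (α ≫ T.mor₁)
  let O₁ := Triangulated.someOctahedron (rfl : α ≫ T.mor₁ = α ≫ T.mor₁) hC₁ hT hW
  let O₂ := Triangulated.someOctahedron hg hZ hC₂ hW
  refine ⟨O₂.m₁ ≫ O₁.m₃, NQ.comp ?_ ?_⟩
  · exact (nq_iff O₂.mem m).2 fun i hi => (nq_iff hC₂ m).1 hβ i hi
  · exact nq_mor₂ O₁.mem m fun i hi => (nq_iff hC₁ (m + 1)).1 hα i (by omega)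

lemma isZero_homology_shift (X : DerivedCategory C) (k i j : ℤ) (h : k + i = j)
    (hX : IsZero ((DerivedCategory.homologyFunctor C j).obj X)) :
    IsZero ((DerivedCategory.homologyFunctor C i).obj (X⟦k⟧)) :=
  hX.of_iso (((DerivedCategory.homologyFunctor C 0).shiftIso k i j h).app X)

lemma NQ.shift {m : ℤ} {X Y : DerivedCategory C} {f : X ⟶ Y} (h : NQ m f) (k m' : ℤ) (hm : m' + k = m) :
    NQ m' (f⟦k⟧') := by
  have e : ∀ i j, k + i = j → (Arrow.mk ((DerivedCategory.homologyFunctor C i).map (f⟦k⟧')) ≅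
      Arrow.mk ((DerivedCategory.homologyFunctor C j).map f)) := fun i j hij =>
    Arrow.isoMk (((DerivedCategory.homologyFunctor C 0).shiftIso k i j hij).app X)
      (((DerivedCategory.homologyFunctor C 0).shiftIso k i j hij).app Y)
      (((DerivedCategory.homologyFunctor C 0).shiftIso k i j hij).hom.naturality f).symm
  refine ⟨fun i hi => ?_, ?_⟩
  · exact ((MorphismProperty.isomorphisms _).arrow_mk_iso_iff (e i (k + i) rfl)).2 (h.1 _ (by omega))
  · exact ((MorphismProperty.epimorphisms _).arrow_mk_iso_iff (e m' m (by omega))).2 h.2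

end Groth.Agent.DCohPerf
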