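import Groth.Agent.DCohPerf.Local
import Mathlib.Algebra.Homology.Homotopy
import Mathlib.Algebra.Homology.HomotopyCategory.Pretriangulated

/-!
Maps from strictly perfect complexes into complexes exact in their range are locally null-homotopic.
-/

set_option autoImplicit false

universe u

open CategoryTheory CategoryTheory.Limits AlgebraicGeometry TopologicalSpace Opposite HomologicalComplex

namespace Groth.Agent.DCohPerf

section Generic

variable {C : Type*} [Category C] [Abelian C] {E F : CochainComplex C ℤ}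

/-- The homotopy equation of a family at one degree. -/
def HEq' (α : E ⟶ F) (h : ∀ i j, E.X i ⟶ F.X j) (i : ℤ) : Prop :=
  α.f i = E.d i (i + 1) ≫ h (i + 1) i + h i (i - 1) ≫ F.d (i - 1) i

/-- A family solving the equation in degrees `≥ a` is a homotopy when the source vanishes below `a`. -/
noncomputable def homotopyOfFamily (α : E ⟶ F) (a : ℤ) (hE : ∀ i, i < a → IsZero (E.X i))
    (h : ∀ i j, E.X i ⟶ F.X j) (hh : ∀ i, a ≤ i → HEq' α h i) : Homotopy α 0 where
  hom i j := if j + 1 = i then h i j else 0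
  zero i j hij := if_neg hij
  comm i := by
    rw [dNext_eq _ (show (ComplexShape.up ℤ).Rel i (i + 1) from rfl),
      prevD_eq _ (show (ComplexShape.up ℤ).Rel (i - 1) i by simp), if_pos rfl, if_pos (sub_add_cancel i 1)]
    by_cases hi : a ≤ i
    · rw [hh i hi, HomologicalComplex.zero_f, add_zero]
    · exact (hE i (by omega)).eq_of_src _ _

lemma comp_d_eq_zero_of_hEq (α : E ⟶ F) (h : ∀ i j, E.X i ⟶ F.X j) (i : ℤ) (hi : HEq' α h (i + 1)) :
    (α.f i - E.d i (i + 1) ≫ h (i + 1) i) ≫ F.d i (i + 1) = 0 := by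
  have hi' : α.f (i + 1) = E.d (i + 1) (i + 1 + 1) ≫ h (i + 1 + 1) (i + 1) + h (i + 1) i ≫ F.d i (i + 1) := by
    have e : ∀ j, j = i → h (i + 1) j ≫ F.d j (i + 1) = h (i + 1) i ≫ F.d i (i + 1) := fun j hj => by subst hj; rfl
    rw [show α.f (i + 1) = _ from hi, e _ (by omega)]
  rw [Preadditive.sub_comp, α.comm i (i + 1), hi', Preadditive.comp_add, ← Category.assoc (E.d i (i + 1)),
    E.d_comp_d, zero_comp, zero_add, Category.assoc, sub_self]

end Generic

variable {X : Scheme.{u}}

lemma exists_null_aux : ∀ (k : ℕ) (X : Scheme.{u}) (E F : CochainComplex X.Modules ℤ) (α : E ⟶ F) (a : ℤ),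
    (∀ i, FlatMod.IsFinLocFree (E.X i)) → (∀ i, i < a → IsZero (E.X i)) → (∀ i, a ≤ i → F.ExactAt i) →
    ∀ (h : ∀ i j, E.X i ⟶ F.X j), (∀ i, a + k ≤ i → HEq' α h i) → ∀ x : X,
      ∃ (W : Scheme.{u}) (j : W ⟶ X) (_ : IsOpenImmersion j) (w : W),
        j w = x ∧ Nonempty (Homotopy ((rC j).map α) 0) := by
  intro k
  induction k with
  | zero =>
    intro X E F α a _ hE _ h hh x
    refine ⟨X, 𝟙 X, inferInstance, x, rfl, ⟨?_⟩⟩
    refine ((rF (𝟙 X)).mapHomotopy (homotopyOfFamily α a hE h fun i hi => hh i (by simpa using hi))).trans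
      (Homotopy.ofEq ?_)
    exact Functor.map_zero _ _ _
  | succ k ih =>
    intro X E F α a hfl hE hF h hh x
    obtain ⟨i, rfl⟩ : ∃ i, i = a + k := ⟨_, rfl⟩
    let β := α.f (a + k) - E.d (a + k) (a + k + 1) ≫ h (a + k + 1) (a + k)
    have hβ : β ≫ F.d (a + k) (a + k + 1) = 0 :=
      comp_d_eq_zero_of_hEq α h (a + k) (hh (a + k + 1) (by push_cast; omega))
    have hex : F.ExactAt (a + k) := hF _ (by omega)
    let β' : E.X (a + k) ⟶ F.cycles (a + k) := F.liftCycles β (a + k + 1) (by simp) hβ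
    have hepi : Epi (F.toCycles (a + k - 1) (a + k)) := by
      have h' := (F.exactAt_iff' (a + k - 1) (a + k) (a + k + 1) (by simp) (by simp)).1 hex
      rw [F.exactAt_iff_isZero_homology] at hex
      exact (ShortComplex.exact_of_g_is_cokernel (ShortComplex.mk (F.toCycles (a + k - 1) (a + k))
        (F.homologyπ (a + k)) (toCycles_comp_homologyπ F _ _))
        (F.homologyIsCokernel (a + k - 1) (a + k) (by simp))).epi_f (hex.eq_of_tgt _ _)
    obtain ⟨W, j, hj, w, hw, l, hl⟩ := exists_local_lift (F.toCycles (a + k - 1) (a + k)) (hfl (a + k)) β' x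
    let R := rF j
    let h' : ∀ p q, R.obj (E.X p) ⟶ R.obj (F.X q) := fun p q =>
      if hpq : p = a + k ∧ q = a + k - 1 then
        eqToHom (by rw [hpq.1]) ≫ l ≫ eqToHom (by rw [hpq.2]) else R.map (h p q)
    have hl' : l ≫ R.map (F.d (a + k - 1) (a + k)) = R.map β := by
      rw [← toCycles_i, R.map_comp, reassoc_of% hl, ← R.map_comp, liftCycles_i]
    have hh' : ∀ i, a + k ≤ i → HEq' ((rC j).map α) h' i := by
      intro i hi
      rcases hi.eq_or_lt with rfl | hlt
      · show R.map (α.f (a + k)) = R.map (E.d _ _) ≫ h' (a + k + 1) (a + k) + h' (a + k) (a + k - 1) ≫ R.map (F.d _ _)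
        simp only [h', dif_neg (show ¬ (a + k + 1 = a + k ∧ a + k = a + k - 1) by omega), dif_pos (And.intro rfl rfl),
          eqToHom_refl, Category.id_comp, Category.comp_id]
        rw [hl', ← R.map_comp]
        exact (congrArg R.map (add_sub_cancel _ _).symm).trans (R.map_add (f := _) (g := _))
      · show R.map (α.f i) = R.map (E.d _ _) ≫ h' (i + 1) i + h' i (i - 1) ≫ R.map (F.d _ _)
        simp only [h', dif_neg (show ¬ (i + 1 = a + k ∧ i = a + k - 1) by omega),
          dif_neg (show ¬ (i = a + k ∧ i - 1 = a + k - 1) by omega)]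
        rw [← R.map_comp, ← R.map_comp]
        exact (congrArg R.map (hh i (by push_cast; omega))).trans (R.map_add (f := _) (g := _))
    obtain ⟨W', g, hg, w', hw', ⟨H⟩⟩ := ih W ((rC j).obj E) ((rC j).obj F) ((rC j).map α) a
      (fun i => isFinLocFree_restrict (hfl i) j) (fun i hi => R.map_isZero (hE i hi))
      (fun i hi => by
        have := hF i hi
        exact ShortComplex.Exact.map this R)
      h' hh' w
    refine ⟨W', g ≫ j, inferInstance, w', by simp [hw', hw], ⟨?_⟩⟩
    let c := rCComp g j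
    exact (Homotopy.ofEq (NatIso.naturality_2 c α).symm).trans
      (((H.compRight (c.inv.app F)).compLeft (c.hom.app E)).trans (Homotopy.ofEq (by simp)))

/-- A map from a strictly perfect complex to a complex exact in its range is locally null-homotopic. -/
theorem exists_null {E F : CochainComplex X.Modules ℤ} (α : E ⟶ F) (hE : DCoh.IsStrictlyPerfect E) (a : ℤ)
    (hEa : ∀ i, i < a → IsZero (E.X i)) (hF : ∀ i, a ≤ i → F.ExactAt i) (x : X) :
    ∃ (W : Scheme.{u}) (j : W ⟶ X) (_ : IsOpenImmersion j) (w : W),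
      j w = x ∧ Nonempty (Homotopy ((rC j).map α) 0) := by
  obtain ⟨⟨a', b, hz⟩, hfl⟩ := hE
  refine exists_null_aux (b + 1 - a).toNat X E F α a hfl hEa hF (fun _ _ => 0) (fun i hi => ?_) x
  exact (hz i (Or.inr (by omega))).eq_of_src _ _

/-- Move a null-homotopy to an open subscheme. -/
theorem exists_opens_null {E F : CochainComplex X.Modules ℤ} (α : E ⟶ F) {x : X} {W : Scheme.{u}} (j : W ⟶ X)
    [IsOpenImmersion j] (w : W) (hw : j w = x) (H : Homotopy ((rC j).map α) 0) :
    ∃ V : X.Opens, x ∈ V ∧ Nonempty (Homotopy ((DCoh.restrictCx V).map α) 0) := by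
  obtain ⟨hm, i, hi, hij⟩ := exists_opens j w
  refine ⟨j.opensRange, hw ▸ hm, ⟨?_⟩⟩
  let c := (rCComp i j).symm ≪≫ rCCongr hij
  exact (Homotopy.ofEq (NatIso.naturality_1 c α).symm).trans
    ((((((rF i).mapHomotopy H).trans (Homotopy.ofEq (Functor.map_zero _ _ _))).compRight (c.hom.app F)).compLeft
      (c.inv.app E)).trans (Homotopy.ofEq (by simp)))

end Groth.Agent.DCohPerf
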