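import Groth.Agent.DCohPerf.FlatFP
import Groth.Agent.DCohPerf.Summand
import Groth.Agent.ModGroth.FlatTor

/-!
Pseudo-coherent objects of finite tor amplitude are perfect.
-/

set_option autoImplicit false

universe u

open CategoryTheory CategoryTheory.Limits CategoryTheory.Pretriangulated AlgebraicGeometry TopologicalSpace Opposite

attribute [local instance] HasDerivedCategory.standard

namespace Groth.Agent.DCohPerf

variable {X Y : Scheme.{u}}

lemma van_iso (F : X.Modules) {E E' : DCoh.D X} (e : E ≅ E') {i : ℤ} (h : ModGroth.Amp.Van F E i) :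
    ModGroth.Amp.Van F E' i := by
  obtain ⟨K, hK, -, ⟨d⟩⟩ := ModGroth.Amp.exists_rep E
  exact (ModGroth.Amp.van_iff F hK (d ≪≫ e) i).2 ((ModGroth.Amp.van_iff F hK d i).1 h)

lemma flatAmp_iso {a b : ℤ} {E E' : DCoh.D X} (e : E ≅ E') (h : DCoh.HasFlatAmplitudeIn a b E) :
    DCoh.HasFlatAmplitudeIn a b E' := by
  obtain ⟨K, h1, h2, ⟨d⟩⟩ := h
  exact ⟨K, h1, h2, ⟨d ≪≫ e⟩⟩

lemma flatAmp_restrict (j : Y ⟶ X) [IsOpenImmersion j] {a b : ℤ} {E : DCoh.D X} (h : DCoh.HasFlatAmplitudeIn a b E) :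
    DCoh.HasFlatAmplitudeIn a b ((RD j).obj E) := by
  obtain ⟨K, h1, h2, ⟨d⟩⟩ := h
  exact ⟨(rC j).obj K, fun i hi => (rF j).map_isZero (h1 i hi), fun i => isFlat_restrict j (h2 i),
    ⟨(RQ j K).symm ≪≫ (RD j).mapIso d⟩⟩

lemma isZero_HD_of_vanishes {E : CochainComplex X.Modules ℤ} {K : DCoh.D X} (e : DCoh.toD X E ≅ K) (i : ℤ)
    (h : IsZero (E.X i)) : IsZero (DCoh.HD K i) :=
  ((E.exactAt_iff_isZero_homology i).1 (ShortComplex.exact_of_isZero_X₂ _ h)).of_iso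
    ((DerivedCategory.homologyFunctor X.Modules i).mapIso e.symm ≪≫
      (DerivedCategory.homologyFunctorFactors X.Modules i).app E)

/-- A third term concentrated in one degree, which is finite locally free. -/
lemma exists_split {m b : ℤ} {E : DCoh.D X} (hE : DCoh.IsPseudoCoherentD (m - 1) E)
    (hamp : DCoh.HasFlatAmplitudeIn m b E) {P : CochainComplex X.Modules ℤ} (hP : DCoh.IsStrictlyPerfect P)
    (hPm : ∀ i, i < m + 1 → IsZero (P.X i)) (α : DCoh.toD X P ⟶ E) (hα : NQ (m + 1) α) :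
    ∃ (Q : X.Modules) (g : E ⟶ (DCoh.inD X Q)⟦-m⟧) (h : (DCoh.inD X Q)⟦-m⟧ ⟶ (DCoh.toD X P)⟦(1 : ℤ)⟧),
      FlatMod.IsFinLocFree Q ∧ Triangle.mk α g h ∈ distTriang _ := by
  obtain ⟨Z, p, q, hT⟩ := distinguished_cocone_triangle α
  obtain ⟨K, hK, hKf, ⟨eK⟩⟩ := id hamp
  obtain ⟨⟨a', b', hP'⟩, hPl⟩ := id hP
  have hz : ∀ i : ℤ, i ≠ m → IsZero (DCoh.HD Z i) := fun i hi => by
    rcases lt_or_gt_of_ne hi with h | h
    · refine (DerivedCategory.HomologySequence.exact₃ _ hT i (i + 1) rfl).isZero_of_both_zeros ?_ ?_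
      · exact (isZero_HD_of_vanishes eK i (hK i (Or.inl h))).eq_of_src _ _
      · exact (isZero_HD_of_vanishes (Iso.refl _) (i + 1) (hPm _ (by omega))).eq_of_tgt _ _
    · exact (nq_iff hT (m + 1)).1 hα i (by omega)
  have : Z.IsGE m := (DerivedCategory.isGE_iff Z m).2 fun i hi => hz i (by omega)
  have : Z.IsLE m := (DerivedCategory.isLE_iff Z m).2 fun i hi => hz i (by omega)
  obtain ⟨Q, ⟨e₀⟩⟩ := Z.exists_iso_singleFunctor_obj_of_isGE_of_isLE m
  let e : Z ≅ (DCoh.inD X Q)⟦-m⟧ :=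
    e₀ ≪≫ (((DerivedCategory.singleFunctors X.Modules).shiftIso (-m) m 0 (by omega)).app Q).symm
  let d : Z⟦m⟧ ≅ DCoh.inD X Q := (shiftFunctor (DCoh.D X) m).mapIso e ≪≫
    (shiftFunctorCompIsoId (DCoh.D X) (-m) m (by omega)).app _
  have hZ : DCoh.IsPseudoCoherentD (m - 1) Z :=
    isPC_triangle₃ (m - 1) hT (isPC_of_isPerfect (isPerfect_of_sp hP)) hE
  have hfp : CohB1.IsFP Q := (isPC_negOne_iff Q).1 (isPC_of_iso (isPC_shift hZ m (-1) (by omega)) d)
  have hflat : FlatMod.IsFlat Q := by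
    refine ModGroth.FlatTor.isFlat_of_tor Q fun G => van_iso G d ((ModGroth.Amp.van_shift G Z m (-1) (m - 1) (by omega)).2 ?_)
    refine ModGroth.Amp.van_triangle G hT (m - 1) (ModGroth.Amp.van_of_flatAmp hamp G _ (Or.inl (by omega))) ?_
    refine (ModGroth.Amp.van_iff G (ModGroth.Perf.isKFlat_of_isStrictlyPerfect hP) (Iso.refl _) _).2 ?_
    rw [HomologicalComplex.exactAt_iff]
    exact ShortComplex.exact_of_isZero_X₂ _ ((DCoh.tensorRightMod G).map_isZero (hPm _ (by omega)))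
  refine ⟨Q, p ≫ e.hom, e.inv ≫ q, isFinLocFree_of_isFP_flat hfp hflat, ?_⟩
  exact isomorphic_distinguished _ hT _ (Triangle.isoMk _ _ (Iso.refl _) (Iso.refl _) e.symm
    ((Category.comp_id _).trans (Category.id_comp _).symm) ((Category.assoc _ _ _).trans ((congrArg (p ≫ ·) e.hom_inv_id).trans ((Category.comp_id _).trans (Category.id_comp _).symm)))
    ((congrArg ((e.inv ≫ q) ≫ ·) ((shiftFunctor (DCoh.D X) (1 : ℤ)).map_id _)).trans (Category.comp_id _)))

/-- Pseudo-coherent of finite tor amplitude implies perfect. -/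
theorem isPerfect_of_flatAmp {m b : ℤ} {E : DCoh.D X} (hE : DCoh.IsPseudoCoherentD (m - 1) E)
    (hamp : DCoh.HasFlatAmplitudeIn m b E) : DCoh.IsPerfect E :=
  isPerfect_of_locally fun x => by
    obtain ⟨W, j, hj, w, hw, hs⟩ := (isPC_iff _ E).1 (isPC_mono (n := m + 1) hE (by omega)) x
    obtain ⟨P, α, hP, hPm, hα⟩ := exists_trunc hs
    obtain ⟨Q, g, h, hQ, hT⟩ := exists_split (isPC_restrict hE j) (flatAmp_restrict j hamp) hP hPm α hα
    exact ⟨W, j, hj, w, hw, isPerfect_triangle₂ hT (isPerfect_of_sp hP)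
      (isPerfect_shift (isPerfect_inD_of_finLocFree hQ) _)⟩

/-- Perfect amplitude along an open immersion. -/
def PAOn (m n : ℤ) (K : DCoh.D X) (j : Y ⟶ X) [IsOpenImmersion j] : Prop :=
  ∃ E : CochainComplex Y.Modules ℤ, DCoh.IsStrictlyPerfect E ∧ DCoh.VanishesOutside E m n ∧
    Nonempty (DCoh.toD Y E ≅ (RD j).obj K)

lemma paOn_comp {m n : ℤ} {K : DCoh.D X} {j : Y ⟶ X} [IsOpenImmersion j] (h : PAOn m n K j) {Z : Scheme.{u}}
    (g : Z ⟶ Y) [IsOpenImmersion g] : PAOn m n K (g ≫ j) := by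
  obtain ⟨E, hE, hv, ⟨e⟩⟩ := h
  exact ⟨(rC g).obj E, sp_restrict hE g, fun i hi => (rF g).map_isZero (hv i hi),
    ⟨(RQ g E).symm ≪≫ (RD g).mapIso e ≪≫ ((RDComp g j).app K).symm⟩⟩

lemma paOn_congr {m n : ℤ} {K : DCoh.D X} {j j' : Y ⟶ X} [IsOpenImmersion j] [IsOpenImmersion j'] (e : j = j')
    (h : PAOn m n K j) : PAOn m n K j' := by
  subst e
  exact h

lemma cone_vanishes {S P : CochainComplex X.Modules ℤ} (φ : S ⟶ P) {m n : ℤ} (hmn : m ≤ n)
    (hS : DCoh.VanishesOutside S (m + 1) (m + 1)) (hP : DCoh.VanishesOutside P (m + 1) n) :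
    DCoh.VanishesOutside (CochainComplex.mappingCone φ) m n := fun i hi => by
  have : HasBinaryBiproducts X.Modules := Abelian.hasBinaryBiproducts
  refine IsZero.of_iso ?_ (HomologicalComplex.homotopyCofiber.XIsoBiprod φ i (i + 1) rfl)
  exact (biprod_isZero_iff _ _).2 ⟨hS _ (by omega), hP _ (by omega)⟩

/-- Perfect amplitude from pseudo-coherence and flat amplitude. -/
theorem exists_paOn (k : ℕ) : ∀ {X : Scheme.{u}} (m n : ℤ) (_ : n = m + k) {E : DCoh.D X}
    (_ : DCoh.IsPseudoCoherentD (m - 1) E) (_ : DCoh.HasFlatAmplitudeIn m n E) (x : X),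
    ∃ (W : Scheme.{u}) (j : W ⟶ X) (_ : IsOpenImmersion j) (w : W), j w = x ∧ PAOn m n E j := by
  induction k with
  | zero =>
    intro X m n hmn E hE hamp x
    obtain ⟨K, hK, hKf, ⟨eK⟩⟩ := id hamp
    have : E.IsGE m := (DerivedCategory.isGE_iff E m).2 fun i hi => isZero_HD_of_vanishes eK i (hK i (by omega))
    have : E.IsLE m := (DerivedCategory.isLE_iff E m).2 fun i hi => isZero_HD_of_vanishes eK i (hK i (by omega))
    obtain ⟨Q, ⟨e₀⟩⟩ := E.exists_iso_singleFunctor_obj_of_isGE_of_isLE m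
    let d : E⟦m⟧ ≅ DCoh.inD X Q := (shiftFunctor (DCoh.D X) m).mapIso e₀ ≪≫
      ((DerivedCategory.singleFunctors X.Modules).shiftIso m 0 m (by omega)).app Q
    have hQ : FlatMod.IsFinLocFree Q := isFinLocFree_of_isFP_flat
      ((isPC_negOne_iff Q).1 (isPC_of_iso (isPC_shift hE m (-1) (by omega)) d))
      (ModGroth.FlatTor.isFlat_of_tor Q fun G => van_iso G d ((ModGroth.Amp.van_shift G E m (-1) (m - 1) (by omega)).2
        (ModGroth.Amp.van_of_flatAmp hamp G _ (Or.inl (by omega)))))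
    refine ⟨X, 𝟙 X, inferInstance, x, rfl, (rC (𝟙 X)).obj ((CochainComplex.singleFunctor X.Modules m).obj Q),
      sp_restrict (sp_single hQ m) _, fun i hi => (rF (𝟙 X)).map_isZero
        (HomologicalComplex.isZero_single_obj_X (ComplexShape.up ℤ) m Q i (by omega)), ⟨?_⟩⟩
    exact (RQ (𝟙 X) _).symm ≪≫ (RD (𝟙 X)).mapIso
      (((DerivedCategory.singleFunctorIsoCompQ X.Modules m).app Q).symm ≪≫ e₀.symm)
  | succ k ih =>
    intro X m n hmn E hE hamp x
    obtain ⟨W, j, hj, w, hw, hs⟩ := (isPC_iff _ E).1 (isPC_mono (n := m + 1) hE (by omega)) x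
    obtain ⟨P, α, hP, hPm, hα⟩ := exists_trunc hs
    obtain ⟨Q, g, h, hQ, hT⟩ := exists_split (isPC_restrict hE j) (flatAmp_restrict j hamp) hP hPm α hα
    have hampP : DCoh.HasFlatAmplitudeIn (m + 1) n (DCoh.toD W P) := by
      refine ModGroth.Amp.flatAmp_of_tor (by omega) ((ModGroth.Amp.hasTor_iff _ _ _).2 fun G i hi => ?_)
      rcases hi with hi | hi
      · refine (ModGroth.Amp.van_iff G (ModGroth.Perf.isKFlat_of_isStrictlyPerfect hP) (Iso.refl _) _).2 ?_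
        rw [HomologicalComplex.exactAt_iff]
        exact ShortComplex.exact_of_isZero_X₂ _ ((DCoh.tensorRightMod G).map_isZero (hPm _ hi))
      · refine (ModGroth.Amp.triangle_amp hT G i).2.2
          (ModGroth.Amp.van_of_flatAmp (flatAmp_restrict j hamp) G i (Or.inr hi)) ?_
        exact (ModGroth.Amp.van_shift G _ (-m) (i - 1) (i - 1 - m) (by omega)).2 (ModGroth.Amp.van_of_flatAmp
          (ModGroth.FlatTor.flatAmp_inD Q (ModGroth.Perf.isFlat_of_isFinLocFree hQ)) G _ (Or.inr (by omega)))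
    obtain ⟨W₁, g₁, hg₁, w₁, hw₁, P₁, hP₁, hP₁v, ⟨e₁⟩⟩ :=
      ih (m + 1) n (by omega) (isPC_of_isPerfect (isPerfect_of_sp hP)) hampP w
    let S := (CochainComplex.singleFunctor W.Modules (m + 1)).obj Q
    have hS : DCoh.IsStrictlyPerfect S := sp_single hQ (m + 1)
    let s : DCoh.toD W S ≅ ((DCoh.inD W Q)⟦-m⟧)⟦(-1 : ℤ)⟧ :=
      ((DerivedCategory.singleFunctorIsoCompQ W.Modules (m + 1)).app Q).symm ≪≫
        (((DerivedCategory.singleFunctors W.Modules).shiftIso (-(m + 1)) (m + 1) 0 (by omega)).app Q).symm ≪≫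
          (shiftFunctorAdd' (DCoh.D W) (-m) (-1 : ℤ) (-(m + 1)) (by omega)).app _
    have hT₀ := inv_rot_of_distTriang _ hT
    let T' := Triangle.mk (s.hom ≫ (Triangle.mk α g h).invRotate.mor₁) α
      ((Triangle.mk α g h).invRotate.mor₃ ≫ (shiftFunctor (DCoh.D W) (1 : ℤ)).map s.inv)
    have hT' : T' ∈ distTriang _ := isomorphic_distinguished _ hT₀ _
      (Triangle.isoMk _ _ s (Iso.refl _) (Iso.refl _) ((Category.comp_id _)) ((Category.comp_id _).trans (Category.id_comp _).symm)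
        (by
          refine ((Category.assoc _ _ _).trans (congrArg (fun t => (Triangle.mk α g h).invRotate.mor₃ ≫ t)
            (((shiftFunctor (DCoh.D W) (1 : ℤ)).map_comp _ _).symm.trans ((congrArg
              (shiftFunctor (DCoh.D W) (1 : ℤ)).map s.inv_hom_id).trans ((shiftFunctor (DCoh.D W) (1 : ℤ)).map_id _))))).trans ?_
          exact (Category.comp_id _).trans (Category.id_comp _).symm))
    obtain ⟨W₂, g₂, hg₂, w₂, hw₂, β, hβ⟩ := exists_chain_map (sp_restrict hS g₁)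
      ((RQ g₁ S).inv ≫ (RD g₁).map T'.mor₁ ≫ e₁.inv) w₁
    refine ⟨W₂, g₂ ≫ g₁ ≫ j, inferInstance, w₂,
      by rw [Scheme.Hom.comp_apply, hw₂, Scheme.Hom.comp_apply, hw₁, hw],
      CochainComplex.mappingCone β, sp_cone β (sp_restrict (sp_restrict hS g₁) g₂) (sp_restrict hP₁ g₂),
      cone_vanishes β (by omega) (fun i hi => (rF g₂).map_isZero ((rF g₁).map_isZero
        (HomologicalComplex.isZero_single_obj_X (ComplexShape.up ℤ) (m + 1) Q i (by omega))))
        (fun i hi => (rF g₂).map_isZero (hP₁v i hi)), ⟨?_⟩⟩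
    have hT'' := (RD g₂).map_distinguished _ ((RD g₁).map_distinguished _ hT')
    refine Triangle.π₃.mapIso (isoTriangleOfIso₁₂ _ _ (DerivedCategory.mappingCone_triangle_distinguished β) hT''
      ((RQ g₂ _).symm ≪≫ (RD g₂).mapIso (RQ g₁ S).symm) ((RQ g₂ _).symm ≪≫ (RD g₂).mapIso e₁) ?_) ≪≫
        (RD g₂).mapIso ((RDComp g₁ j).app E).symm ≪≫ ((RDComp g₂ (g₁ ≫ j)).app E).symm
    show DerivedCategory.Q.map β ≫ (RQ g₂ P₁).inv ≫ (RD g₂).map e₁.hom =
      ((RQ g₂ _).inv ≫ (RD g₂).map (RQ g₁ S).inv) ≫ (RD g₂).map ((RD g₁).map T'.mor₁)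
    have h₁ : DerivedCategory.Q.map β ≫ (RQ g₂ P₁).inv = (RQ g₂ ((rC g₁).obj S)).inv ≫
        (RD g₂).map ((RQ g₁ S).inv ≫ (RD g₁).map T'.mor₁ ≫ e₁.inv) := (Iso.eq_inv_comp _).2 hβ.symm
    rw [← Category.assoc, h₁, Category.assoc, Category.assoc]
    congr 1
    rw [← Functor.map_comp, ← Functor.map_comp]
    congr 1
    simp only [Category.assoc]
    exact congrArg (fun t => (RQ g₁ S).inv ≫ t) ((congrArg ((RD g₁).map T'.mor₁ ≫ ·) e₁.inv_hom_id).trans (Category.comp_id _))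

end Groth.Agent.DCohPerf
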