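import Groth.Agent.DCohPerf.Restrict
import Groth.Agent.LocFree.Basic
import Groth.Agent.KFlat.Bounded

/-!
Perfect and pseudo-coherent objects of `D(O_X)`: local criteria, shifts, triangles.
-/

set_option autoImplicit false

universe u

open CategoryTheory CategoryTheory.Limits CategoryTheory.Pretriangulated AlgebraicGeometry TopologicalSpace
  Opposite HomologicalComplex

attribute [local instance] HasDerivedCategory.standard

namespace Groth.Agent.DCohPerf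

variable {X Y Z : Scheme.{u}}

/-- `K` is strictly perfect along `j`. -/
def SPOn (K : DCoh.D X) (j : Y ⟶ X) [IsOpenImmersion j] : Prop :=
  ∃ E : CochainComplex Y.Modules ℤ, DCoh.IsStrictlyPerfect E ∧ Nonempty (DCoh.toD Y E ≅ (RD j).obj K)

/-- `K` is `m`-pseudo-coherent along `j`. -/
def PCOn (m : ℤ) (K : DCoh.D X) (j : Y ⟶ X) [IsOpenImmersion j] : Prop :=
  ∃ (E : CochainComplex Y.Modules ℤ) (α : DCoh.toD Y E ⟶ (RD j).obj K), DCoh.IsStrictlyPerfect E ∧ NQ m α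

lemma spOn_comp {K : DCoh.D X} {j : Y ⟶ X} [IsOpenImmersion j] (h : SPOn K j) (g : Z ⟶ Y) [IsOpenImmersion g] :
    SPOn K (g ≫ j) := by
  obtain ⟨E, hE, ⟨e⟩⟩ := h
  exact ⟨(rC g).obj E, sp_restrict hE g, ⟨(RQ g E).symm ≪≫ (RD g).mapIso e ≪≫ ((RDComp g j).app K).symm⟩⟩

lemma pcOn_comp {m : ℤ} {K : DCoh.D X} {j : Y ⟶ X} [IsOpenImmersion j] (h : PCOn m K j) (g : Z ⟶ Y)
    [IsOpenImmersion g] : PCOn m K (g ≫ j) := by
  obtain ⟨E, α, hE, hα⟩ := h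
  exact ⟨(rC g).obj E, (RQ g E).inv ≫ (RD g).map α ≫ (RDComp g j).inv.app K, sp_restrict hE g,
    (nq_isIso m _).comp ((hα.restrict g).comp (nq_isIso m _))⟩
where
  nq_isIso (m : ℤ) {A B : DCoh.D Z} (f : A ⟶ B) [IsIso f] : NQ m f := nq_of_isIso m f

lemma spOn_congr {K : DCoh.D X} {j j' : Y ⟶ X} [IsOpenImmersion j] [IsOpenImmersion j'] (e : j = j') (h : SPOn K j) :
    SPOn K j' := by
  subst e
  exact h

lemma pcOn_congr {m : ℤ} {K : DCoh.D X} {j j' : Y ⟶ X} [IsOpenImmersion j] [IsOpenImmersion j'] (e : j = j')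
    (h : PCOn m K j) : PCOn m K j' := by
  subst e
  exact h

lemma pcOn_of_spOn {m : ℤ} {K : DCoh.D X} {j : Y ⟶ X} [IsOpenImmersion j] (h : SPOn K j) : PCOn m K j := by
  obtain ⟨E, hE, ⟨e⟩⟩ := h
  exact ⟨E, e.hom, hE, nq_of_isIso m _⟩

/-- The local form of perfectness. -/
lemma isPerfect_iff (K : DCoh.D X) : DCoh.IsPerfect K ↔
    ∀ x : X, ∃ (W : Scheme.{u}) (j : W ⟶ X) (_ : IsOpenImmersion j) (w : W), j w = x ∧ SPOn K j := by
  constructor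
  · intro h x
    obtain ⟨V, hx, hV⟩ := h x
    let F := DerivedCategory.Q.objPreimage K
    let e := DerivedCategory.Q.objObjPreimageIso K
    obtain ⟨E, hE, ⟨f⟩⟩ := hV F ⟨e⟩
    exact ⟨V, V.ι, inferInstance, ⟨x, hx⟩, rfl, E, hE, ⟨f.symm ≪≫ (RQ V.ι F).symm ≪≫ (RD V.ι).mapIso e⟩⟩
  · intro h x
    obtain ⟨W, j, hj, w, hw, hs⟩ := h x
    obtain ⟨hm, i, hi, hij⟩ := exists_opens j w
    obtain ⟨E, hE, ⟨f⟩⟩ := spOn_congr hij (spOn_comp hs i)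
    exact ⟨j.opensRange, hw ▸ hm, fun F ⟨e⟩ =>
      ⟨E, hE, ⟨(RQ _ F).symm ≪≫ (RD _).mapIso e ≪≫ f.symm⟩⟩⟩

/-- The local form of pseudo-coherence. -/
lemma isPC_iff (m : ℤ) (K : DCoh.D X) : DCoh.IsPseudoCoherentD m K ↔
    ∀ x : X, ∃ (W : Scheme.{u}) (j : W ⟶ X) (_ : IsOpenImmersion j) (w : W), j w = x ∧ PCOn m K j := by
  constructor
  · intro h x
    obtain ⟨V, hx, hV⟩ := h x
    let F := DerivedCategory.Q.objPreimage K
    let e := DerivedCategory.Q.objObjPreimageIso K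
    obtain ⟨E, α, hE, hα⟩ := hV F ⟨e⟩
    exact ⟨V, V.ι, inferInstance, ⟨x, hx⟩, rfl, E, α ≫ ((RQ V.ι F).symm ≪≫ (RD V.ι).mapIso e).hom, hE,
      NQ.comp hα (nq_of_isIso m _)⟩
  · intro h x
    obtain ⟨W, j, hj, w, hw, hs⟩ := h x
    obtain ⟨hm, i, hi, hij⟩ := exists_opens j w
    obtain ⟨E, α, hE, hα⟩ := pcOn_congr hij (pcOn_comp hs i)
    refine ⟨j.opensRange, hw ▸ hm, fun F ⟨e⟩ => ?_⟩
    have h' := hα.comp (nq_of_isIso m ((RD _).mapIso e.symm ≪≫ RQ _ F).hom)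
    exact ⟨E, α ≫ ((RD _).mapIso e.symm ≪≫ RQ _ F).hom, hE, h'.1, h'.2⟩

lemma spOn_of_iso {K L : DCoh.D X} {j : Y ⟶ X} [IsOpenImmersion j] (h : SPOn K j) (e : K ≅ L) : SPOn L j := by
  obtain ⟨E, hE, ⟨f⟩⟩ := h
  exact ⟨E, hE, ⟨f ≪≫ (RD j).mapIso e⟩⟩

lemma pcOn_of_nq {m : ℤ} {K L : DCoh.D X} {j : Y ⟶ X} [IsOpenImmersion j] (h : PCOn m K j) (f : K ⟶ L) (hf : NQ m f) :
    PCOn m L j := by
  obtain ⟨E, α, hE, hα⟩ := h
  exact ⟨E, α ≫ (RD j).map f, hE, hα.comp (hf.restrict j)⟩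

lemma isPerfect_of_iso {K L : DCoh.D X} (h : DCoh.IsPerfect K) (e : K ≅ L) : DCoh.IsPerfect L :=
  (isPerfect_iff L).2 fun x =>
    let ⟨W, j, hj, w, hw, hs⟩ := (isPerfect_iff K).1 h x
    ⟨W, j, hj, w, hw, spOn_of_iso hs e⟩

lemma isPC_of_nq {m : ℤ} {K L : DCoh.D X} (h : DCoh.IsPseudoCoherentD m K) (f : K ⟶ L) (hf : NQ m f) :
    DCoh.IsPseudoCoherentD m L :=
  (isPC_iff m L).2 fun x =>
    let ⟨W, j, hj, w, hw, hs⟩ := (isPC_iff m K).1 h x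
    ⟨W, j, hj, w, hw, pcOn_of_nq hs f hf⟩

lemma isPC_of_iso {m : ℤ} {K L : DCoh.D X} (h : DCoh.IsPseudoCoherentD m K) (e : K ≅ L) :
    DCoh.IsPseudoCoherentD m L := isPC_of_nq h e.hom (nq_of_isIso m _)

lemma isPC_of_isPerfect {m : ℤ} {K : DCoh.D X} (h : DCoh.IsPerfect K) : DCoh.IsPseudoCoherentD m K :=
  (isPC_iff m K).2 fun x =>
    let ⟨W, j, hj, w, hw, hs⟩ := (isPerfect_iff K).1 h x
    ⟨W, j, hj, w, hw, pcOn_of_spOn hs⟩

lemma sp_shift {E : CochainComplex X.Modules ℤ} (hE : DCoh.IsStrictlyPerfect E) (k : ℤ) :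
    DCoh.IsStrictlyPerfect (E⟦k⟧) := by
  obtain ⟨⟨a, b, hz⟩, hfl⟩ := hE
  exact ⟨⟨a - k, b - k, fun i hi => hz (i + k) (by omega)⟩, fun i => hfl (i + k)⟩

lemma isPerfect_shift {K : DCoh.D X} (h : DCoh.IsPerfect K) (k : ℤ) : DCoh.IsPerfect (K⟦k⟧) :=
  (isPerfect_iff _).2 fun x => by
    obtain ⟨W, j, hj, w, hw, E, hE, ⟨e⟩⟩ := (isPerfect_iff K).1 h x
    exact ⟨W, j, hj, w, hw, E⟦k⟧, sp_shift hE k, ⟨(DerivedCategory.Q.commShiftIso k).app E ≪≫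
      (shiftFunctor (DCoh.D W) k).mapIso e ≪≫ ((RD j).commShiftIso k).symm.app K⟩⟩

lemma isPC_shift {m : ℤ} {K : DCoh.D X} (h : DCoh.IsPseudoCoherentD m K) (k m' : ℤ) (hm : m' + k = m) :
    DCoh.IsPseudoCoherentD m' (K⟦k⟧) :=
  (isPC_iff _ _).2 fun x => by
    obtain ⟨W, j, hj, w, hw, E, α, hE, hα⟩ := (isPC_iff m K).1 h x
    exact ⟨W, j, hj, w, hw, E⟦k⟧,
      (DerivedCategory.Q.commShiftIso k).hom.app E ≫ α⟦k⟧' ≫ ((RD j).commShiftIso k).inv.app K, sp_shift hE k,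
      (nq_of_isIso m' _).comp ((hα.shift k m' hm).comp (nq_of_isIso m' _))⟩

lemma sp_cone {E F : CochainComplex X.Modules ℤ} (φ : E ⟶ F) (hE : DCoh.IsStrictlyPerfect E)
    (hF : DCoh.IsStrictlyPerfect F) : DCoh.IsStrictlyPerfect (CochainComplex.mappingCone φ) := by
  obtain ⟨⟨a, b, hz⟩, hl⟩ := hE
  obtain ⟨⟨a', b', hz'⟩, hl'⟩ := hF
  have : HasBinaryBiproducts X.Modules := Abelian.hasBinaryBiproducts
  refine ⟨⟨min (a - 1) a', max (b - 1) b', fun i hi => ?_⟩, fun i => ?_⟩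
  · refine IsZero.of_iso ?_ (HomologicalComplex.homotopyCofiber.XIsoBiprod φ i (i + 1) rfl)
    exact (biprod_isZero_iff _ _).2 ⟨hz _ (by omega), hz' _ (by omega)⟩
  · exact LocFree.IsFinLocFree.of_iso (HomologicalComplex.homotopyCofiber.XIsoBiprod φ i (i + 1) rfl).symm
      (LocFree.IsFinLocFree.biprod (hl _) (hl' _))

lemma exists_common {W₁ W₂ : Scheme.{u}} (j₁ : W₁ ⟶ X) [IsOpenImmersion j₁] (w₁ : W₁) {x : X} (hw₁ : j₁ w₁ = x)
    (j₂ : W₂ ⟶ X) [IsOpenImmersion j₂] (w₂ : W₂) (hw₂ : j₂ w₂ = x) :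
    ∃ (W : Scheme.{u}) (p₁ : W ⟶ W₁) (_ : IsOpenImmersion p₁) (p₂ : W ⟶ W₂) (_ : IsOpenImmersion p₂) (w : W),
      (p₁ ≫ j₁) w = x ∧ p₁ ≫ j₁ = p₂ ≫ j₂ := by
  obtain ⟨w, h₁, -⟩ := Scheme.Pullback.exists_preimage_pullback w₁ w₂ (hw₁.trans hw₂.symm)
  exact ⟨pullback j₁ j₂, pullback.fst _ _, inferInstance, pullback.snd _ _, inferInstance, w,
    by rw [Scheme.Hom.comp_apply, h₁, hw₁], pullback.condition⟩

/-- Two-out-of-three for perfect objects, main case. -/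
theorem isPerfect_triangle₃ {T : Triangle (DCoh.D X)} (hT : T ∈ distTriang _) (h₁ : DCoh.IsPerfect T.obj₁)
    (h₂ : DCoh.IsPerfect T.obj₂) : DCoh.IsPerfect T.obj₃ := by
  refine (isPerfect_iff _).2 fun x => ?_
  obtain ⟨W₁, j₁, _, w₁, hw₁, hs₁⟩ := (isPerfect_iff _).1 h₁ x
  obtain ⟨W₂, j₂, _, w₂, hw₂, hs₂⟩ := (isPerfect_iff _).1 h₂ x
  obtain ⟨W, p₁, hp₁, p₂, hp₂, w, hw, hc⟩ := exists_common j₁ w₁ hw₁ j₂ w₂ hw₂
  obtain ⟨E₁, hE₁, ⟨e₁⟩⟩ := spOn_comp hs₁ p₁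
  obtain ⟨E₂, hE₂, ⟨e₂⟩⟩ := spOn_congr hc.symm (spOn_comp hs₂ p₂)
  set j := p₁ ≫ j₁
  obtain ⟨W', g, hg, w', hw', β, hβ⟩ := exists_chain_map hE₁ (e₁.hom ≫ (RD j).map T.mor₁ ≫ e₂.inv) w
  refine ⟨W', g ≫ j, inferInstance, w', by rw [Scheme.Hom.comp_apply, hw', hw], CochainComplex.mappingCone β,
    sp_cone β (sp_restrict hE₁ g) (sp_restrict hE₂ g), ?_⟩
  have hT' := (RD g).map_distinguished _ ((RD j).map_distinguished _ hT)
  have hc' := DerivedCategory.mappingCone_triangle_distinguished β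
  refine ⟨Triangle.π₃.mapIso (isoTriangleOfIso₁₂ _ _ hc' hT' ((RQ g E₁).symm ≪≫ (RD g).mapIso e₁)
    ((RQ g E₂).symm ≪≫ (RD g).mapIso e₂) ?_) ≪≫ ((RDComp g j).app T.obj₃).symm⟩
  show DerivedCategory.Q.map β ≫ (RQ g E₂).inv ≫ (RD g).map e₂.hom =
    ((RQ g E₁).inv ≫ (RD g).map e₁.hom) ≫ (RD g).map ((RD j).map T.mor₁)
  have h : DerivedCategory.Q.map β = (RQ g E₁).inv ≫ (RD g).map (e₁.hom ≫ (RD j).map T.mor₁ ≫ e₂.inv) ≫ (RQ g E₂).hom := by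
    rw [hβ]
    simp
  rw [h]
  simp only [Category.assoc, Iso.hom_inv_id_assoc, Functor.map_comp]
  rw [← (RD g).map_comp e₂.inv, e₂.inv_hom_id, (RD g).map_id, Category.comp_id]

lemma isPerfect_triangle₂ {T : Triangle (DCoh.D X)} (hT : T ∈ distTriang _) (h₁ : DCoh.IsPerfect T.obj₁)
    (h₃ : DCoh.IsPerfect T.obj₃) : DCoh.IsPerfect T.obj₂ :=
  isPerfect_triangle₃ (inv_rot_of_distTriang _ hT) (isPerfect_shift h₃ (-1)) h₁

lemma isPerfect_triangle₁ {T : Triangle (DCoh.D X)} (hT : T ∈ distTriang _) (h₂ : DCoh.IsPerfect T.obj₂)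
    (h₃ : DCoh.IsPerfect T.obj₃) : DCoh.IsPerfect T.obj₁ :=
  isPerfect_of_iso (isPerfect_shift (isPerfect_triangle₃ (rot_of_distTriang _ hT) h₂ h₃) (-1))
    ((shiftFunctorCompIsoId (DCoh.D X) (1 : ℤ) (-1) (by omega)).app _)

lemma sp_trunc {E : CochainComplex X.Modules ℤ} (hE : DCoh.IsStrictlyPerfect E) (m : ℤ) :
    DCoh.IsStrictlyPerfect (KFlat.Stupid.trunc E m) := by
  obtain ⟨⟨a, b, hz⟩, hfl⟩ := hE
  refine ⟨⟨a, b, fun i hi => ?_⟩, fun i => ?_⟩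
  · by_cases h : m ≤ i
    · have := KFlat.Stupid.isIso_ι E h
      exact (hz i hi).of_iso (asIso ((KFlat.Stupid.incl E m).f i))
    · exact KFlat.Stupid.isZero_X E (by omega)
  · by_cases h : m ≤ i
    · have := KFlat.Stupid.isIso_ι E h
      exact LocFree.IsFinLocFree.of_iso (asIso ((KFlat.Stupid.incl E m).f i)).symm (hfl i)
    · intro x
      refine ⟨⊤, 0, Opens.mem_top x, ⟨IsZero.iso ((Scheme.Modules.restrictFunctor _).map_isZero (KFlat.Stupid.isZero_X E (by omega))) ?_⟩⟩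
      exact (IsZero.iff_id_eq_zero _).2 (Sigma.hom_ext _ _ fun i => i.elim0)

/-- Replace the source of a pseudo-coherence map by one vanishing below `m`. -/
lemma exists_trunc {m : ℤ} {K : DCoh.D X} {j : Y ⟶ X} [IsOpenImmersion j] (h : PCOn m K j) :
    ∃ (E : CochainComplex Y.Modules ℤ) (α : DCoh.toD Y E ⟶ (RD j).obj K),
      DCoh.IsStrictlyPerfect E ∧ (∀ i, i < m → IsZero (E.X i)) ∧ NQ m α := by
  obtain ⟨E, α, ⟨⟨a, b, hz⟩, hfl⟩, hα⟩ := h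
  let E' := KFlat.Stupid.trunc E m
  let ι := KFlat.Stupid.incl E m
  have hsp : DCoh.IsStrictlyPerfect E' := sp_trunc ⟨⟨a, b, hz⟩, hfl⟩ m
  refine ⟨E', DerivedCategory.Q.map ι ≫ α, hsp, fun i hi => KFlat.Stupid.isZero_X E hi, NQ.comp ?_ hα⟩
  have hiso : ∀ i, m ≤ i → IsIso (ι.f i) := fun i hi => KFlat.Stupid.isIso_ι E hi
  refine ⟨fun i hi => ?_, ?_⟩
  · have h1 : IsIso (ι.f ((ComplexShape.up ℤ).prev i)) := hiso _ (by simp; omega)
    have h2 : IsIso (ι.f i) := hiso _ hi.le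
    have h3 : IsIso (ι.f ((ComplexShape.up ℤ).next i)) := hiso _ (by simp; omega)
    have : IsIso (homologyMap ι i) :=
      ShortComplex.isIso_homologyMap_of_epi_of_isIso_of_mono' _ (inferInstanceAs (Epi (ι.f _)))
        (inferInstanceAs (IsIso (ι.f _))) (inferInstanceAs (Mono (ι.f _)))
    exact (NatIso.isIso_map_iff (DerivedCategory.homologyFunctorFactors Y.Modules i) ι).2 this
  · have : IsIso (ι.f m) := hiso m le_rfl
    have : IsIso (ι.f (m + 1)) := hiso _ (by omega)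
    have : Epi (cyclesMap ι m) := by
      refine ⟨fun {T} u v huv => ?_⟩
      let l : E.cycles m ⟶ E'.cycles m := E'.liftCycles (E.iCycles m ≫ inv (ι.f m)) (m + 1) (by simp) (by
        rw [← cancel_mono (ι.f (m + 1)), zero_comp, Category.assoc, Category.assoc, ← ι.comm m (m + 1),
          IsIso.inv_hom_id_assoc, HomologicalComplex.iCycles_d])
      have hl : l ≫ cyclesMap ι m = 𝟙 _ := by
        rw [← cancel_mono (E.iCycles m)]
        simp [l]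
      simpa [reassoc_of% hl] using congrArg (fun t => l ≫ t) huv
    have : Epi (homologyMap ι m) := by
      have : Epi (E'.homologyπ m ≫ homologyMap ι m) := by
        rw [homologyπ_naturality]
        exact epi_comp _ _
      exact epi_of_epi (E'.homologyπ m) _
    exact ((MorphismProperty.epimorphisms Y.Modules).arrow_mk_iso_iff
      (Arrow.isoMk ((DerivedCategory.homologyFunctorFactors Y.Modules m).app E')
        ((DerivedCategory.homologyFunctorFactors Y.Modules m).app E)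
        ((DerivedCategory.homologyFunctorFactors Y.Modules m).hom.naturality ι).symm)).2 this

/-- Two-out-of-three for pseudo-coherent objects, main case. -/
theorem isPC_triangle₃ (m : ℤ) {T : Triangle (DCoh.D X)} (hT : T ∈ distTriang _)
    (h₁ : DCoh.IsPseudoCoherentD (m + 1) T.obj₁) (h₂ : DCoh.IsPseudoCoherentD m T.obj₂) :
    DCoh.IsPseudoCoherentD m T.obj₃ := by
  refine (isPC_iff _ _).2 fun x => ?_
  obtain ⟨W₁, j₁, _, w₁, hw₁, hs₁⟩ := (isPC_iff _ _).1 h₁ x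
  obtain ⟨W₂, j₂, _, w₂, hw₂, hs₂⟩ := (isPC_iff _ _).1 h₂ x
  obtain ⟨W, p₁, hp₁, p₂, hp₂, w, hw, hc⟩ := exists_common j₁ w₁ hw₁ j₂ w₂ hw₂
  obtain ⟨E₁, α₁, hE₁, hE₁m, hα₁⟩ := exists_trunc (pcOn_comp hs₁ p₁)
  obtain ⟨E₂, α₂, hE₂, hα₂⟩ := pcOn_congr hc.symm (pcOn_comp hs₂ p₂)
  set j := p₁ ≫ j₁
  obtain ⟨W', g, hg, w', hw', ψ, hψ⟩ := exists_factor hE₁ m (fun i hi => hE₁m i (by omega)) α₂ hα₂
    (α₁ ≫ (RD j).map T.mor₁) w
  obtain ⟨W'', g', hg', w'', hw'', β, hβ⟩ := exists_chain_map (sp_restrict hE₁ g)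
    ((RQ g E₁).inv ≫ ψ ≫ (RQ g E₂).hom) w'
  refine ⟨W'', g' ≫ g ≫ j, inferInstance, w'', by rw [Scheme.Hom.comp_apply, hw'', Scheme.Hom.comp_apply, hw', hw], CochainComplex.mappingCone β, ?_⟩
  have hT' := (RD g').map_distinguished _ ((RD g).map_distinguished _ ((RD j).map_distinguished _ hT))
  let a := (RQ g' _).inv ≫ (RD g').map ((RQ g E₁).inv ≫ (RD g).map α₁)
  let b := (RQ g' _).inv ≫ (RD g').map ((RQ g E₂).inv ≫ (RD g).map α₂)
  have ha : NQ (m + 1) a :=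
    (nq_of_isIso _ _).comp (((nq_of_isIso _ _).comp (hα₁.restrict g)).restrict g')
  have hb : NQ m b :=
    (nq_of_isIso _ _).comp (((nq_of_isIso _ _).comp (hα₂.restrict g)).restrict g')
  obtain ⟨γ, hγ⟩ := exists_nq_third hT' m a b ha hb (DerivedCategory.Q.map β)
    (by
      show DerivedCategory.Q.map β ≫ b = a ≫ (RD g').map ((RD g).map ((RD j).map T.mor₁))
      have h : DerivedCategory.Q.map β = (RQ g' _).inv ≫ (RD g').map ((RQ g E₁).inv ≫ ψ ≫ (RQ g E₂).hom) ≫ (RQ g' _).hom := by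
        rw [hβ]
        simp
      rw [h]
      simp only [a, b, Category.assoc, Iso.hom_inv_id_assoc, ← Functor.map_comp, hψ])
    _ _ (DerivedCategory.mappingCone_triangle_distinguished β)
  exact ⟨γ ≫ (RD g').map ((RDComp g j).inv.app T.obj₃) ≫ (RDComp g' (g ≫ j)).inv.app T.obj₃,
    sp_cone β (sp_restrict (sp_restrict hE₁ g) g') (sp_restrict (sp_restrict hE₂ g) g'),
    hγ.comp ((nq_of_isIso m ((RD g').mapIso ((RDComp g j).app T.obj₃).symm).hom).comp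
      (nq_of_isIso m ((RDComp g' (g ≫ j)).app T.obj₃).symm.hom))⟩

lemma isPC_triangle₂ (m : ℤ) {T : Triangle (DCoh.D X)} (hT : T ∈ distTriang _)
    (h₁ : DCoh.IsPseudoCoherentD m T.obj₁) (h₃ : DCoh.IsPseudoCoherentD m T.obj₃) :
    DCoh.IsPseudoCoherentD m T.obj₂ :=
  isPC_triangle₃ m (inv_rot_of_distTriang _ hT) (isPC_shift h₃ (-1) (m + 1) (by omega)) h₁

lemma isPC_triangle₁ (m : ℤ) {T : Triangle (DCoh.D X)} (hT : T ∈ distTriang _)
    (h₂ : DCoh.IsPseudoCoherentD (m + 1) T.obj₂) (h₃ : DCoh.IsPseudoCoherentD m T.obj₃) :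
    DCoh.IsPseudoCoherentD (m + 1) T.obj₁ :=
  isPC_of_iso (isPC_shift (isPC_triangle₃ m (rot_of_distTriang _ hT) h₂ h₃) (-1) (m + 1) (by omega))
    ((shiftFunctorCompIsoId (DCoh.D X) (1 : ℤ) (-1) (by omega)).app _)

end Groth.Agent.DCohPerf
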