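import Groth.Agent.DCohPerf.Roof
import Groth.Agent.DCohPerf.NQ

/-!
Restriction `D(O_X) ⥤ D(O_U)` along open immersions: composition, cohomology, strictly perfect complexes.
-/

set_option autoImplicit false

universe u

open CategoryTheory CategoryTheory.Limits CategoryTheory.Pretriangulated AlgebraicGeometry TopologicalSpace
  Opposite HomologicalComplex

attribute [local instance] HasDerivedCategory.standard

namespace Groth.Agent.DCohPerf

variable {X Y Z : Scheme.{u}}

/-- Restriction on derived categories. -/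
noncomputable abbrev RD (j : Y ⟶ X) [IsOpenImmersion j] : DCoh.D X ⥤ DCoh.D Y := (rF j).mapDerivedCategory

/-- Restriction of a complex, in the derived category. -/
noncomputable def RQ (j : Y ⟶ X) [IsOpenImmersion j] (F : CochainComplex X.Modules ℤ) :
    (RD j).obj (DCoh.toD X F) ≅ DCoh.toD Y ((rC j).obj F) :=
  (rF j).mapDerivedCategoryFactors.app F

lemma RQ_natural (j : Y ⟶ X) [IsOpenImmersion j] {F G : CochainComplex X.Modules ℤ} (f : F ⟶ G) :
    (RD j).map (DerivedCategory.Q.map f) ≫ (RQ j G).hom = (RQ j F).hom ≫ DerivedCategory.Q.map ((rC j).map f) :=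
  (rF j).mapDerivedCategoryFactors.hom.naturality f

/-- Restricting twice. -/
noncomputable def RDComp (g : Z ⟶ Y) (f : Y ⟶ X) [IsOpenImmersion g] [IsOpenImmersion f] :
    RD (g ≫ f) ≅ RD f ⋙ RD g :=
  letI : Localization.Lifting DerivedCategory.Q (HomologicalComplex.quasiIso X.Modules (ComplexShape.up ℤ))
      (rC f ⋙ rC g ⋙ DerivedCategory.Q) (RD f ⋙ RD g) :=
    ⟨(Functor.associator _ _ _).symm ≪≫ Functor.isoWhiskerRight (rF f).mapDerivedCategoryFactors (RD g) ≪≫
      Functor.associator _ _ _ ≪≫ Functor.isoWhiskerLeft (rC f) (rF g).mapDerivedCategoryFactors⟩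
  Localization.liftNatIso DerivedCategory.Q (HomologicalComplex.quasiIso X.Modules (ComplexShape.up ℤ))
    (rC (g ≫ f) ⋙ DerivedCategory.Q) (rC f ⋙ rC g ⋙ DerivedCategory.Q) (RD (g ≫ f)) (RD f ⋙ RD g)
    (Functor.isoWhiskerRight (rCComp g f) DerivedCategory.Q)

/-- Restricting along equal maps. -/
noncomputable def RDCongr {f g : Y ⟶ X} [IsOpenImmersion f] [IsOpenImmersion g] (h : f = g) : RD f ≅ RD g :=
  Localization.liftNatIso DerivedCategory.Q (HomologicalComplex.quasiIso X.Modules (ComplexShape.up ℤ))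
    (rC f ⋙ DerivedCategory.Q) (rC g ⋙ DerivedCategory.Q) (RD f) (RD g)
    (Functor.isoWhiskerRight (rCCongr h) DerivedCategory.Q)

lemma homology_restrict (j : Y ⟶ X) [IsOpenImmersion j] (K : DCoh.D X) (i : ℤ) :
    Nonempty (DCoh.HD ((RD j).obj K) i ≅ (rF j).obj (DCoh.HD K i)) := by
  let F := DerivedCategory.Q.objPreimage K
  refine ⟨(DerivedCategory.homologyFunctor Y.Modules i).mapIso ((RD j).mapIso (DerivedCategory.Q.objObjPreimageIso K).symm ≪≫
    RQ j F) ≪≫ (DerivedCategory.homologyFunctorFactors Y.Modules i).app _ ≪≫ (F.sc i).mapHomologyIso (rF j) ≪≫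
      (rF j).mapIso ((DerivedCategory.homologyFunctorFactors X.Modules i).symm.app F ≪≫
        (DerivedCategory.homologyFunctor X.Modules i).mapIso (DerivedCategory.Q.objObjPreimageIso K))⟩

lemma isZero_homology_restrict (j : Y ⟶ X) [IsOpenImmersion j] (K : DCoh.D X) (i : ℤ) (h : IsZero (DCoh.HD K i)) :
    IsZero (DCoh.HD ((RD j).obj K) i) :=
  ((rF j).map_isZero h).of_iso (homology_restrict j K i).some

lemma NQ.restrict {m : ℤ} {K L : DCoh.D X} {f : K ⟶ L} (h : NQ m f) (j : Y ⟶ X) [IsOpenImmersion j] :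
    NQ m ((RD j).map f) := by
  obtain ⟨C, p, q, hC⟩ := distinguished_cocone_triangle f
  exact (nq_iff ((RD j).map_distinguished _ hC) m).2 fun i hi =>
    isZero_homology_restrict j C i ((nq_iff hC m).1 h i hi)

lemma sp_restrict {E : CochainComplex X.Modules ℤ} (h : DCoh.IsStrictlyPerfect E) (j : Y ⟶ X) [IsOpenImmersion j] :
    DCoh.IsStrictlyPerfect ((rC j).obj E) := by
  obtain ⟨⟨a, b, hz⟩, hfl⟩ := h
  exact ⟨⟨a, b, fun i hi => (rF j).map_isZero (hz i hi)⟩, fun i => isFinLocFree_restrict (hfl i) j⟩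

/-- A map out of a strictly perfect complex is locally a map of complexes, on an open immersion. -/
lemma exists_chain_map {E F : CochainComplex X.Modules ℤ} (hE : DCoh.IsStrictlyPerfect E)
    (α : DCoh.toD X E ⟶ DCoh.toD X F) (x : X) :
    ∃ (W : Scheme.{u}) (j : W ⟶ X) (_ : IsOpenImmersion j) (w : W), j w = x ∧
      ∃ β : (rC j).obj E ⟶ (rC j).obj F, (RD j).map α = (RQ j E).hom ≫ DerivedCategory.Q.map β ≫ (RQ j F).inv := by
  obtain ⟨V, hx, hV⟩ := exists_represented hE α x
  obtain ⟨β, hβ⟩ := hV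
  exact ⟨V, V.ι, inferInstance, ⟨x, hx⟩, rfl, β, hβ⟩

/-- A map from a strictly perfect complex to an object without cohomology in its range is locally zero. -/
lemma exists_zero {E : CochainComplex X.Modules ℤ} (hE : DCoh.IsStrictlyPerfect E) (a : ℤ)
    (hEa : ∀ i, i < a → IsZero (E.X i)) (K : DCoh.D X) (hK : ∀ i, a ≤ i → IsZero (DCoh.HD K i))
    (α : DCoh.toD X E ⟶ K) (x : X) :
    ∃ (W : Scheme.{u}) (j : W ⟶ X) (_ : IsOpenImmersion j) (w : W), j w = x ∧ (RD j).map α = 0 := by
  let F := DerivedCategory.Q.objPreimage K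
  let e := DerivedCategory.Q.objObjPreimageIso K
  obtain ⟨W, j, hj, w, hw, β, hβ⟩ := exists_chain_map (F := F) hE (α ≫ e.inv) x
  have hF : ∀ i, a ≤ i → ((rC j).obj F).ExactAt i := fun i hi => by
    have : F.ExactAt i := (F.exactAt_iff_isZero_homology i).2
      ((hK i hi).of_iso ((DerivedCategory.homologyFunctorFactors X.Modules i).symm.app F ≪≫
        (DerivedCategory.homologyFunctor X.Modules i).mapIso e))
    exact ShortComplex.Exact.map this (rF j)
  obtain ⟨W', g, hg, w', hw', ⟨H⟩⟩ := exists_null β (sp_restrict hE j) a (fun i hi => (rF j).map_isZero (hEa i hi)) hF w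
  refine ⟨W', g ≫ j, inferInstance, w', by simp [hw', hw], ?_⟩
  have h1 : (RD g).map (DerivedCategory.Q.map β) = 0 := by
    rw [← cancel_mono (RQ g ((rC j).obj F)).hom, RQ_natural, Q_map_homotopic H]
    simp
  have h2 : (RD g).map ((RD j).map (α ≫ e.inv)) = 0 := by
    rw [hβ, Functor.map_comp, Functor.map_comp, h1, zero_comp, comp_zero]
  have h3 : (RD (g ≫ j)).map (α ≫ e.inv) = 0 := by
    rw [← cancel_mono ((RDComp g j).hom.app _), (RDComp g j).hom.naturality, Functor.comp_map, h2, comp_zero, zero_comp]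
  rw [Functor.map_comp] at h3
  exact (cancel_mono ((RD (g ≫ j)).map e.inv)).1 (h3.trans zero_comp.symm)

/-- Lifting through an `m`-quasi-isomorphism, locally. -/
lemma exists_factor {E : CochainComplex X.Modules ℤ} (hE : DCoh.IsStrictlyPerfect E) (m : ℤ)
    (hEm : ∀ i, i < m → IsZero (E.X i)) {G L : DCoh.D X} (γ : G ⟶ L) (hγ : NQ m γ) (φ : DCoh.toD X E ⟶ L) (x : X) :
    ∃ (W : Scheme.{u}) (j : W ⟶ X) (_ : IsOpenImmersion j) (w : W), j w = x ∧
      ∃ ψ : (RD j).obj (DCoh.toD X E) ⟶ (RD j).obj G, ψ ≫ (RD j).map γ = (RD j).map φ := by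
  obtain ⟨C, p, q, hC⟩ := distinguished_cocone_triangle γ
  obtain ⟨W, j, hj, w, hw, h0⟩ := exists_zero hE m hEm C (fun i hi => (nq_iff hC m).1 hγ i hi) (φ ≫ p) x
  rw [Functor.map_comp] at h0
  obtain ⟨ψ, hψ⟩ := Triangle.coyoneda_exact₂ _ ((RD j).map_distinguished _ hC) ((RD j).map φ) h0
  exact ⟨W, j, hj, w, hw, ψ, hψ.symm⟩

end Groth.Agent.DCohPerf
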