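import Groth.Agent.DCohPerf.Null
import Groth.Prelude.Def_DCoh3
import Mathlib.Algebra.Homology.DerivedCategory.Fractions

/-!
Maps in `D(O_X)` out of strictly perfect complexes are locally maps of complexes.
-/

set_option autoImplicit false

universe u

open CategoryTheory CategoryTheory.Limits CategoryTheory.Pretriangulated AlgebraicGeometry TopologicalSpace
  Opposite HomologicalComplex

attribute [local instance] HasDerivedCategory.standard

namespace Groth.Agent.DCohPerf

variable {X : Scheme.{u}}

/-- S0932. -/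
theorem exists_null_opens {E F : CochainComplex X.Modules ℤ} (α : E ⟶ F) (hE : DCoh.IsStrictlyPerfect E) (a : ℤ)
    (hEa : ∀ i, i < a → IsZero (E.X i)) (hF : ∀ i, a ≤ i → IsZero (F.homology i)) (x : X) :
    ∃ V : X.Opens, x ∈ V ∧ Nonempty (Homotopy ((DCoh.restrictCx V).map α) 0) := by
  obtain ⟨W, j, hj, w, hw, ⟨H⟩⟩ := exists_null α hE a hEa
    (fun i hi => (F.exactAt_iff_isZero_homology i).2 (hF i hi)) x
  exact exists_opens_null α j w hw H

lemma exactAt_mappingCone {G F : CochainComplex X.Modules ℤ} (f : G ⟶ F) (a : ℤ)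
    (hf : ∀ j, a < j → IsIso (homologyMap f j)) (hfa : Epi (homologyMap f a)) (i : ℤ) (hi : a ≤ i) :
    IsZero ((CochainComplex.mappingCone f).homology i) := by
  have hT := DerivedCategory.mappingCone_triangle_distinguished f
  have h₁ : Epi ((DerivedCategory.homologyFunctor X.Modules i).map (DerivedCategory.Q.map f)) := by
    have : Epi (homologyMap f i) := by
      rcases hi.eq_or_lt with rfl | h
      · exact hfa
      · have := hf i h; infer_instance
    exact ((MorphismProperty.epimorphisms X.Modules).arrow_mk_iso_iff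
      (Arrow.isoMk ((DerivedCategory.homologyFunctorFactors X.Modules i).app G)
        ((DerivedCategory.homologyFunctorFactors X.Modules i).app F)
        ((DerivedCategory.homologyFunctorFactors X.Modules i).hom.naturality f).symm)).2 this
  have h₂ : Mono ((DerivedCategory.homologyFunctor X.Modules (i + 1)).map (DerivedCategory.Q.map f)) := by
    have := hf (i + 1) (by omega)
    have h3 : IsIso ((DerivedCategory.Q ⋙ DerivedCategory.homologyFunctor X.Modules (i + 1)).map f) :=
      (NatIso.isIso_map_iff (DerivedCategory.homologyFunctorFactors X.Modules (i + 1)) f).2 this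
    exact @IsIso.mono_of_iso _ _ _ _ _ h3
  refine IsZero.of_iso ?_ ((DerivedCategory.homologyFunctorFactors X.Modules i).app (CochainComplex.mappingCone f)).symm
  exact (DerivedCategory.HomologySequence.exact₃ _ hT i (i + 1) rfl).isZero_X₂
    ((DerivedCategory.HomologySequence.epi_homologyMap_mor₁_iff _ hT i).1 h₁)
    ((DerivedCategory.HomologySequence.mono_homologyMap_mor₁_iff _ hT i (i + 1) rfl).1 h₂)

/-- S0933. -/
theorem exists_lift {E F G : CochainComplex X.Modules ℤ} (α : E ⟶ F) (f : G ⟶ F) (hE : DCoh.IsStrictlyPerfect E)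
    (a : ℤ) (hEa : ∀ j : ℤ, j < a → IsZero (E.X j)) (hf : ∀ j : ℤ, a < j → IsIso (homologyMap f j))
    (hfa : Epi (homologyMap f a)) (x : X) :
    ∃ (V : X.Opens) (β : (DCoh.restrictCx V).obj E ⟶ (DCoh.restrictCx V).obj G), x ∈ V ∧
      Nonempty (Homotopy (β ≫ (DCoh.restrictCx V).map f) ((DCoh.restrictCx V).map α)) := by
  obtain ⟨V, hx, ⟨H⟩⟩ := exists_null_opens (α ≫ CochainComplex.mappingCone.inr f) hE a hEa
    (exactAt_mappingCone f a hf hfa) x
  let R := DCoh.restrictCx V
  let q := HomotopyCategory.quotient (V : Scheme.{u}).Modules (ComplexShape.up ℤ)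
  let G' := (res V).mapHomotopyCategory (ComplexShape.up ℤ)
  have hT := G'.map_distinguished _ (HomotopyCategory.mappingCone_triangleh_distinguished f)
  obtain ⟨b, hb⟩ := Triangle.coyoneda_exact₂ _ hT (q.map (R.map α)) (by
    show q.map (R.map α) ≫ q.map (R.map (CochainComplex.mappingCone.inr f)) = 0
    rw [← q.map_comp, ← R.map_comp, HomotopyCategory.eq_of_homotopy _ _ H, q.map_zero])
  obtain ⟨β, hβ⟩ := q.map_surjective b
  refine ⟨V, β, hx, ⟨HomotopyCategory.homotopyOfEq _ _ ?_⟩⟩
  rw [Functor.map_comp]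
  exact (congrArg (fun t => t ≫ q.map (R.map f)) hβ).trans hb.symm

lemma Q_map_homotopic {C : Type*} [Category C] [Abelian C] [HasDerivedCategory C] {K L : CochainComplex C ℤ}
    {f g : K ⟶ L} (H : Homotopy f g) : (DerivedCategory.Q.map f : DerivedCategory.Q.obj K ⟶ _) = DerivedCategory.Q.map g := by
  rw [← cancel_epi ((DerivedCategory.quotientCompQhIso C).hom.app K),
    ← (DerivedCategory.quotientCompQhIso C).hom.naturality f, ← (DerivedCategory.quotientCompQhIso C).hom.naturality g,
    Functor.comp_map, Functor.comp_map, HomotopyCategory.eq_of_homotopy _ _ H]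

/-- S0944. -/
theorem exists_represented {E F : CochainComplex X.Modules ℤ} (hE : DCoh.IsStrictlyPerfect E)
    (α : DCoh.toD X E ⟶ DCoh.toD X F) (x : X) :
    ∃ V : X.Opens, x ∈ V ∧ ∀ [PreservesFiniteLimits (Scheme.Modules.restrictFunctor V.ι)],
      ∃ β : (DCoh.restrictCx V).obj E ⟶ (DCoh.restrictCx V).obj F,
        (DCoh.restrictD V.ι).map α =
          (Scheme.Modules.restrictFunctor V.ι).mapDerivedCategoryFactors.hom.app E ≫ DerivedCategory.Q.map β ≫
            (Scheme.Modules.restrictFunctor V.ι).mapDerivedCategoryFactors.inv.app F := by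
  obtain ⟨F', g, s, hs, rfl⟩ := DerivedCategory.left_fac α
  have : QuasiIso s := (DerivedCategory.isIso_Q_map_iff_quasiIso _ s).1 hs
  obtain ⟨⟨a, b, hz⟩, -⟩ := id hE
  obtain ⟨V, β, hx, ⟨H⟩⟩ := exists_lift g s hE a (fun i hi => hz i (Or.inl hi))
    (fun j _ => inferInstance) inferInstance x
  refine ⟨V, hx, fun {_} => ⟨β, ?_⟩⟩
  let Φ := (Scheme.Modules.restrictFunctor V.ι).mapDerivedCategoryFactors
  let D := DCoh.restrictD V.ι
  have : IsIso (D.map (DerivedCategory.Q.map s)) := inferInstance
  rw [D.map_comp, Functor.map_inv]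
  rw [IsIso.comp_inv_eq]
  have h1 : D.map (DerivedCategory.Q.map g) = Φ.hom.app E ≫ DerivedCategory.Q.map ((DCoh.restrictCx V).map g) ≫ Φ.inv.app F' :=
    (NatIso.naturality_2 Φ g).symm
  have h2 : D.map (DerivedCategory.Q.map s) = Φ.hom.app F ≫ DerivedCategory.Q.map ((DCoh.restrictCx V).map s) ≫ Φ.inv.app F' :=
    (NatIso.naturality_2 Φ s).symm
  rw [h1, h2, ← Q_map_homotopic H, Functor.map_comp]
  simp [Φ]

end Groth.Agent.DCohPerf
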