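import Groth.Agent.DCohPerf.HTop
import Mathlib.Algebra.Homology.DerivedCategory.FullyFaithful
import Mathlib.Algebra.Homology.DerivedCategory.SingleTriangle
import Mathlib.Algebra.Homology.DerivedCategory.TStructure

/-!
Modules in degree zero as perfect / pseudo-coherent objects.
-/

set_option autoImplicit false

universe u

open CategoryTheory CategoryTheory.Limits CategoryTheory.Pretriangulated AlgebraicGeometry TopologicalSpace
  HomologicalComplex

attribute [local instance] HasDerivedCategory.standard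

namespace Groth.Agent.DCohPerf

variable {X Y Z : Scheme.{u}}

lemma isPerfect_restrict {K : DCoh.D X} (h : DCoh.IsPerfect K) (j : Y ⟶ X) [IsOpenImmersion j] :
    DCoh.IsPerfect ((RD j).obj K) := by
  refine (isPerfect_iff _).2 fun y => ?_
  obtain ⟨W, k, hk, w, hw, hs⟩ := (isPerfect_iff K).1 h (j y)
  obtain ⟨V, hV₁, hV₂⟩ := Scheme.Pullback.exists_preimage_pullback w y hw
  obtain ⟨E, hE, ⟨e⟩⟩ := spOn_congr (pullback.condition (f := k) (g := j)) (spOn_comp hs (pullback.fst k j))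
  exact ⟨pullback k j, pullback.snd k j, inferInstance, V, hV₂, E, hE, ⟨e ≪≫ (RDComp (pullback.snd k j) j).app K⟩⟩

lemma isPC_restrict {m : ℤ} {K : DCoh.D X} (h : DCoh.IsPseudoCoherentD m K) (j : Y ⟶ X) [IsOpenImmersion j] :
    DCoh.IsPseudoCoherentD m ((RD j).obj K) := by
  refine (isPC_iff m _).2 fun y => ?_
  obtain ⟨W, k, hk, w, hw, hs⟩ := (isPC_iff m K).1 h (j y)
  obtain ⟨V, hV₁, hV₂⟩ := Scheme.Pullback.exists_preimage_pullback w y hw
  obtain ⟨E, α, hE, hα⟩ := pcOn_congr (pullback.condition (f := k) (g := j)) (pcOn_comp hs (pullback.fst k j))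
  exact ⟨pullback k j, pullback.snd k j, inferInstance, V, hV₂, E,
    α ≫ (RDComp (pullback.snd k j) j).hom.app K, hE,
    hα.comp (nq_of_isIso m ((RDComp (pullback.snd k j) j).app K).hom)⟩

lemma isPerfect_of_locally {K : DCoh.D X} (h : ∀ x : X, ∃ (W : Scheme.{u}) (j : W ⟶ X) (_ : IsOpenImmersion j) (w : W),
    j w = x ∧ DCoh.IsPerfect ((RD j).obj K)) : DCoh.IsPerfect K := by
  refine (isPerfect_iff _).2 fun x => ?_
  obtain ⟨W, j, hj, w, hw, hK⟩ := h x
  obtain ⟨V, g, hg, v, hv, E, hE, ⟨e⟩⟩ := (isPerfect_iff _).1 hK w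
  exact ⟨V, g ≫ j, inferInstance, v, by rw [Scheme.Hom.comp_apply, hv, hw], E, hE, ⟨e ≪≫ ((RDComp g j).app K).symm⟩⟩

lemma isPC_of_locally {m : ℤ} {K : DCoh.D X} (h : ∀ x : X, ∃ (W : Scheme.{u}) (j : W ⟶ X) (_ : IsOpenImmersion j)
    (w : W), j w = x ∧ DCoh.IsPseudoCoherentD m ((RD j).obj K)) : DCoh.IsPseudoCoherentD m K := by
  refine (isPC_iff m _).2 fun x => ?_
  obtain ⟨W, j, hj, w, hw, hK⟩ := h x
  obtain ⟨V, g, hg, v, hv, E, α, hE, hα⟩ := (isPC_iff m _).1 hK w
  exact ⟨V, g ≫ j, inferInstance, v, by rw [Scheme.Hom.comp_apply, hv, hw], E, α ≫ ((RDComp g j).app K).inv, hE,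
    hα.comp (nq_of_isIso m _)⟩

lemma isPerfect_of_sp {E : CochainComplex X.Modules ℤ} (h : DCoh.IsStrictlyPerfect E) :
    DCoh.IsPerfect (DCoh.toD X E) :=
  (isPerfect_iff _).2 fun x => ⟨X, 𝟙 X, inferInstance, x, rfl, (rC (𝟙 X)).obj E, sp_restrict h _,
    ⟨(RQ (𝟙 X) E).symm⟩⟩

lemma isFinLocFree_isZero {M : X.Modules} (h : IsZero M) : FlatMod.IsFinLocFree M := fun x =>
  ⟨⊤, 0, Opens.mem_top x, ⟨IsZero.iso ((Scheme.Modules.restrictFunctor _).map_isZero h)
    ((IsZero.iff_id_eq_zero _).2 (Sigma.hom_ext _ _ fun i => i.elim0))⟩⟩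

lemma sp_single {M : X.Modules} (h : FlatMod.IsFinLocFree M) (k : ℤ := 0) :
    DCoh.IsStrictlyPerfect ((HomologicalComplex.single X.Modules (ComplexShape.up ℤ) k).obj M) := by
  refine ⟨⟨k, k, fun i hi => HomologicalComplex.isZero_single_obj_X (ComplexShape.up ℤ) k M i (by omega)⟩, fun i => ?_⟩
  by_cases hi : i = k
  · subst hi
    exact LocFree.IsFinLocFree.of_iso (HomologicalComplex.singleObjXSelf (ComplexShape.up ℤ) i M).symm h
  · exact isFinLocFree_isZero (HomologicalComplex.isZero_single_obj_X (ComplexShape.up ℤ) k M i hi)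

/-- A module in degree `0` as the image of a complex. -/
noncomputable def inDIso (M : X.Modules) :
    DCoh.inD X M ≅ DCoh.toD X ((HomologicalComplex.single X.Modules (ComplexShape.up ℤ) 0).obj M) :=
  (DerivedCategory.singleFunctorIsoCompQ X.Modules 0).app M

/-- Restriction commutes with placing in degree `0`. -/
noncomputable def RDsingle (j : Y ⟶ X) [IsOpenImmersion j] (M : X.Modules) :
    (RD j).obj (DCoh.inD X M) ≅ DCoh.inD Y ((rF j).obj M) :=
  (RD j).mapIso (inDIso M) ≪≫ RQ j _ ≪≫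
    DerivedCategory.Q.mapIso ((HomologicalComplex.singleMapHomologicalComplex (rF j) (ComplexShape.up ℤ) 0).app M) ≪≫
      (inDIso ((rF j).obj M)).symm

lemma isPerfect_inD_of_finLocFree {M : X.Modules} (h : FlatMod.IsFinLocFree M) : DCoh.IsPerfect (DCoh.inD X M) :=
  isPerfect_of_iso (isPerfect_of_sp (sp_single h)) (inDIso M).symm

lemma isZero_HD_inD (M : X.Modules) (i : ℤ) (hi : i ≠ 0) : IsZero (DCoh.HD (DCoh.inD X M) i) := by
  rcases lt_or_gt_of_ne hi with h | h
  · exact DerivedCategory.isZero_of_isGE _ 0 i h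
  · exact DerivedCategory.isZero_of_isLE _ 0 i h

/-- `H^0(M[0]) = M`. -/
noncomputable def HDZeroIso (M : X.Modules) : DCoh.HD (DCoh.inD X M) 0 ≅ M :=
  (DerivedCategory.singleFunctorCompHomologyFunctorIso X.Modules 0).app M

lemma nq_single_of_epi {M N : X.Modules} (p : M ⟶ N) [Epi p] :
    NQ 0 ((DerivedCategory.singleFunctor X.Modules 0).map p) := by
  refine ⟨fun i hi => ?_, ?_⟩
  · exact ⟨⟨0, (isZero_HD_inD M i (by omega)).eq_of_src _ _, (isZero_HD_inD N i (by omega)).eq_of_src _ _⟩⟩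
  · exact ((MorphismProperty.epimorphisms X.Modules).arrow_mk_iso_iff
      (Arrow.isoMk (HDZeroIso M) (HDZeroIso N)
        ((DerivedCategory.singleFunctorCompHomologyFunctorIso X.Modules 0).hom.naturality p).symm)).2
      (inferInstanceAs (Epi p))

theorem isPC_zero_of_isFT {M : X.Modules} (h : CohB1.IsFT M) : DCoh.IsPseudoCoherentD 0 (DCoh.inD X M) :=
  isPC_of_locally fun x => by
    obtain ⟨W, j, hj, w, hw, n, p, hp⟩ := exists_free_epi h x
    exact ⟨W, j, hj, w, hw, isPC_of_iso (isPC_of_nq (isPC_of_isPerfect (isPerfect_inD_of_finLocFree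
      (isFinLocFree_free n))) _ (nq_single_of_epi p)) (RDsingle j M).symm⟩

theorem isPC_negOne_of_isFP {M : X.Modules} (h : CohB1.IsFP M) : DCoh.IsPseudoCoherentD (-1) (DCoh.inD X M) :=
  isPC_of_locally fun x => by
    obtain ⟨W, j, hj, w, hw, m, n, f, g, z, hS, hg⟩ := exists_free_exact h x
    let S := ShortComplex.mk (kernel.ι g) g (kernel.condition g)
    have hse : S.ShortExact :=
      { exact := ShortComplex.exact_of_f_is_kernel _ (kernelIsKernel g), mono_f := inferInstanceAs (Mono (kernel.ι g))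
        epi_g := hg }
    have he : Epi (kernel.lift g f z) := hS.epi_kernelLift
    let F := DerivedCategory.singleFunctor W.Modules 0
    obtain ⟨Z, p, q, hZ⟩ := distinguished_cocone_triangle (F.map f)
    obtain ⟨γ, hγ⟩ := exists_nq_third hse.singleTriangle_distinguished (-1) (F.map (kernel.lift g f z))
      (Iso.refl (F.obj (FlatMod.freeMod W n))).hom (NQ.mono (nq_single_of_epi (kernel.lift g f z)) (by omega))
      (nq_of_isIso (-1) (Iso.refl (F.obj (FlatMod.freeMod W n))).hom) (F.map f)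
      (by show F.map f ≫ 𝟙 _ = F.map (kernel.lift g f z) ≫ F.map (kernel.ι g); simp [← Functor.map_comp]) p q hZ
    exact ⟨W, j, hj, w, hw, isPC_of_iso (isPC_of_nq (isPC_of_isPerfect (isPerfect_triangle₃ hZ
      (isPerfect_inD_of_finLocFree (isFinLocFree_free m)) (isPerfect_inD_of_finLocFree (isFinLocFree_free n)))) γ hγ)
      (RDsingle j M).symm⟩

theorem isPC_zero_iff (M : X.Modules) : DCoh.IsPseudoCoherentD 0 (DCoh.inD X M) ↔ CohB1.IsFT M :=
  ⟨fun h => isFT_of_epi (HDZeroIso M).hom (isFT_top 0 h fun i hi => isZero_HD_inD M i (by omega)), isPC_zero_of_isFT⟩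

theorem isPC_negOne_iff (M : X.Modules) : DCoh.IsPseudoCoherentD (-1) (DCoh.inD X M) ↔ CohB1.IsFP M :=
  ⟨fun h => by
    have h' := isFP_top_succ (-1) h fun i hi => isZero_HD_inD M i (by omega)
    exact isFP_of_iso (HDZeroIso M) h', isPC_negOne_of_isFP⟩

end Groth.Agent.DCohPerf
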