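import Groth.Agent.DCohPerf.Coherent
import Groth.Agent.DCohPerf.HTop
import Groth.Agent.DCohPerf.Summand
import Groth.Agent.DCohPerf.AmpLocal
import Groth.Agent.DCohPerf.PerfAmp
import Groth.Agent.DCohPerf.CohPC
import Groth.Agent.DRingPC.Module
import Groth.Agent.DRingPC.Amplitude
import Groth.Agent.ModGroth.TildeAmp
import Groth.Agent.S9826

/-!
# Pseudo-coherence and perfection of `M~`
-/

universe u

open CategoryTheory CategoryTheory.Limits CategoryTheory.Pretriangulated AlgebraicGeometry HomologicalComplex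

attribute [local instance] HasDerivedCategory.standard

namespace Groth.Agent.DCohPerf

variable {R : CommRingCat.{u}} [PreservesFiniteLimits (tilde.functor R)]

open ModGroth.Stalk in
/-- Cohomology of `M~`. -/
noncomputable def tildeHD (M : Dual.D R) (i : ℤ) :
    DCoh.HD ((DCoh.tildeD R).obj M) i ≅ tilde ((DerivedCategory.homologyFunctor (ModuleCat.{u} R) i).obj M) :=
  haveI := preservesHomology_tilde (R := R)
  (DerivedCategory.homologyFunctor (Spec R).Modules i).mapIso
      (tildeDIso (DerivedCategory.Q.objObjPreimageIso M)).symm ≪≫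
    (DerivedCategory.homologyFunctorFactors (Spec R).Modules i).app _ ≪≫
    ((DerivedCategory.Q.objPreimage M).sc i).mapHomologyIso (tilde.functor R) ≪≫
    (tilde.functor R).mapIso (((DerivedCategory.homologyFunctorFactors (ModuleCat.{u} R) i).app _).symm ≪≫
      (DerivedCategory.homologyFunctor (ModuleCat.{u} R) i).mapIso (DerivedCategory.Q.objObjPreimageIso M))

lemma isZero_HD_tildeD {M : Dual.D R} {i : ℤ}
    (h : IsZero ((DerivedCategory.homologyFunctor (ModuleCat.{u} R) i).obj M)) :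
    IsZero (DCoh.HD ((DCoh.tildeD R).obj M) i) :=
  ((tilde.functor R).map_isZero h).of_iso (tildeHD M i)

lemma nq_tildeD {m : ℤ} {K L : Dual.D R} {α : K ⟶ L} (h : NQ m α) : NQ m ((DCoh.tildeD R).map α) := by
  obtain ⟨C, g, d, hT⟩ := distinguished_cocone_triangle α
  exact (nq_iff ((DCoh.tildeD R).map_distinguished _ hT) m).2
    fun i hi => isZero_HD_tildeD ((nq_iff hT m).1 h i hi)

omit [PreservesFiniteLimits (tilde.functor R)] in
lemma sp_tilde {E : DRing.Cx R} {a b : ℤ} (hz : DRing.VanishesOutside E a b)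
    (hE : ∀ i, Module.Finite R (E.X i) ∧ Module.Projective R (E.X i)) :
    DCoh.IsStrictlyPerfect ((ModGroth.Stalk.tcxS R).obj E) :=
  ⟨⟨a, b, fun i hi => (tilde.functor R).map_isZero (hz i hi)⟩,
    fun i => @LocFree.isFinLocFree_tilde R (E.X i) (hE i).1 (hE i).2⟩

lemma isPerfect_tildeD {M : Dual.D R} (h : DRing.IsPerfect R M) : DCoh.IsPerfect ((DCoh.tildeD R).obj M) := by
  obtain ⟨E, a, b, hz, hE, ⟨e⟩⟩ := h
  exact isPerfect_of_iso (isPerfect_of_sp (sp_tilde hz hE)) (ModGroth.Stalk.tildeDIso e)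

lemma isPC_tildeD {M : Dual.D R} {m : ℤ} (h : DRing.IsPseudoCoherent R m M) :
    DCoh.IsPseudoCoherentD m ((DCoh.tildeD R).obj M) := by
  obtain ⟨E, a, b, α, hz, hE, h1, h2⟩ := h
  refine isPC_of_nq (isPC_of_isPerfect (m := m) (isPerfect_tildeD (M := DRing.toD E) ?_)) _
    (nq_tildeD (α := α) ⟨h1, h2⟩)
  exact ⟨E, a, b, hz, fun i => have := (hE i).2; ⟨(hE i).1, Module.Projective.of_free⟩, ⟨Iso.refl _⟩⟩

omit [PreservesFiniteLimits (tilde.functor R)] in
lemma exists_topBound {X : Scheme.{u}} [CompactSpace X] {K : DCoh.D X} {m : ℤ}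
    (h : DCoh.IsPseudoCoherentD m K) : ∃ b : ℤ, ∀ i, b < i → IsZero (DCoh.HD K i) := by
  choose W j hj w hw N hN hz using exists_bound_of_isPC h
  obtain ⟨s, hs⟩ := isCompact_univ.elim_finite_subcover (fun x => ((j x).opensRange : Set X))
    (fun x => (j x).opensRange.isOpen) (fun x _ => Set.mem_iUnion.2 ⟨x, w x, hw x⟩)
  obtain ⟨B, hB⟩ := (s.image N).bddAbove
  refine ⟨B, fun i hi => isZero_of_cover (fun x : s => j x.1) (fun x => ?_) fun x => ?_⟩
  · obtain ⟨y, hy, hxy⟩ := Set.mem_iUnion₂.1 (hs (Set.mem_univ x))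
    exact ⟨⟨y, hy⟩, hxy⟩
  · exact (hz x.1 i ((hB (Finset.mem_image_of_mem N x.2)).trans hi.le)).of_iso
      (homology_restrict (j x.1) K i).some.symm

open Groth.Agent.PCohLib Groth.Agent.DRingPC in
lemma npc_aux (m : ℤ) : ∀ (k : ℕ) (M : Dual.D R) (b : ℤ), b < m + k → M.IsLE b →
    DCoh.IsPseudoCoherentD m ((DCoh.tildeD R).obj M) → PCohLib.NPC (FF R) m M := by
  intro k
  induction k with
  | zero => exact fun M b hb hM _ => NPC_of_isLE M (b := b) (by simpa using hb)
  | succ k ih =>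
    intro M b hb hM hpc
    by_cases hbm : b < m
    · exact NPC_of_isLE M hbm
    obtain ⟨P, -, hPz, ⟨e⟩⟩ := exists_projective_rep R M b
    have hft : CohB1.IsFT (DCoh.HD ((DCoh.tildeD R).obj M) b) :=
      DCohPerf.isFT_top b (isPC_mono hpc (by omega)) fun i hi => isZero_HD_tildeD (M.isZero_of_isLE b i hi)
    let e' : (DerivedCategory.homologyFunctor (ModuleCat.{u} R) b).obj M ≅ P.homology b :=
      (DerivedCategory.homologyFunctor _ b).mapIso e.symm ≪≫ (DerivedCategory.homologyFunctorFactors _ b).app P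
    have : Module.Finite R (P.homology b : ModuleCat.{u} R) :=
      (Groth.Agent.S9826.result R _).1
        (DCohPerf.isFT_of_epi ((tildeHD M b) ≪≫ (tilde.functor R).mapIso e').hom hft)
    obtain ⟨n, f, hf⟩ := Module.Finite.exists_fin' R (P.homology b : ModuleCat.{u} R)
    have hπ : Function.Surjective (P.homologyπ b).hom :=
      (ModuleCat.epi_iff_surjective _).1 inferInstance
    obtain ⟨l, hl⟩ := Module.projective_lifting_property (P.homologyπ b).hom f hπ
    let F : ModuleCat.{u} R := ModuleCat.of R (Fin n → R)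
    let γ : F ⟶ P.cycles b := ModuleCat.ofHom l
    have : Epi (γ ≫ P.homologyπ b) := by
      rw [ModuleCat.epi_iff_surjective]
      intro y
      obtain ⟨v, rfl⟩ := hf y
      exact ⟨v, LinearMap.congr_fun hl v⟩
    have hex : ExactFrom (b + 1) P := fun i hi => ShortComplex.exact_of_isZero_X₂ _ (hPz i (by omega))
    have hN := NQ_mkHomFromSingle γ hex
    let E := (HomologicalComplex.single (ModuleCat.{u} R) (ComplexShape.up ℤ) b).obj F
    let u : E ⟶ P := mkHomFromSingle (c := ComplexShape.up ℤ) (γ ≫ P.iCycles b) (fun k _ => by simp)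
    let φ : DRing.toD E ⟶ M := DerivedCategory.Q.map u ≫ e.hom
    have hφ : DCohPerf.NQ b φ := DCohPerf.NQ.comp
      ⟨fun i hi => (isIso_homologyMap_Q_iff u i).2 (hN.1 i hi), (epi_homologyMap_Q_iff u b).2 hN.2⟩
      (nq_of_isIso b e.hom)
    obtain ⟨C, g, d, hT⟩ := distinguished_cocone_triangle φ
    have hC : C.IsLE (b - 1) :=
      (DerivedCategory.isLE_iff C (b - 1)).2 fun i hi => (DCohPerf.nq_iff hT b).1 hφ i (by omega)
    have hzE : DRing.VanishesOutside E b b := fun i hi =>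
      HomologicalComplex.isZero_single_obj_X _ _ _ _ (by omega)
    have hFE : ∀ i, FF R (E.X i) := fun i => by
      by_cases hi : i = b
      · subst hi
        exact (FF R).prop_of_iso (HomologicalComplex.singleObjXSelf (ComplexShape.up ℤ) i F).symm
          ⟨inferInstanceAs (Module.Finite R (Fin n → R)), inferInstanceAs (Module.Free R (Fin n → R))⟩
      · exact (FF R).prop_of_isZero (HomologicalComplex.isZero_single_obj_X _ _ _ _ hi)
    have hEperf : DRing.IsPerfect R (DRing.toD E) :=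
      ⟨E, b, b, hzE, fun i => (hFE i).toFPj, ⟨Iso.refl _⟩⟩
    have hpcC : DCoh.IsPseudoCoherentD m ((DCoh.tildeD R).obj C) :=
      DCohPerf.isPC_triangle₃ m ((DCoh.tildeD R).map_distinguished _ hT)
        (isPC_of_isPerfect (isPerfect_tildeD hEperf)) hpc
    have hE : PCohLib.NPC (FF R) m (DRing.toD E) :=
      NPC.mk ⟨⟨b, fun i hi => hzE i (Or.inr hi)⟩, fun i _ => hFE i⟩ (Iso.refl _)
    exact NPC.of_triangle₂ (FF.sum R) (FF.qs R) (FF.ql R) hT hE (ih C (b - 1) (by omega) hC hpcC)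

/-- Pseudo-coherence of `M~` is that of `M`. -/
theorem isPC_tildeD_iff (M : Dual.D R) (m : ℤ) :
    DCoh.IsPseudoCoherentD m ((DCoh.tildeD R).obj M) ↔ DRing.IsPseudoCoherent R m M := by
  refine ⟨fun h => ?_, isPC_tildeD⟩
  obtain ⟨b, hb⟩ := exists_topBound h
  exact (DRingPC.isPC_iff_NPC R m M).2 (npc_aux m (b - m + 1).toNat M b (by omega)
    (ModGroth.Stalk.isLE_of_tildeD M b hb) h)

omit [PreservesFiniteLimits (tilde.functor R)] in
lemma exists_flatAmp_of_isPerfect {X : Scheme.{u}} [CompactSpace X] {K : DCoh.D X} (h : DCoh.IsPerfect K) :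
    ∃ a b : ℤ, a ≤ b ∧ DCoh.HasFlatAmplitudeIn a b K := by
  choose W j hj w hw hs using (isPerfect_iff K).1 h
  choose E hE he using hs
  choose a b hz using fun x => (hE x).1
  obtain ⟨s, hs⟩ := isCompact_univ.elim_finite_subcover (fun x => ((j x).opensRange : Set X))
    (fun x => (j x).opensRange.isOpen) (fun x _ => Set.mem_iUnion.2 ⟨x, w x, hw x⟩)
  obtain ⟨A, hA⟩ := (s.image a).bddBelow
  obtain ⟨B, hB⟩ := (s.image b).bddAbove
  refine ⟨min A B, B, min_le_right _ _, flatAmp_of_locally fun x => ?_⟩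
  obtain ⟨y, hy, v, hv⟩ := Set.mem_iUnion₂.1 (hs (Set.mem_univ x))
  refine ⟨W y, j y, hj y, v, hv, E y, fun i hi => hz y i ?_,
    fun i => ModGroth.Perf.isFlat_of_isFinLocFree ((hE y).2 i), he y⟩
  have := hA (Finset.mem_image_of_mem a hy)
  have := hB (Finset.mem_image_of_mem b hy)
  omega

/-- Perfection of `M~` is that of `M`. -/
theorem isPerfect_tildeD_iff (M : Dual.D R) :
    DCoh.IsPerfect ((DCoh.tildeD R).obj M) ↔ DRing.IsPerfect R M := by
  refine ⟨fun h => ?_, isPerfect_tildeD⟩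
  obtain ⟨a, b, hab, hamp⟩ := exists_flatAmp_of_isPerfect h
  obtain ⟨E, hz, hE, e⟩ := DRingPC.exists_amplitude_rep hab
    ((isPC_tildeD_iff M (a - 1)).1 (isPC_of_isPerfect h))
    ((ModGroth.Stalk.flatAmp_tildeD_iff M a b).1 hamp)
  exact ⟨E, a, b, hz, hE, e⟩

end Groth.Agent.DCohPerf
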